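import Groth.Agent.Lib.TensorMod.Dual
import Groth.Prelude.Def_Pic

/-!
Invertible modules as modules with local free generators.
-/

universe u

open CategoryTheory CategoryTheory.Limits AlgebraicGeometry Opposite TopologicalSpace

namespace Groth.Agent.Lib.TensorMod.Gen

open Dual

variable {X : Scheme.{u}}

/-- `e` freely generates `L` over `U`. -/
def IsGen (L : X.Modules) (U : X.Opens) (e : Γ(L, U)) : Prop :=
  ∀ (V : X.Opens) (h : V ≤ U), Function.Bijective fun a : Γ(X, V) => a • rs L h e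

lemma IsGen.res {L : X.Modules} {U V : X.Opens} {e : Γ(L, U)} (he : IsGen L U e) (h : V ≤ U) :
    IsGen L V (rs L h e) := fun W hW => by
  simpa only [rs_rs] using he W (hW.trans h)

/-- The unit section. -/
noncomputable abbrev one (X : Scheme.{u}) (U : X.Opens) : Γ(Coh.structureModule X, U) :=
  (1 : Γ(X, U))

variable {L : X.Modules} {U : X.Opens}

lemma smul_one_eq {Z : Scheme.{u}} {W : Z.Opens} (a : Γ(Z, W)) :
    (show Γ(Coh.structureModule Z, W) from a) = a • one Z W :=
  (mul_one a).symm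

lemma app_eq_smul {Z : Scheme.{u}} {M : Z.Modules} (φ : Coh.structureModule Z ⟶ M) {W : Z.Opens}
    (a : Γ(Z, W)) :
    φ.app W (show Γ(Coh.structureModule Z, W) from a) = a • φ.app W (one Z W) :=
  (congrArg (φ.app W) (smul_one_eq a)).trans (φ.app_smul a (one Z W))

lemma rs_app_one {Z : Scheme.{u}} {M : Z.Modules} (φ : Coh.structureModule Z ⟶ M)
    {V W : Z.Opens} (h : V ≤ W) : rs M h (φ.app W (one Z W)) = φ.app V (one Z V) :=
  (PresheafOfModules.naturality_apply φ.val (homOfLE h).op (one Z W)).symm.trans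
    (congrArg (φ.app V) (map_one (Z.presheaf.map (homOfLE h).op).hom))

lemma exists_hom_of_family {Z : Scheme.{u}} {M : Z.Modules} (s : ∀ W : Z.Opens, Γ(M, W))
    (hs : ∀ (V W : Z.Opens) (h : V ≤ W), rs M h (s W) = s V) :
    ∃ φ : Coh.structureModule Z ⟶ M, ∀ W, φ.app W (one Z W) = s W := by
  let t : SheafOfModules.sections (R := Z.ringCatSheaf) M :=
    PresheafOfModules.sectionsMk (fun W => s W.unop) fun {W W'} g => hs W'.unop W.unop g.unop.le
  exact ⟨(SheafOfModules.unitHomEquiv (R := Z.ringCatSheaf) M).symm t, fun W =>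
    congrArg (fun u => u.val (op W))
      ((SheafOfModules.unitHomEquiv (R := Z.ringCatSheaf) M).apply_symm_apply t)⟩

lemma restrict_smul {Y : Scheme.{u}} (f : Y ⟶ X) [IsOpenImmersion f] (M : X.Modules)
    {W : Y.Opens} (r : Γ(Y, W)) (x : Γ(M.restrict f, W)) :
    (M.restrictAppIso f W).hom (r • x) =
      (f.appIso W).inv r • (M.restrictAppIso f W).hom x :=
  rfl

lemma exists_gen_of_iso (i : L.restrict U.ι ≅ Coh.structureModule (↑U)) :
    ∃ e : Γ(L, U), IsGen L U e := by
  have hU : U.ι ''ᵁ ⊤ = U := by simp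
  let e : Γ(L, U) := rs L hU.ge ((L.restrictAppIso U.ι ⊤).hom (i.inv.app ⊤ (one _ ⊤)))
  refine ⟨e, fun V hV => ?_⟩
  obtain ⟨W, rfl⟩ : ∃ W : (U : Scheme.{u}).Opens, U.ι ''ᵁ W = V :=
    ⟨U.ι ⁻¹ᵁ V, by rw [Scheme.Hom.image_preimage_eq_opensRange_inf, Scheme.Opens.opensRange_ι]
                   exact inf_eq_right.2 hV⟩
  have key : rs L hV e = (L.restrictAppIso U.ι W).hom (i.inv.app W (one _ W)) := by
    rw [rs_rs]
    exact congrArg (L.restrictAppIso U.ι W).hom (rs_app_one i.inv (le_top (a := W)))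
  have h : (fun a : Γ(X, U.ι ''ᵁ W) => a • rs L hV e) ∘ (U.ι.appIso W).inv =
      ((L.restrictAppIso U.ι W).hom ∘ i.inv.app W :) := by
    funext a
    rw [Function.comp_apply, key, ← restrict_smul]
    exact congrArg (L.restrictAppIso U.ι W).hom (app_eq_smul i.inv a).symm
  refine (Function.Bijective.of_comp_iff _
    (ConcreteCategory.bijective_of_isIso (U.ι.appIso W).inv)).1 ?_
  rw [h]
  exact (ConcreteCategory.bijective_of_isIso (L.restrictAppIso U.ι W).hom).comp
    (ConcreteCategory.bijective_of_isIso (i.inv.app W))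

lemma exists_iso_of_gen {e : Γ(L, U)} (he : IsGen L U e) :
    Nonempty (L.restrict U.ι ≅ Coh.structureModule (↑U)) := by
  let s : ∀ W : (U : Scheme.{u}).Opens, Γ(L.restrict U.ι, W) := fun W =>
    (L.restrictAppIso U.ι W).inv (rs L (U.ι_image_le W) e)
  have hs : ∀ (V W : (U : Scheme.{u}).Opens) (h : V ≤ W), rs (L.restrict U.ι) h (s W) = s V :=
    fun V W h => rs_rs L (U.ι_image_le W) (Scheme.Hom.image_mono U.ι h) e
  have hb : ∀ W, Function.Bijective fun a : Γ((U : Scheme.{u}), W) => a • s W := fun W =>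
    (he _ (U.ι_image_le W)).comp (ConcreteCategory.bijective_of_isIso (U.ι.appIso W).inv)
  obtain ⟨φ, hφ⟩ := exists_hom_of_family s hs
  have : IsIso φ := by
    rw [Scheme.Modules.Hom.isIso_iff_isIso_app]
    intro W
    refine (ConcreteCategory.isIso_iff_bijective _).2 ?_
    refine (iff_of_eq (congrArg Function.Bijective (funext fun a : Γ((U : Scheme.{u}), W) => ?_))).2 (hb W)
    exact (app_eq_smul φ a).trans (congrArg (a • ·) (hφ W))
  exact ⟨(asIso φ).symm⟩

theorem isInvertible_iff :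
    PicF.IsInvertible L ↔ ∀ x : X, ∃ (U : X.Opens) (e : Γ(L, U)), x ∈ U ∧ IsGen L U e := by
  constructor
  · intro h x
    obtain ⟨U, hx, ⟨i⟩⟩ := h x
    obtain ⟨e, he⟩ := exists_gen_of_iso i
    exact ⟨U, e, hx, he⟩
  · intro h x
    obtain ⟨U, e, hx, he⟩ := h x
    exact ⟨U, hx, exists_iso_of_gen he⟩

end Groth.Agent.Lib.TensorMod.Gen
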