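import Groth.Agent.Lib.TensorMod.Pullback
import Groth.Agent.Lib.TensorMod.Gen

/-!
Invertible modules: closed under tensor product, inverse, the group law on isomorphism classes.
-/

universe u

open CategoryTheory CategoryTheory.Limits AlgebraicGeometry MonoidalCategory Opposite
  TopologicalSpace

namespace Groth.Agent.Lib.TensorMod.Invertible

open Basic Free Pullback Dual Gen
open Groth.Agent.Lib.TensorMod.Whisker (res pair)

variable {X : Scheme.{u}}

lemma isInvertible_of_iso {L M : X.Modules} (e : L ≅ M) (h : PicF.IsInvertible L) :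
    PicF.IsInvertible M := fun x => by
  obtain ⟨U, hx, ⟨i⟩⟩ := h x
  exact ⟨U, hx, ⟨(Scheme.Modules.restrictFunctor U.ι).mapIso e.symm ≪≫ i⟩⟩

lemma exists_common_trivialization {L M : X.Modules} (hL : PicF.IsInvertible L)
    (hM : PicF.IsInvertible M) (x : X) :
    ∃ U : X.Opens, x ∈ U ∧ Nonempty (L.restrict U.ι ≅ Coh.structureModule (↑U)) ∧
      Nonempty (M.restrict U.ι ≅ Coh.structureModule (↑U)) := by
  obtain ⟨U, e, hxU, he⟩ := isInvertible_iff.1 hL x
  obtain ⟨V, e', hxV, he'⟩ := isInvertible_iff.1 hM x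
  exact ⟨U ⊓ V, ⟨hxU, hxV⟩, exists_iso_of_gen (he.res inf_le_left),
    exists_iso_of_gen (he'.res inf_le_right)⟩

theorem isInvertible_tensorMod {L M : X.Modules} (hL : PicF.IsInvertible L)
    (hM : PicF.IsInvertible M) : PicF.IsInvertible (CohB1.tensorMod L M) := fun x => by
  obtain ⟨U, hx, ⟨i⟩, ⟨j⟩⟩ := exists_common_trivialization hL hM x
  exact ⟨U, hx, ⟨restrictTensorIso U.ι L M ≪≫ tensorIso i j ≪≫ leftUnit _⟩⟩

theorem isInvertible_tensorPow {L : X.Modules} (hL : PicF.IsInvertible L) :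
    ∀ n, PicF.IsInvertible (CohB1.tensorPow L n)
  | 0 => PicLoc.isInvertible_structureModule X
  | n + 1 => isInvertible_tensorMod (isInvertible_tensorPow hL n) hL

variable {L : X.Modules}

lemma exists_dual_gen {U : X.Opens} {e : Γ(L, U)} (he : IsGen L U e) :
    ∃ φ : DualSec L U, IsGen (dual L) U φ ∧ φ.app le_rfl e = 1 := by
  let E : ∀ V : {V : X.Opens // V ≤ U}, Γ(X, V.1) ≃ₗ[Γ(X, V.1)] Γ(L, V.1) := fun V =>
    LinearEquiv.ofBijective (LinearMap.toSpanSingleton _ _ (rs L V.2 e)) (he V.1 V.2)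
  have hE : ∀ (V : {V : X.Opens // V ≤ U}) (a : Γ(X, V.1)), E V a = a • rs L V.2 e :=
    fun _ _ => rfl
  have hE1 : ∀ (V : {V : X.Opens // V ≤ U}), (E V).symm (rs L V.2 e) = 1 := fun V =>
    (LinearEquiv.symm_apply_eq _).2 (by rw [hE, one_smul])
  let φ : DualSec L U := ⟨fun V => (E V).symm.toLinearMap, fun V W h x => by
    obtain ⟨a, rfl⟩ := (E V).surjective x
    change rf h ((E V).symm (E V a)) = (E W).symm (rs L h (E V a))
    rw [LinearEquiv.symm_apply_apply, eq_comm, LinearEquiv.symm_apply_eq, hE, hE, rs_smul, rs_rs]⟩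
  have hφ : ∀ (V : X.Opens) (h : V ≤ U), φ.app h (rs L h e) = 1 := fun V h => hE1 ⟨V, h⟩
  refine ⟨φ, fun V hV => ⟨fun a b hab => ?_, fun ψ => ?_⟩, ?_⟩
  · have h1 := congrArg (fun ψ : DualSec L V => ψ.app le_rfl (rs L hV e)) hab
    change rf le_rfl a * φ.app _ (rs L hV e) = rf le_rfl b * φ.app _ (rs L hV e) at h1
    rwa [hφ, mul_one, mul_one, rf_self, rf_self] at h1
  · let ψ' : DualSec L V := ψ
    refine ⟨ψ'.app le_rfl (rs L hV e), ?_⟩
    refine DualSec.ext fun W hW x => ?_
    obtain ⟨a, rfl⟩ := (E ⟨W, hW.trans hV⟩).surjective x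
    change rf hW (ψ'.app le_rfl (rs L hV e)) * φ.app (hW.trans hV) (a • rs L (hW.trans hV) e) =
      ψ'.app hW (a • rs L (hW.trans hV) e)
    rw [map_smul, map_smul, hφ, DualSec.compat, rs_rs, smul_eq_mul, smul_eq_mul, mul_one,
      mul_comm]
  · have := hφ U le_rfl
    rwa [rs_self] at this

theorem isInvertible_dual (hL : PicF.IsInvertible L) : PicF.IsInvertible (dual L) := by
  rw [isInvertible_iff] at hL ⊢
  intro x
  obtain ⟨U, e, hx, he⟩ := hL x
  obtain ⟨φ, hφ, -⟩ := exists_dual_gen he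
  exact ⟨U, φ, hx, hφ⟩

variable (L)

/-- Evaluation, on presheaves. -/
noncomputable def evPre :
    CohB1.tensorPre L (dual L) ⟶ (fgt X).obj (Coh.structureModule X) where
  app W := ModuleCat.MonoidalCategory.tensorLift (R := X.sheaf.obj.obj W)
    (M₁ := ((fgt X).obj L).obj W) (M₂ := ((fgt X).obj (dual L)).obj W)
    (M₃ := ((fgt X).obj (Coh.structureModule X)).obj W)
    (fun m φ => DualSec.app (U := W.unop) φ le_rfl m)
    (fun m m' φ => map_add (DualSec.app (U := W.unop) φ le_rfl) m m')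
    (fun r m φ => (DualSec.app (U := W.unop) φ le_rfl).map_smul r m)
    (fun m φ ψ => rfl)
    (fun r m φ => congrArg (· * DualSec.app (U := W.unop) φ le_rfl m) (rf_self le_rfl r))
  naturality {W W'} j := ModuleCat.MonoidalCategory.tensor_ext fun m φ =>
    (DualSec.compat (U := W.unop) φ le_rfl j.unop.le m).symm

variable {L}

/-- A pure tensor. -/
noncomputable def pure {U : X.Opens} (m : Γ(L, U)) (ψ : DualSec L U) :
    (CohB1.tensorPre L (dual L)).obj (op U) :=
  (show ((fgt X).obj L).obj (op U) from m) ⊗ₜ[X.sheaf.obj.obj (op U)]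
    (show ((fgt X).obj (dual L)).obj (op U) from ψ)

lemma evPre_pure {U : X.Opens} (m : Γ(L, U)) (ψ : DualSec L U) :
    ((evPre L).app (op U)).hom (pure m ψ) = ψ.app le_rfl m := rfl

lemma pure_smul {U : X.Opens} (a : Γ(X, U)) (m : Γ(L, U)) (ψ : DualSec L U) :
    pure (a • m) ψ = pure m (a • ψ) :=
  TensorProduct.smul_tmul (R := X.sheaf.obj.obj (op U)) (R' := X.sheaf.obj.obj (op U))
    (M := ((fgt X).obj L).obj (op U)) (N := ((fgt X).obj (dual L)).obj (op U)) a m ψ

lemma exists_eq_pure {U : X.Opens} {e : Γ(L, U)} (he : IsGen L U e) {φ : DualSec L U}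
    (hφ : IsGen (dual L) U φ) (t : (CohB1.tensorPre L (dual L)).obj (op U)) :
    ∃ a : Γ(X, U), t = pure (a • e) φ := by
  induction t using TensorProduct.induction_on with
  | zero =>
    exact ⟨0, ((congrArg (fun m => pure m φ) (zero_smul Γ(X, U) e)).trans
      (TensorProduct.zero_tmul _ _)).symm⟩
  | tmul m ψ =>
    obtain ⟨a, ha⟩ := (he U le_rfl).2 m
    obtain ⟨b, hb⟩ := (hφ U le_rfl).2 ψ
    simp only [rs_self] at ha hb
    subst ha hb
    refine ⟨b * a, Eq.trans ?_ (congrArg (fun m => pure m φ) (mul_smul b a e).symm)⟩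
    exact (pure_smul b (a • e) φ).symm
  | add t t' ht ht' =>
    obtain ⟨a, rfl⟩ := ht
    obtain ⟨a', rfl⟩ := ht'
    exact ⟨a + a', ((congrArg (fun m => pure m φ) (add_smul a a' e)).trans
      (TensorProduct.add_tmul _ _ _)).symm⟩

lemma isLocBij_evPre (hL : PicF.IsInvertible L) : IsLocBij (evPre L) := by
  rw [isInvertible_iff] at hL
  constructor
  · refine ⟨fun {V} t t' h => ?_⟩
    intro x hx
    obtain ⟨U, e, hxU, he⟩ := hL x
    have he' := he.res (inf_le_right : V.unop ⊓ U ≤ U)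
    obtain ⟨φ, hφ, h1⟩ := exists_dual_gen he'
    refine ⟨V.unop ⊓ U, homOfLE inf_le_left, ?_, ⟨hx, hxU⟩⟩
    change res (CohB1.tensorPre L (dual L)) (homOfLE inf_le_left).op t =
      res (CohB1.tensorPre L (dual L)) (homOfLE inf_le_left).op t'
    obtain ⟨a, ha⟩ := exists_eq_pure he' hφ (res _ (homOfLE inf_le_left).op t)
    obtain ⟨a', ha'⟩ := exists_eq_pure he' hφ (res _ (homOfLE inf_le_left).op t')
    have hev : ((evPre L).app (op (V.unop ⊓ U))).hom
          (res _ (homOfLE (inf_le_left : V.unop ⊓ U ≤ V.unop)).op t) =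
        ((evPre L).app (op (V.unop ⊓ U))).hom
          (res _ (homOfLE (inf_le_left : V.unop ⊓ U ≤ V.unop)).op t') :=
      (Whisker.res_app (evPre L) _ t).trans (Eq.trans (congrArg (res _ _) h)
        (Whisker.res_app (evPre L) _ t').symm)
    rw [ha, ha', evPre_pure, evPre_pure, map_smul, map_smul, h1] at hev
    simp only [smul_eq_mul, mul_one] at hev
    rw [ha, ha', hev]
  · refine ⟨fun {V} a => ?_⟩
    intro x hx
    obtain ⟨U, e, hxU, he⟩ := hL x
    have he' := he.res (inf_le_right : V ⊓ U ≤ U)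
    obtain ⟨φ, hφ, h1⟩ := exists_dual_gen he'
    let W := V ⊓ U
    let a' : Γ(X, W) := rf (inf_le_left : W ≤ V) a
    refine ⟨W, homOfLE inf_le_left, ⟨pure (a' • rs L inf_le_right e) φ, ?_⟩, ⟨hx, hxU⟩⟩
    change φ.app le_rfl (a' • rs L inf_le_right e) = a'
    rw [map_smul, h1, smul_eq_mul, mul_one]

/-- `L ⊗ L^∨ ≅ O`. -/
noncomputable def tensorDualIso (hL : PicF.IsInvertible L) :
    CohB1.tensorMod L (dual L) ≅ Coh.structureModule X :=
  @asIso _ _ _ _ ((sh X).map (evPre L)) (isIso_sh_map _ (isLocBij_evPre hL)) ≪≫ (asIso (adj X).counit).app (Coh.structureModule X)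

theorem exists_inverse (hL : PicF.IsInvertible L) :
    ∃ M : X.Modules, PicF.IsInvertible M ∧
      Nonempty (CohB1.tensorMod L M ≅ Coh.structureModule X) :=
  ⟨dual L, isInvertible_dual hL, ⟨tensorDualIso hL⟩⟩

/-- Cancellation by an invertible module. -/
noncomputable def cancelRight (hL : PicF.IsInvertible L) {M N : X.Modules}
    (i : CohB1.tensorMod M L ≅ CohB1.tensorMod N L) : M ≅ N :=
  (rightUnit M).symm ≪≫ tensorIso (Iso.refl M) (tensorDualIso hL).symm ≪≫
    (assoc M L (dual L)).symm ≪≫ tensorIso i (Iso.refl _) ≪≫ assoc N L (dual L) ≪≫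
      tensorIso (Iso.refl N) (tensorDualIso hL) ≪≫ rightUnit N

theorem isInvertibleCl_mulCl {c d : PicF.Cl X} (hc : PicF.IsInvertibleCl c)
    (hd : PicF.IsInvertibleCl d) : PicF.IsInvertibleCl (PicGrp.mulCl c d) := by
  obtain ⟨L, rfl, hL⟩ := hc
  obtain ⟨M, rfl, hM⟩ := hd
  exact ⟨_, rfl, isInvertible_tensorMod hL hM⟩

theorem mulCl_comm (c d : PicF.Cl X) : PicGrp.mulCl c d = PicGrp.mulCl d c := by
  induction c using Quot.ind with
  | mk L => induction d using Quot.ind with
    | mk M => exact Quot.sound ⟨comm L M⟩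

theorem mulCl_assoc (a b c : PicF.Cl X) :
    PicGrp.mulCl (PicGrp.mulCl a b) c = PicGrp.mulCl a (PicGrp.mulCl b c) := by
  induction a using Quot.ind with
  | mk L => induction b using Quot.ind with
    | mk M => induction c using Quot.ind with
      | mk N => exact Quot.sound ⟨assoc L M N⟩

theorem one_mulCl (c : PicF.Cl X) :
    PicGrp.mulCl (PicF.cl (Coh.structureModule X)) c = c := by
  induction c using Quot.ind with
  | mk L => exact Quot.sound ⟨leftUnit L⟩

/-- The group law on the Picard group. -/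
@[reducible] noncomputable def law (X : Scheme.{u}) : PicGrp.Law X :=
  have hinv : ∀ c : PicLoc.PicSet X, ∃ d : PicLoc.PicSet X,
      PicGrp.mulCl d.1 c.1 = PicF.cl (Coh.structureModule X) := by
    rintro ⟨c, L, rfl, hL⟩
    exact ⟨⟨_, _, rfl, isInvertible_dual hL⟩, Quot.sound ⟨comm _ _ ≪≫ tensorDualIso hL⟩⟩
  letI : Mul (PicLoc.PicSet X) := ⟨fun a b => ⟨PicGrp.mulCl a.1 b.1, isInvertibleCl_mulCl a.2 b.2⟩⟩
  letI : One (PicLoc.PicSet X) := ⟨PicLoc.unitPicSet X⟩
  letI : Inv (PicLoc.PicSet X) := ⟨fun a => (hinv a).choose⟩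
  letI G : CommGroup (PicLoc.PicSet X) :=
    { mul := (· * ·)
      one := 1
      inv := (·⁻¹)
      mul_assoc := fun a b c => Subtype.ext (mulCl_assoc a.1 b.1 c.1)
      one_mul := fun a => Subtype.ext (one_mulCl a.1)
      mul_one := fun a => Subtype.ext ((mulCl_comm _ _).trans (one_mulCl a.1))
      inv_mul_cancel := fun a => Subtype.ext (hinv a).choose_spec
      mul_comm := fun a b => Subtype.ext (mulCl_comm a.1 b.1) }
  { G with
    mul_val := fun _ _ => rfl
    one_eq := rfl }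

end Groth.Agent.Lib.TensorMod.Invertible
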