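import Groth.Agent.Lib.TensorMod.LocFree
import Groth.Agent.Lib.QCoh.Closure

/-!
Invertible and finite locally free modules are quasi-coherent.
-/

universe u

open CategoryTheory CategoryTheory.Limits AlgebraicGeometry Opposite TopologicalSpace

namespace Groth.Agent.Lib.TensorMod.QCohInv

open Groth.Agent.Lib.TensorMod.Dual Groth.Agent.Lib.TensorMod.Gen
open Groth.Agent.Lib.QCoh.Localizing (Localizes res resR)

variable {X : Scheme.{u}}

lemma localizes_of_gen {L : X.Modules} {U : X.Opens} (hU : IsAffineOpen U) {e : Γ(L, U)}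
    (he : IsGen L U e) (f : Γ(X, U)) : Localizes L f := by
  have hloc := hU.isLocalization_basicOpen f
  constructor
  · intro s
    obtain ⟨a, ha⟩ := (he _ (X.basicOpen_le f)).2 s
    simp only at ha
    obtain ⟨⟨b, c, n, rfl⟩, hb⟩ := IsLocalization.surj (Submonoid.powers f) a
    refine ⟨n, b • e, ?_⟩
    have hb' : a * rf (X.basicOpen_le f) f ^ n = rf (X.basicOpen_le f) b := by
      rw [← map_pow]; exact hb
    change rs L _ (b • e) = rf (X.basicOpen_le f) f ^ n • s
    rw [rs_smul, ← ha, smul_smul, ← hb', mul_comm]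
  · intro t ht
    obtain ⟨b, hb⟩ := (he U le_rfl).2 t
    simp only [rs_self] at hb
    change rs L _ t = 0 at ht
    rw [← hb, rs_smul] at ht
    have h0 : rf (X.basicOpen_le f) b = 0 :=
      (he _ (X.basicOpen_le f)).1 (ht.trans (zero_smul _ _).symm)
    obtain ⟨⟨c, n, rfl⟩, hc⟩ := (IsLocalization.map_eq_zero_iff (Submonoid.powers f)
      Γ(X, X.basicOpen f) b).1 h0
    exact ⟨n, by rw [← hb, smul_smul, hc, zero_smul]⟩

theorem isQCoh_of_isInvertible {L : X.Modules} (hL : PicF.IsInvertible L) :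
    L.IsQuasicoherent := by
  refine QCoh.Localizing.isQCoh_of_forall_exists_localizes (M := L) fun x => ?_
  obtain ⟨U, e, hx, he⟩ := isInvertible_iff.1 hL x
  obtain ⟨V, hV, hxV, hVU⟩ := exists_isAffineOpen_mem_and_subset hx
  exact ⟨V, hV, hxV, localizes_of_gen hV (he.res hVU)⟩

theorem isQCoh_structureModule (X : Scheme.{u}) : (Coh.structureModule X).IsQuasicoherent :=
  isQCoh_of_isInvertible (PicLoc.isInvertible_structureModule X)

theorem isQCoh_freeMod (X : Scheme.{u}) (n : ℕ) : (FlatMod.freeMod X n).IsQuasicoherent := by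
  have := isQCoh_structureModule X
  exact QCoh.Closure.isQCoh_of_isColimit (coproductIsCoproduct fun _ : Fin n => Coh.structureModule X)
    fun _ => this

theorem isQCoh_of_isFinLocFree {M : X.Modules} (hM : FlatMod.IsFinLocFree M) :
    M.IsQuasicoherent := by
  refine QCoh.Localizing.isQCoh_of_forall_exists_localizes (M := M) fun x => ?_
  obtain ⟨U, n, hxU, ⟨i⟩⟩ := hM x
  obtain ⟨V, hV, hxV, hVU⟩ := exists_isAffineOpen_mem_and_subset hxU
  refine ⟨V, hV, hxV, fun f => ?_⟩
  obtain ⟨j⟩ := LocFree.exists_restrict_iso_freeMod hVU i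
  have : IsAffine (V : Scheme.{u}) := hV
  have := isQCoh_freeMod (V : Scheme.{u}) n
  have h : ∀ f' : Γ(X, V.ι ''ᵁ ⊤), Localizes M f' :=
    (QCoh.Localizing.forall_localizes_image_iff V.ι).2 fun g =>
      (QCoh.Localizing.localizes_of_isAffineOpen _ (isAffineOpen_top _) g).of_iso j.symm
  suffices ∀ (W : X.Opens) (_ : W = V.ι ''ᵁ ⊤) (f' : Γ(X, W)), Localizes M f' from
    this V (by simp) f
  rintro W rfl
  exact h

end Groth.Agent.Lib.TensorMod.QCohInv
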