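import Groth.Agent.Lib.TensorMod.Basis
import Groth.Agent.Lib.TensorMod.QCohInv
import Groth.Agent.Lib.CohBasics.Affine
import Groth.Agent.Lib.QCoh.Pullback

/-!
Tensor products of quasi-coherent modules are quasi-coherent, of finite type ones of finite type.
-/

universe u

open CategoryTheory CategoryTheory.Limits AlgebraicGeometry Opposite TopologicalSpace

namespace Groth.Agent.Lib.TensorMod.TensorQCoh

open Groth.Agent.Lib.TensorMod.Basic Groth.Agent.Lib.TensorMod.Pullback
open Groth.Agent.Lib.TensorMod.Dual Groth.Agent.Lib.TensorMod.Gen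
open Groth.Agent.Lib.Modules
open Groth.Agent.Lib.QCoh.Localizing (localizes_of_isAffineOpen isQCoh_restrict_fromSpec_iff
  isQCoh_iff_forall_affine)

section Spec

variable {R : CommRingCat.{u}}

lemma isQCoh_tensor_tilde (N : ModuleCat.{u} R) (G : (Spec R).Modules) [G.IsQuasicoherent] :
    (CohB1.tensorMod ((tilde.functor R).obj N) G).IsQuasicoherent := by
  let T : ModuleCat.{u} R ⥤ (Spec R).Modules := tilde.functor R ⋙ tensorBy G
  have : PreservesColimitsOfSize.{u, u} (tilde.functor R) :=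
    (tilde.adjunction (R := R)).leftAdjoint_preservesColimits
  have : PreservesColimitsOfSize.{u, u} T := comp_preservesColimits _ _
  have : PreservesColimitsOfSize.{0, 0} T := preservesSmallestColimits_of_preservesColimits T
  let i : Coh.structureModule (Spec R) ≅ (tilde.functor R).obj (ModuleCat.of R R) :=
    (tildeSelf (R := R)).symm
  have hR : (T.obj (ModuleCat.of R R)).IsQuasicoherent :=
    (SheafOfModules.isQuasicoherent (R := (Spec R).ringCatSheaf)).prop_of_iso
      ((Basic.leftUnit G).symm ≪≫ tensorIso i (Iso.refl G)) ‹_›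
  let P : ModuleCat.{u} R → ModuleCat.{u} R := fun M => ∐ fun _ : M => ModuleCat.of R R
  have hP : ∀ M, (T.obj (P M)).IsQuasicoherent := fun M =>
    QCoh.Closure.isQCoh_of_isColimit (isColimitOfPreserves T (coproductIsCoproduct _)) fun _ => hR
  let p : ∀ M, P M ⟶ M := fun M =>
    Sigma.desc fun m => ModuleCat.ofHom (LinearMap.toSpanSingleton R M m)
  have hp : ∀ M, Epi (p M) := fun M => (ModuleCat.epi_iff_surjective _).2 fun m =>
    ⟨(Sigma.ι (fun _ : M => ModuleCat.of R R) m).hom (1 : R), by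
      change (Sigma.ι (fun _ : M => ModuleCat.of R R) m ≫ p M).hom (1 : R) = m
      simp [p]⟩
  have := hp N
  let K := kernel (p N)
  have := hp K
  let S := ShortComplex.mk (p K ≫ kernel.ι (p N)) (p N) (by simp)
  have hS : S.Exact := by
    let φ : S ⟶ ShortComplex.mk (kernel.ι (p N)) (p N) (by simp) :=
      { τ₁ := p K, τ₂ := 𝟙 _, τ₃ := 𝟙 _ }
    have : Epi φ.τ₁ := hp K
    have : IsIso φ.τ₂ := inferInstanceAs (IsIso (𝟙 _))
    have : Mono φ.τ₃ := inferInstanceAs (Mono (𝟙 _))
    exact (ShortComplex.exact_iff_of_epi_of_isIso_of_mono φ).2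
      (ShortComplex.exact_of_f_is_kernel _ (kernelIsKernel _))
  have : Epi S.g := hp N
  refine QCoh.Closure.isQCoh_of_isColimit (isColimitOfPreserves T hS.gIsCokernel) fun j => ?_
  cases j
  · exact hP K
  · exact hP N

lemma isQCoh_tensor_spec (F G : (Spec R).Modules) [F.IsQuasicoherent] [G.IsQuasicoherent] :
    (CohB1.tensorMod F G).IsQuasicoherent :=
  haveI := (isQuasicoherent_iff_isIso_fromTildeΓ F).1 ‹_›
  (SheafOfModules.isQuasicoherent (R := (Spec R).ringCatSheaf)).prop_of_iso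
    ((tensorBy G).mapIso (asIso F.fromTildeΓ)) (isQCoh_tensor_tilde _ G)

end Spec

variable {X : Scheme.{u}}

theorem isQCoh_tensorMod (F G : X.Modules) [F.IsQuasicoherent] [G.IsQuasicoherent] :
    (CohB1.tensorMod F G).IsQuasicoherent := by
  refine isQCoh_iff_forall_affine.2 fun U hU => (isQCoh_restrict_fromSpec_iff hU).1 ?_
  have := (isQCoh_restrict_fromSpec_iff (M := F) hU).2 fun f => localizes_of_isAffineOpen F hU f
  have := (isQCoh_restrict_fromSpec_iff (M := G) hU).2 fun f => localizes_of_isAffineOpen G hU f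
  exact (SheafOfModules.isQuasicoherent (R := (Spec Γ(X, U)).ringCatSheaf)).prop_of_iso
    (restrictTensorIso hU.fromSpec F G).symm (isQCoh_tensor_spec _ _)

/-- Spanning sections of a quasi-coherent module on an affine scheme give an epimorphism. -/
lemma epi_freeHom {M : X.Modules} [IsAffine X] [M.IsQuasicoherent] {n : ℕ} (t : Fin n → Γ(M, ⊤))
    (ht : Submodule.span Γ(X, ⊤) (Set.range t) = ⊤) : Epi (Free.freeHom t) := by
  refine (Stalk.epi_iff_stalk_surjective _).mpr fun x => ?_
  suffices hr : LinearMap.range (StalkModule.stalkMapₗ (Free.freeHom t) x) = ⊤ from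
    LinearMap.range_eq_top.mp hr
  have h1 := CohBasics.Affine.germ_span_eq_top (isAffineOpen_top X) _ ht (x := x) trivial
  rw [eq_top_iff, ← h1, Submodule.span_le]
  rintro _ ⟨_, ⟨i, rfl⟩, rfl⟩
  exact ⟨_, Free.freeHom_stalk_germ t x i⟩

/-- On an affine scheme, a tensor product of finitely generated quasi-coherent modules has finitely
generated sections. -/
lemma finite_tensor_top [IsAffine X] (F G : X.Modules) [F.IsQuasicoherent] [G.IsQuasicoherent]
    [Module.Finite Γ(X, ⊤) Γ(F, ⊤)] [Module.Finite Γ(X, ⊤) Γ(G, ⊤)] :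
    Module.Finite Γ(X, ⊤) Γ(CohB1.tensorMod F G, ⊤) := by
  obtain ⟨m, a, ha⟩ := Module.Finite.exists_fin (R := Γ(X, ⊤)) (M := Γ(F, ⊤))
  obtain ⟨n, b, hb⟩ := Module.Finite.exists_fin (R := Γ(X, ⊤)) (M := Γ(G, ⊤))
  have := epi_freeHom a ha
  have := epi_freeHom b hb
  have e1 : Epi ((tensorBy (FlatMod.freeMod X n)).map (Free.freeHom a)) := by
    have : PreservesColimitsOfSize.{0, 0} (tensorBy (FlatMod.freeMod X n)) :=
      preservesSmallestColimits_of_preservesColimits _
    infer_instance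
  have e2 : Epi ((tensorBy F).map (Free.freeHom b)) := by
    have : PreservesColimitsOfSize.{0, 0} (tensorBy F) :=
      preservesSmallestColimits_of_preservesColimits _
    infer_instance
  let φ : FlatMod.freeMod X (m * n) ⟶ CohB1.tensorMod F G :=
    (LocFree.tensorFreeModIso X m n).inv ≫ (tensorBy (FlatMod.freeMod X n)).map (Free.freeHom a) ≫
      (Basic.comm F (FlatMod.freeMod X n)).hom ≫ (tensorBy F).map (Free.freeHom b) ≫
      (Basic.comm G F).hom
  have c1 : IsIso (Basic.comm F (FlatMod.freeMod X n)).hom := Iso.isIso_hom _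
  have c2 : IsIso (Basic.comm G F).hom := Iso.isIso_hom _
  have c0 : IsIso (LocFree.tensorFreeModIso X m n).inv := Iso.isIso_inv _
  have hφ : Epi φ :=
    @epi_comp _ _ _ _ _ _ (@IsIso.epi_of_iso _ _ _ _ _ c0) _
      (@epi_comp _ _ _ _ _ _ e1 _ (@epi_comp _ _ _ _ _ _ (@IsIso.epi_of_iso _ _ _ _ _ c1) _
        (@epi_comp _ _ _ _ _ _ e2 _ (@IsIso.epi_of_iso _ _ _ _ _ c2))))
  have := QCohInv.isQCoh_freeMod X (m * n)
  have := isQCoh_tensorMod F G
  have hsurj := QCoh.Closure.sections_surjective_of_epi φ (isAffineOpen_top X)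
  refine ⟨Submodule.fg_iff_exists_fin_generating_family.2
    ⟨m * n, fun k => φ.app ⊤ (Groth.Agent.Lib.Modules.Free.gen X k), eq_top_iff.2 fun y _ => ?_⟩⟩
  obtain ⟨z, rfl⟩ := hsurj y
  obtain ⟨c, rfl⟩ := (Basis.isBasis_freeMod X (m * n) ⊤ le_rfl).2 z
  rw [Basis.app_comb]
  simp only [Basis.comb, rs_self]
  exact Submodule.sum_mem _ fun k _ => Submodule.smul_mem _ _ (Submodule.subset_span ⟨k, rfl⟩)

/-- Finiteness of sections does not change under restriction along an open immersion. -/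
lemma finite_restrict_iff {Y : Scheme.{u}} (f : Y ⟶ X) [IsOpenImmersion f] (M : X.Modules)
    (V : Y.Opens) :
    Module.Finite Γ(Y, V) Γ(M.restrict f, V) ↔ Module.Finite Γ(X, f ''ᵁ V) Γ(M, f ''ᵁ V) := by
  constructor
  · intro h
    obtain ⟨n, t, ht⟩ := Module.Finite.exists_fin (R := Γ(Y, V)) (M := Γ(M.restrict f, V))
    refine ⟨Submodule.fg_iff_exists_fin_generating_family.2
      ⟨n, fun k => (M.restrictAppIso f V).hom (t k), eq_top_iff.2 fun y _ => ?_⟩⟩
    obtain ⟨z, rfl⟩ := (ConcreteCategory.bijective_of_isIso (M.restrictAppIso f V).hom).2 y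
    have hz : z ∈ Submodule.span Γ(Y, V) (Set.range t) := ht ▸ trivial
    obtain ⟨c, rfl⟩ := (Submodule.mem_span_range_iff_exists_fun _).1 hz
    rw [map_sum]
    exact Submodule.sum_mem _ fun k _ => by
      rw [restrict_smul]
      exact Submodule.smul_mem _ _ (Submodule.subset_span ⟨k, rfl⟩)
  · intro h
    obtain ⟨n, t, ht⟩ := Module.Finite.exists_fin (R := Γ(X, f ''ᵁ V)) (M := Γ(M, f ''ᵁ V))
    refine ⟨Submodule.fg_iff_exists_fin_generating_family.2
      ⟨n, fun k => (M.restrictAppIso f V).inv (t k), eq_top_iff.2 fun y _ => ?_⟩⟩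
    have hz : (M.restrictAppIso f V).hom y ∈ Submodule.span Γ(X, f ''ᵁ V) (Set.range t) := ht ▸ trivial
    obtain ⟨c, hc⟩ := (Submodule.mem_span_range_iff_exists_fun _).1 hz
    obtain rfl : ∑ k, (f.appIso V).hom (c k) • (M.restrictAppIso f V).inv (t k) = y := by
      refine (ConcreteCategory.bijective_of_isIso (M.restrictAppIso f V).hom).1 ?_
      rw [map_sum, ← hc]
      refine Finset.sum_congr rfl fun k _ => ?_
      rw [restrict_smul, ← ConcreteCategory.comp_apply, Iso.hom_inv_id,
        ← ConcreteCategory.comp_apply, Iso.inv_hom_id]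
      rfl
    exact Submodule.sum_mem _ fun k _ => Submodule.smul_mem _ _ (Submodule.subset_span ⟨k, rfl⟩)

theorem isFiniteType_tensorMod (F G : X.Modules) [F.IsQuasicoherent] [G.IsQuasicoherent]
    [SheafOfModules.IsFiniteType (R := X.ringCatSheaf) F]
    [SheafOfModules.IsFiniteType (R := X.ringCatSheaf) G] :
    SheafOfModules.IsFiniteType (R := X.ringCatSheaf) (CohB1.tensorMod F G) := by
  have := isQCoh_tensorMod F G
  refine CohBasics.Affine.isFiniteType_of_finite_sections fun x => ?_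
  obtain ⟨U, hU, hxU, -⟩ := exists_isAffineOpen_mem_and_subset (Opens.mem_top x)
  refine ⟨U, hU, hxU, ?_⟩
  have : IsAffine (U : Scheme.{u}) := hU
  have htop : U.ι ''ᵁ ⊤ = U := by simp
  have hsec : ∀ (M : X.Modules),
      Module.Finite Γ(X, U.ι ''ᵁ ⊤) Γ(M, U.ι ''ᵁ ⊤) ↔ Module.Finite Γ(X, U) Γ(M, U) := by
    intro M
    rw [htop]
  have := QCoh.Pullback.isQCoh_pullback U.ι F
  have := QCoh.Pullback.isQCoh_pullback U.ι G
  have : (F.restrict U.ι).IsQuasicoherent :=
    (SheafOfModules.isQuasicoherent (R := (U : Scheme.{u}).ringCatSheaf)).prop_of_iso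
      ((Scheme.Modules.restrictFunctorIsoPullback U.ι).app F).symm ‹_›
  have : (G.restrict U.ι).IsQuasicoherent :=
    (SheafOfModules.isQuasicoherent (R := (U : Scheme.{u}).ringCatSheaf)).prop_of_iso
      ((Scheme.Modules.restrictFunctorIsoPullback U.ι).app G).symm ‹_›
  have := (finite_restrict_iff U.ι F ⊤).2 ((hsec F).2 (CohBasics.Affine.finite_sections hU))
  have := (finite_restrict_iff U.ι G ⊤).2 ((hsec G).2 (CohBasics.Affine.finite_sections hU))
  have hfin := finite_tensor_top (F.restrict U.ι) (G.restrict U.ι)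
  refine (hsec _).1 ((finite_restrict_iff U.ι _ ⊤).1 ?_)
  let e := restrictTensorIso U.ι F G
  obtain ⟨n, t, ht⟩ := Module.Finite.exists_fin (R := Γ((U : Scheme.{u}), ⊤))
    (M := Γ(CohB1.tensorMod (F.restrict U.ι) (G.restrict U.ι), ⊤))
  refine ⟨Submodule.fg_iff_exists_fin_generating_family.2
    ⟨n, fun k => e.inv.app ⊤ (t k), eq_top_iff.2 fun y _ => ?_⟩⟩
  obtain ⟨z, rfl⟩ := (ConcreteCategory.bijective_of_isIso (e.inv.app ⊤)).2 y
  have hz : z ∈ Submodule.span Γ((U : Scheme.{u}), ⊤) (Set.range t) := ht ▸ trivial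
  obtain ⟨c, rfl⟩ := (Submodule.mem_span_range_iff_exists_fun _).1 hz
  rw [map_sum]
  exact Submodule.sum_mem _ fun k _ => by
    rw [Scheme.Modules.Hom.app_smul]
    exact Submodule.smul_mem _ _ (Submodule.subset_span ⟨k, rfl⟩)

end Groth.Agent.Lib.TensorMod.TensorQCoh
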