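import Groth.Agent.Lib.TensorMod.Invertible
import Groth.Prelude.Def_FlatMod2
import Mathlib.CategoryTheory.Limits.Preserves.Shapes.Products

/-!
Finite locally free modules: closure properties.
-/

universe u

open CategoryTheory CategoryTheory.Limits AlgebraicGeometry

namespace Groth.Agent.Lib.TensorMod.LocFree

open Basic Colimit Pullback Invertible

variable {X Y : Scheme.{u}}

lemma preservesFinCoproducts {C : Type*} [Category C] (F : X.Modules ⥤ C)
    [PreservesColimitsOfSize.{u, u} F] (J : Type) : PreservesColimitsOfShape (Discrete J) F :=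
  have : PreservesColimitsOfSize.{0, 0} F := preservesSmallestColimits_of_preservesColimits F
  inferInstance

/-- Pullback of a free module is free. -/
noncomputable def pullbackFreeModIso (f : X ⟶ Y) (n : ℕ) :
    (pb f).obj (FlatMod.freeMod Y n) ≅ FlatMod.freeMod X n :=
  have : PreservesColimitsOfSize.{u, u} (pb f) := (pbAdj f).leftAdjoint_preservesColimits
  have := preservesFinCoproducts (pb f) (Fin n)
  PreservesCoproduct.iso (pb f) _ ≪≫ Sigma.mapIso fun _ => PicLoc.pullbackStructureIso f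

/-- Restriction of a free module is free. -/
noncomputable def restrictFreeModIso (f : X ⟶ Y) [IsOpenImmersion f] (n : ℕ) :
    (FlatMod.freeMod Y n).restrict f ≅ FlatMod.freeMod X n :=
  (Scheme.Modules.restrictFunctorIsoPullback f).app _ ≪≫ pullbackFreeModIso f n

/-- The tensor product of free modules is free. -/
noncomputable def tensorFreeModIso (X : Scheme.{u}) (m n : ℕ) :
    CohB1.tensorMod (FlatMod.freeMod X m) (FlatMod.freeMod X n) ≅ FlatMod.freeMod X (m * n) :=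
  have := preservesFinCoproducts (tensorBy (FlatMod.freeMod X n)) (Fin m)
  PreservesCoproduct.iso (tensorBy (FlatMod.freeMod X n)) _ ≪≫
    (Sigma.mapIso fun _ => leftUnit (FlatMod.freeMod X n)) ≪≫
    sigmaSigmaIso (fun _ : Fin m => Fin n) (fun _ _ => Coh.structureModule X) ≪≫
    (Sigma.whiskerEquiv ((Equiv.sigmaEquivProd (Fin m) (Fin n)).trans finProdFinEquiv).symm
      (fun _ => Iso.refl _)).symm

/-- The free module of rank one. -/
noncomputable def freeModOneIso (X : Scheme.{u}) :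
    FlatMod.freeMod X 1 ≅ Coh.structureModule X :=
  coproductUniqueIso fun _ : Fin 1 => Coh.structureModule X

lemma exists_restrict_iso_freeMod {M : X.Modules} {U V : X.Opens} (h : V ≤ U) {n : ℕ}
    (i : M.restrict U.ι ≅ FlatMod.freeMod (↑U) n) :
    Nonempty (M.restrict V.ι ≅ FlatMod.freeMod (↑V) n) :=
  ⟨(Scheme.Modules.restrictFunctorCongr (X.homOfLE_ι h).symm).app M ≪≫
    (Scheme.Modules.restrictFunctorComp (X.homOfLE h) U.ι).app M ≪≫
    (Scheme.Modules.restrictFunctor (X.homOfLE h)).mapIso i ≪≫ restrictFreeModIso _ n⟩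

lemma of_isInvertible {L : X.Modules} (hL : PicF.IsInvertible L) :
    FlatMod.IsFinLocFreeOfRank 1 L := fun x => by
  obtain ⟨U, hx, ⟨i⟩⟩ := hL x
  exact ⟨U, hx, ⟨i ≪≫ (freeModOneIso _).symm⟩⟩

lemma isInvertible_of_rank_one {L : X.Modules} (hL : FlatMod.IsFinLocFreeOfRank 1 L) :
    PicF.IsInvertible L := fun x => by
  obtain ⟨U, hx, ⟨i⟩⟩ := hL x
  exact ⟨U, hx, ⟨i ≪≫ freeModOneIso _⟩⟩

lemma of_rank {n : ℕ} {M : X.Modules} (h : FlatMod.IsFinLocFreeOfRank n M) :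
    FlatMod.IsFinLocFree M := fun x => by
  obtain ⟨U, hx, hi⟩ := h x
  exact ⟨U, n, hx, hi⟩

lemma of_iso {M N : X.Modules} (e : M ≅ N) (h : FlatMod.IsFinLocFree M) :
    FlatMod.IsFinLocFree N := fun x => by
  obtain ⟨U, n, hx, ⟨i⟩⟩ := h x
  exact ⟨U, n, hx, ⟨(Scheme.Modules.restrictFunctor U.ι).mapIso e.symm ≪≫ i⟩⟩

lemma rank_of_iso {n : ℕ} {M N : X.Modules} (e : M ≅ N) (h : FlatMod.IsFinLocFreeOfRank n M) :
    FlatMod.IsFinLocFreeOfRank n N := fun x => by
  obtain ⟨U, hx, ⟨i⟩⟩ := h x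
  exact ⟨U, hx, ⟨(Scheme.Modules.restrictFunctor U.ι).mapIso e.symm ≪≫ i⟩⟩

lemma pullback_iso_of_restrict_iso (g : X ⟶ Y) {M : Y.Modules} {U : Y.Opens} {n : ℕ}
    (i : M.restrict U.ι ≅ FlatMod.freeMod (↑U) n) :
    Nonempty (((pb g).obj M).restrict (g ⁻¹ᵁ U).ι ≅ FlatMod.freeMod (↑(g ⁻¹ᵁ U)) n) :=
  ⟨(Scheme.Modules.restrictFunctorIsoPullback (g ⁻¹ᵁ U).ι).app _ ≪≫
    ((Scheme.Modules.pullbackComp (g ⁻¹ᵁ U).ι g).app M) ≪≫
    (Scheme.Modules.pullbackCongr (morphismRestrict_ι g U).symm).app M ≪≫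
    (Scheme.Modules.pullbackComp (g ∣_ U) U.ι).symm.app M ≪≫
    (pb (g ∣_ U)).mapIso ((Scheme.Modules.restrictFunctorIsoPullback U.ι).symm.app M ≪≫ i) ≪≫
    pullbackFreeModIso (g ∣_ U) n⟩

theorem rank_pullback (g : X ⟶ Y) {n : ℕ} {M : Y.Modules} (h : FlatMod.IsFinLocFreeOfRank n M) :
    FlatMod.IsFinLocFreeOfRank n ((pb g).obj M) := fun x => by
  obtain ⟨U, hx, ⟨i⟩⟩ := h (g.base x)
  exact ⟨g ⁻¹ᵁ U, hx, pullback_iso_of_restrict_iso g i⟩

theorem isFinLocFree_pullback (g : X ⟶ Y) {M : Y.Modules} (h : FlatMod.IsFinLocFree M) :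
    FlatMod.IsFinLocFree ((pb g).obj M) := fun x => by
  obtain ⟨U, n, hx, ⟨i⟩⟩ := h (g.base x)
  exact ⟨g ⁻¹ᵁ U, n, hx, pullback_iso_of_restrict_iso g i⟩

theorem isFinLocFree_restrict (f : X ⟶ Y) [IsOpenImmersion f] {M : Y.Modules}
    (h : FlatMod.IsFinLocFree M) : FlatMod.IsFinLocFree (M.restrict f) :=
  of_iso ((Scheme.Modules.restrictFunctorIsoPullback f).app M).symm (isFinLocFree_pullback f h)

theorem rank_tensorMod {m n : ℕ} {M N : X.Modules} (hM : FlatMod.IsFinLocFreeOfRank m M)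
    (hN : FlatMod.IsFinLocFreeOfRank n N) :
    FlatMod.IsFinLocFreeOfRank (m * n) (CohB1.tensorMod M N) := fun x => by
  obtain ⟨U, hxU, ⟨i⟩⟩ := hM x
  obtain ⟨V, hxV, ⟨j⟩⟩ := hN x
  obtain ⟨i'⟩ := exists_restrict_iso_freeMod (inf_le_left : U ⊓ V ≤ U) i
  obtain ⟨j'⟩ := exists_restrict_iso_freeMod (inf_le_right : U ⊓ V ≤ V) j
  exact ⟨U ⊓ V, ⟨hxU, hxV⟩,
    ⟨restrictTensorIso (U ⊓ V).ι M N ≪≫ tensorIso i' j' ≪≫ tensorFreeModIso _ m n⟩⟩

theorem isFinLocFree_tensorMod {M N : X.Modules} (hM : FlatMod.IsFinLocFree M)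
    (hN : FlatMod.IsFinLocFree N) : FlatMod.IsFinLocFree (CohB1.tensorMod M N) := fun x => by
  obtain ⟨U, m, hxU, ⟨i⟩⟩ := hM x
  obtain ⟨V, n, hxV, ⟨j⟩⟩ := hN x
  obtain ⟨i'⟩ := exists_restrict_iso_freeMod (inf_le_left : U ⊓ V ≤ U) i
  obtain ⟨j'⟩ := exists_restrict_iso_freeMod (inf_le_right : U ⊓ V ≤ V) j
  exact ⟨U ⊓ V, m * n, ⟨hxU, hxV⟩,
    ⟨restrictTensorIso (U ⊓ V).ι M N ≪≫ tensorIso i' j' ≪≫ tensorFreeModIso _ m n⟩⟩

theorem isFinLocFree_freeMod (X : Scheme.{u}) (n : ℕ) :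
    FlatMod.IsFinLocFreeOfRank n (FlatMod.freeMod X n) := fun _ =>
  ⟨⊤, trivial, ⟨restrictFreeModIso _ n⟩⟩

/-- The coproduct of free modules is free. -/
noncomputable def freeModAddIso (X : Scheme.{u}) (m n : ℕ) :
    FlatMod.freeMod X m ⨿ FlatMod.freeMod X n ≅ FlatMod.freeMod X (m + n) where
  hom := coprod.desc
    (Sigma.desc fun a => Sigma.ι (fun _ : Fin (m + n) => Coh.structureModule X) (Fin.castAdd n a))
    (Sigma.desc fun b => Sigma.ι (fun _ : Fin (m + n) => Coh.structureModule X) (Fin.natAdd m b))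
  inv := Sigma.desc (Fin.addCases
    (fun a => Sigma.ι (fun _ : Fin m => Coh.structureModule X) a ≫ coprod.inl)
    (fun b => Sigma.ι (fun _ : Fin n => Coh.structureModule X) b ≫ coprod.inr))
  hom_inv_id := coprod.hom_ext
    (Sigma.hom_ext _ _ fun a => by
      rw [coprod.inl_desc_assoc]
      simp only [Category.comp_id, ← Category.assoc]
      erw [Sigma.ι_desc, Sigma.ι_desc, Fin.addCases_left])
    (Sigma.hom_ext _ _ fun b => by
      rw [coprod.inr_desc_assoc]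
      simp only [Category.comp_id, ← Category.assoc]
      erw [Sigma.ι_desc, Sigma.ι_desc, Fin.addCases_right])
  inv_hom_id := Sigma.hom_ext _ _ fun k => by
    rw [← Category.assoc, Category.comp_id]
    erw [Sigma.ι_desc]
    induction k using Fin.addCases with
    | left a =>
      rw [Fin.addCases_left, Category.assoc]
      erw [coprod.inl_desc, Sigma.ι_desc]
    | right b =>
      rw [Fin.addCases_right, Category.assoc]
      erw [coprod.inr_desc, Sigma.ι_desc]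

/-- A coproduct of two finite locally free modules is finite locally free. -/
theorem isFinLocFree_biprod {M N : X.Modules} (hM : FlatMod.IsFinLocFree M)
    (hN : FlatMod.IsFinLocFree N) : FlatMod.IsFinLocFree (M ⨿ N) := fun x => by
  obtain ⟨U, m, hxU, ⟨i⟩⟩ := hM x
  obtain ⟨V, n, hxV, ⟨j⟩⟩ := hN x
  obtain ⟨i'⟩ := exists_restrict_iso_freeMod (inf_le_left : U ⊓ V ≤ U) i
  obtain ⟨j'⟩ := exists_restrict_iso_freeMod (inf_le_right : U ⊓ V ≤ V) j
  have : PreservesColimitsOfSize.{u, u} (Scheme.Modules.restrictFunctor (U ⊓ V).ι) :=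
    (Scheme.Modules.restrictAdjunction (U ⊓ V).ι).leftAdjoint_preservesColimits
  have := preservesFinCoproducts (Scheme.Modules.restrictFunctor (U ⊓ V).ι) WalkingPair
  exact ⟨U ⊓ V, m + n, ⟨hxU, hxV⟩, ⟨(PreservesColimitPair.iso _ M N).symm ≪≫
    coprod.mapIso i' j' ≪≫ freeModAddIso _ m n⟩⟩

end Groth.Agent.Lib.TensorMod.LocFree
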