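import Groth.Agent.Lib.TensorMod.Gen

/-!
Morphisms out of a module with local free generators.
-/

universe u

open CategoryTheory CategoryTheory.Limits AlgebraicGeometry Opposite TopologicalSpace

namespace Groth.Agent.Lib.TensorMod.HomGlue

open Dual Gen

variable {X : Scheme.{u}} {ι : Type*} {U : ι → X.Opens} {L M : X.Modules}

lemma rs_app {N : X.Modules} (φ : L ⟶ N) {V W : X.Opens} (h : V ≤ W) (x : Γ(L, W)) :
    rs N h (φ.app W x) = φ.app V (rs L h x) :=
  (PresheafOfModules.naturality_apply φ.val (homOfLE h).op x).symm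

lemma rs_add (N : X.Modules) {V W : X.Opens} (h : V ≤ W) (x y : Γ(N, W)) :
    rs N h (x + y) = rs N h x + rs N h y :=
  map_add (N.presheaf.map (homOfLE h).op).hom x y

lemma sections_ext_cover {κ : Type*} (W : κ → X.Opens) (N : X.Modules) {V : X.Opens}
    (hV : V ≤ iSup W) {a b : Γ(N, V)}
    (h : ∀ i, rs N (inf_le_left : V ⊓ W i ≤ V) a = rs N inf_le_left b) : a = b :=
  TopCat.Sheaf.eq_of_locally_eq' (⟨N.presheaf, N.isSheaf⟩ : TopCat.Sheaf Ab.{u} X)
    (fun i => V ⊓ W i) V (fun i => homOfLE inf_le_left)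
    (by rw [← inf_iSup_eq]; exact le_inf le_rfl hV) a b h

lemma hom_ext_gen (hU : iSup U = ⊤) (e : ∀ i, Γ(L, U i)) (he : ∀ i, IsGen L (U i) (e i))
    {φ ψ : L ⟶ M} (h : ∀ i, φ.app (U i) (e i) = ψ.app (U i) (e i)) : φ = ψ := by
  refine Scheme.Modules.hom_ext _ _ fun V => ?_
  ext x
  refine sections_ext_cover U M (V := V) (by rw [hU]; exact le_top) fun i => ?_
  obtain ⟨a, ha⟩ := (he i (V ⊓ U i) inf_le_right).2 (rs L inf_le_left x)
  rw [rs_app, rs_app, ← ha]
  simp only [Scheme.Modules.Hom.app_smul]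
  rw [← rs_app, ← rs_app, h]

/-- A morphism out of a module with local free generators is given by compatible images of the
generators. -/
theorem exists_hom_of_gen (hU : iSup U = ⊤) (e : ∀ i, Γ(L, U i)) (he : ∀ i, IsGen L (U i) (e i))
    (m : ∀ i, Γ(M, U i))
    (hm : ∀ (i j : ι) (W : X.Opens) (hi : W ≤ U i) (hj : W ≤ U j) (c : Γ(X, W)),
      rs L hi (e i) = c • rs L hj (e j) → rs M hi (m i) = c • rs M hj (m j)) :
    ∃ φ : L ⟶ M, ∀ i, φ.app (U i) (e i) = m i := by
  have h : ∀ (V : X.Opens) (x : Γ(L, V)), ∃! y : Γ(M, V), ∀ i, ∀ a : Γ(X, V ⊓ U i),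
      rs L inf_le_left x = a • rs L inf_le_right (e i) →
        rs M inf_le_left y = a • rs M inf_le_right (m i) := by
    intro V x
    let a : ∀ i, Γ(X, V ⊓ U i) := fun i => ((he i (V ⊓ U i) inf_le_right).2 (rs L inf_le_left x)).choose
    have ha : ∀ i, a i • rs L inf_le_right (e i) = rs L inf_le_left x := fun i =>
      ((he i (V ⊓ U i) inf_le_right).2 (rs L inf_le_left x)).choose_spec
    obtain ⟨y, hy, huy⟩ := TopCat.Sheaf.existsUnique_gluing'
      (⟨M.presheaf, M.isSheaf⟩ : TopCat.Sheaf Ab.{u} X) (fun i => V ⊓ U i) V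
      (fun i => homOfLE inf_le_left) (by rw [← inf_iSup_eq, hU]; exact le_inf le_rfl le_top)
      (fun i => a i • rs M inf_le_right (m i)) fun i j => by
        let W := (V ⊓ U i) ⊓ (V ⊓ U j)
        change rs M (inf_le_left : W ≤ V ⊓ U i) _ = rs M (inf_le_right : W ≤ V ⊓ U j) _
        obtain ⟨c, hc⟩ := (he j W (inf_le_right.trans inf_le_right)).2
          (rs L (inf_le_left.trans inf_le_right : W ≤ U i) (e i))
        have hx : rs L (inf_le_left : W ≤ V ⊓ U i) (rs L inf_le_left x) =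
            rs L (inf_le_right : W ≤ V ⊓ U j) (rs L inf_le_left x) := by rw [rs_rs, rs_rs]
        rw [← ha i, ← ha j, rs_smul, rs_smul, rs_rs, rs_rs, ← hc, smul_smul] at hx
        have hcoef := (he j W (inf_le_right.trans inf_le_right)).1 hx
        rw [rs_smul, rs_smul, rs_rs, rs_rs, hm i j W _ _ c hc.symm, smul_smul, hcoef]
    refine ⟨y, fun i b hb => ?_, fun y' hy' => huy y' fun i => hy' i (a i) (ha i).symm⟩
    rw [← ha i] at hb
    rw [← (he i (V ⊓ U i) inf_le_right).1 hb]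
    exact hy i
  choose val hval huniq using h
  have hadd : ∀ (V : X.Opens) (x x' : Γ(L, V)), val V (x + x') = val V x + val V x' := by
    intro V x x'
    refine (huniq V _ _ fun i b hb => ?_).symm
    obtain ⟨a, ha⟩ := (he i (V ⊓ U i) inf_le_right).2 (rs L inf_le_left x)
    obtain ⟨a', ha'⟩ := (he i (V ⊓ U i) inf_le_right).2 (rs L inf_le_left x')
    simp only at ha ha'
    rw [rs_add, ← ha, ← ha', ← add_smul] at hb
    rw [rs_add, hval V x i a ha.symm, hval V x' i a' ha'.symm, ← add_smul,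
      (he i (V ⊓ U i) inf_le_right).1 hb]
  have hsmul : ∀ (V : X.Opens) (r : Γ(X, V)) (x : Γ(L, V)), val V (r • x) = r • val V x := by
    intro V r x
    refine (huniq V _ _ fun i b hb => ?_).symm
    obtain ⟨a, ha⟩ := (he i (V ⊓ U i) inf_le_right).2 (rs L inf_le_left x)
    simp only at ha
    rw [rs_smul, ← ha, smul_smul] at hb
    rw [rs_smul, hval V x i a ha.symm, smul_smul, (he i (V ⊓ U i) inf_le_right).1 hb]
  have hnat : ∀ (V W : X.Opens) (h : W ≤ V) (x : Γ(L, V)),
      rs M h (val V x) = val W (rs L h x) := by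
    intro V W hWV x
    refine huniq W _ _ fun i b hb => ?_
    obtain ⟨a, ha⟩ := (he i (V ⊓ U i) inf_le_right).2 (rs L inf_le_left x)
    simp only at ha
    have h' : W ⊓ U i ≤ V ⊓ U i := inf_le_inf_right _ hWV
    have h1 := congrArg (rs L h') ha
    rw [rs_smul, rs_rs, rs_rs] at h1
    rw [rs_rs] at hb
    have h2 := (he i (W ⊓ U i) inf_le_right).1 (h1.trans hb)
    rw [rs_rs, ← h2, ← rs_rs M inf_le_left h', hval V x i a ha.symm, rs_smul, rs_rs]
  let φ : L ⟶ M := SheafOfModules.Hom.mk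
    { app := fun V => ModuleCat.ofHom (X := L.val.obj V) (Y := M.val.obj V)
        { toFun := val V.unop, map_add' := hadd V.unop, map_smul' := hsmul V.unop }
      naturality := fun {V W} g => ModuleCat.hom_ext (LinearMap.ext fun x =>
        (hnat V.unop W.unop g.unop.le x).symm) }
  refine ⟨φ, fun i => ?_⟩
  refine (huniq (U i) (e i) (m i) fun j b hb => ?_).symm
  exact hm i j (U i ⊓ U j) _ _ b hb

/-- An isomorphism is given by compatible generators. -/
theorem exists_iso_of_gen (hU : iSup U = ⊤) (e : ∀ i, Γ(L, U i)) (he : ∀ i, IsGen L (U i) (e i))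
    (m : ∀ i, Γ(M, U i)) (hmg : ∀ i, IsGen M (U i) (m i))
    (hm : ∀ (i j : ι) (W : X.Opens) (hi : W ≤ U i) (hj : W ≤ U j) (c : Γ(X, W)),
      rs L hi (e i) = c • rs L hj (e j) → rs M hi (m i) = c • rs M hj (m j)) :
    ∃ φ : L ≅ M, ∀ i, φ.hom.app (U i) (e i) = m i := by
  obtain ⟨φ, hφ⟩ := exists_hom_of_gen hU e he m hm
  obtain ⟨ψ, hψ⟩ := exists_hom_of_gen hU m hmg e fun i j W hi hj c hc => by
    obtain ⟨d, hd⟩ := (he j W hj).2 (rs L hi (e i))
    simp only at hd
    have := hm i j W hi hj d hd.symm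
    rw [hc] at this
    rw [← hd, (hmg j W hj).1 this]
  refine ⟨⟨φ, ψ, hom_ext_gen hU e he fun i => ?_, hom_ext_gen hU m hmg fun i => ?_⟩, hφ⟩
  · change ψ.app (U i) (φ.app (U i) (e i)) = e i
    rw [hφ, hψ]
  · change φ.app (U i) (ψ.app (U i) (m i)) = m i
    rw [hψ, hφ]

end Groth.Agent.Lib.TensorMod.HomGlue
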