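import Groth.Agent.Lib.TensorMod.Invertible
import Groth.Agent.Lib.TensorMod.HomGlue
import Mathlib.AlgebraicGeometry.Properties
import Mathlib.CategoryTheory.Limits.Preserves.Shapes.Zero

/-!
Morphisms of invertible modules; invertible modules on integral schemes.
-/

universe u

open CategoryTheory CategoryTheory.Limits AlgebraicGeometry Opposite TopologicalSpace

namespace Groth.Agent.Lib.TensorMod.Integral

open Basic Dual Gen Invertible HomGlue Colimit

variable {X : Scheme.{u}}

lemma tmap_zero_left (M M' N : X.Modules) : tmap (0 : M ⟶ M') (𝟙 N) = 0 := by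
  have : PreservesColimitsOfShape (CategoryTheory.Discrete PEmpty.{1}) (tensorBy N) :=
    (preservesSmallestColimits_of_preservesColimits (tensorBy N)).preservesColimitsOfShape
  have : (tensorBy N).PreservesZeroMorphisms :=
    Functor.preservesZeroMorphisms_of_preserves_initial_object
  exact (tensorBy N).map_zero M M'

/-- Tensoring with an invertible module is faithful on zero morphisms. -/
lemma eq_zero_of_tmap_eq_zero {L M M' : X.Modules} (hL : PicF.IsInvertible L) {f : M ⟶ M'}
    (h : tmap f (𝟙 L) = 0) : f = 0 := by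
  have h1 : tmap f (𝟙 (CohB1.tensorMod L (dual L))) = 0 := by
    rw [← cancel_epi (assoc M L (dual L)).hom, ← tmap_id L (dual L), ← assoc_natural, h,
      tmap_zero_left, zero_comp, comp_zero]
  have h2 : tmap f (𝟙 (Coh.structureModule X)) = 0 := by
    let e := tensorDualIso hL
    have : tmap f (𝟙 (Coh.structureModule X)) =
        tmap (𝟙 M) e.inv ≫ tmap f (𝟙 _) ≫ tmap (𝟙 M') e.hom := by
      rw [← tmap_comp, ← tmap_comp, Category.id_comp, Category.id_comp, Category.comp_id,
        e.inv_hom_id]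
    rw [this, h1, zero_comp, comp_zero]
  have h3 := rightUnit_natural f
  rw [h2, zero_comp] at h3
  exact (cancel_epi (rightUnit M).hom).1 (h3.symm.trans comp_zero.symm)

lemma gen_cover {L : X.Modules} (hL : PicF.IsInvertible L) :
    ∃ (U : X → X.Opens) (e : ∀ x, Γ(L, U x)), iSup U = ⊤ ∧ (∀ x, x ∈ U x) ∧
      ∀ x, IsGen L (U x) (e x) := by
  choose U e hx he using isInvertible_iff.1 hL
  exact ⟨U, e, top_le_iff.1 fun x _ => Opens.mem_iSup.2 ⟨x, hx x⟩, hx, he⟩

lemma gen_cover₃ {L M N : X.Modules} (hL : PicF.IsInvertible L) (hM : PicF.IsInvertible M)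
    (hN : PicF.IsInvertible N) (x : X) :
    ∃ (U : X.Opens) (e : Γ(L, U)) (e' : Γ(M, U)) (e'' : Γ(N, U)), x ∈ U ∧
      IsGen L U e ∧ IsGen M U e' ∧ IsGen N U e'' := by
  obtain ⟨U, e, hxU, he⟩ := isInvertible_iff.1 hL x
  obtain ⟨V, e', hxV, he'⟩ := isInvertible_iff.1 hM x
  obtain ⟨W, e'', hxW, he''⟩ := isInvertible_iff.1 hN x
  have h1 : U ⊓ V ⊓ W ≤ U := inf_le_left.trans inf_le_left
  have h2 : U ⊓ V ⊓ W ≤ V := inf_le_left.trans inf_le_right
  exact ⟨U ⊓ V ⊓ W, rs L h1 e, rs M h2 e', rs N inf_le_right e'', ⟨⟨hxU, hxV⟩, hxW⟩, he.res h1,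
    he'.res h2, he''.res inf_le_right⟩

variable [IsIntegral X]

omit [IsIntegral X] in
lemma isGen_one (U : X.Opens) : IsGen (Coh.structureModule X) U (one X U) := fun V hV => by
  refine (iff_of_eq (congrArg Function.Bijective (funext fun r : Γ(X, V) => ?_))).2
    (Function.bijective_id (α := Γ(X, V)))
  exact (congrArg (r * ·) (map_one (X.presheaf.map (homOfLE hV).op).hom)).trans (mul_one r)

lemma rs_injective {M : X.Modules} (hM : PicF.IsInvertible M) {V W : X.Opens} (h : V ≤ W)
    (hV : Nonempty V) {m : Γ(M, W)} (hm : rs M h m = 0) : m = 0 := by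
  obtain ⟨U, e, hU, -, he⟩ := gen_cover hM
  refine sections_ext_cover U M (V := W) (by rw [hU]; exact le_top) fun x => ?_
  obtain ⟨a, ha⟩ := (he x (W ⊓ U x) inf_le_right).2 (rs M inf_le_left m)
  simp only at ha
  obtain ⟨⟨y, hy⟩⟩ := hV
  rcases isEmpty_or_nonempty ↥(W ⊓ U x : X.Opens) with hem | ⟨⟨z, hz⟩⟩
  · have : W ⊓ U x ≤ V := fun p hp => (hem.false ⟨p, hp⟩).elim
    rw [← rs_rs M h this m, hm]
    exact (map_zero (M.presheaf.map _).hom).trans (map_zero (M.presheaf.map _).hom).symm
  have hne : ((V ⊓ (W ⊓ U x) : X.Opens) : Set X).Nonempty :=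
    nonempty_preirreducible_inter V.2 (W ⊓ U x).2 ⟨y, hy⟩ ⟨z, hz⟩
  have : Nonempty (V ⊓ (W ⊓ U x) : X.Opens) := hne.to_subtype
  have h' : V ⊓ (W ⊓ U x) ≤ W ⊓ U x := inf_le_right
  have hz0 : rs M h' (rs M inf_le_left m) = 0 := by
    rw [rs_rs, ← rs_rs M h (inf_le_left : V ⊓ (W ⊓ U x) ≤ V), hm]
    exact map_zero (M.presheaf.map _).hom
  rw [← ha, rs_smul, rs_rs] at hz0
  have hzero : rf h' a = 0 := (he x _ _).1 (hz0.trans (zero_smul _ _).symm)
  have ha0 : a = 0 := map_injective_of_isIntegral X (homOfLE h')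
    (hzero.trans (map_zero (X.presheaf.map _).hom).symm)
  rw [← ha, ha0, zero_smul]
  exact (map_zero (M.presheaf.map _).hom).symm

/-- A nonzero morphism of invertible modules does not vanish on a generator over a nonempty open. -/
lemma app_gen_ne_zero {L M : X.Modules} (hL : PicF.IsInvertible L) (hM : PicF.IsInvertible M)
    {f : L ⟶ M} (hf : f ≠ 0) {U : X.Opens} {e : Γ(L, U)} (he : IsGen L U e) (hU : Nonempty U) :
    f.app U e ≠ 0 := by
  intro h
  apply hf
  obtain ⟨V, e', hV, -, he'⟩ := gen_cover hL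
  refine hom_ext_gen hV e' he' fun x => ?_
  rcases isEmpty_or_nonempty ↥(V x) with hem | hne
  · have : V x ≤ U := fun p hp => (hem.false ⟨p, hp⟩).elim
    obtain ⟨a, ha⟩ := (he (V x) this).2 (e' x)
    simp only at ha
    rw [← ha, Scheme.Modules.Hom.app_smul, Scheme.Modules.Hom.app_smul, ← rs_app, h]
    simp [rs]
  · obtain ⟨⟨y, hy⟩⟩ := hU
    obtain ⟨⟨z, hz⟩⟩ := hne
    have : Nonempty (U ⊓ V x : X.Opens) :=
      (nonempty_preirreducible_inter U.2 (V x).2 ⟨y, hy⟩ ⟨z, hz⟩).to_subtype
    have h0 : f.app (V x) (e' x) = 0 := by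
      refine rs_injective hM (inf_le_right : U ⊓ V x ≤ V x) this ?_
      obtain ⟨a, ha⟩ := (he (U ⊓ V x) inf_le_left).2 (rs L inf_le_right (e' x))
      simp only at ha
      rw [rs_app, ← ha, Scheme.Modules.Hom.app_smul, ← rs_app, h]
      simp [rs]
    rw [h0]
    rfl

lemma comp_ne_zero {L M N : X.Modules} (hL : PicF.IsInvertible L) (hM : PicF.IsInvertible M)
    (hN : PicF.IsInvertible N) {f : L ⟶ M} {g : M ⟶ N} (hf : f ≠ 0) (hg : g ≠ 0) :
    f ≫ g ≠ 0 := by
  obtain ⟨x⟩ := (inferInstance : Nonempty X)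
  obtain ⟨U, e, e', e'', hx, he, he', he''⟩ := gen_cover₃ hL hM hN x
  have hU : Nonempty U := ⟨⟨x, hx⟩⟩
  intro h
  obtain ⟨a, ha⟩ := (he' U le_rfl).2 (f.app U e)
  obtain ⟨b, hb⟩ := (he'' U le_rfl).2 (g.app U e')
  simp only [rs_self] at ha hb
  have h1 : (f ≫ g).app U e = (a * b) • e'' := by
    rw [mul_smul, hb, ← Scheme.Modules.Hom.app_smul, ha]
    rfl
  rw [h] at h1
  have h1' : (a * b) • e'' = 0 := h1.symm
  have hab : a * b = 0 := (he'' U le_rfl).1 (by simpa only [rs_self, zero_smul] using h1')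
  rcases mul_eq_zero.1 hab with ha0 | hb0
  · exact app_gen_ne_zero hL hM hf he hU (by rw [← ha, ha0, zero_smul])
  · exact app_gen_ne_zero hM hN hg he' hU (by rw [← hb, hb0, zero_smul])

/-- On an integral scheme with a field of global functions, an invertible module with a nonzero
section and a nonzero cosection is trivial. -/
theorem iso_of_section_cosection (hfield : IsField (Γ(X, ⊤) : Type u)) {L : X.Modules}
    (hL : PicF.IsInvertible L) {s : Coh.structureModule X ⟶ L} (hs : s ≠ 0)
    {t : L ⟶ Coh.structureModule X} (ht : t ≠ 0) :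
    Nonempty (L ≅ Coh.structureModule X) := by
  have hO := PicLoc.isInvertible_structureModule X
  have hst : s ≫ t ≠ 0 := comp_ne_zero hO hL hO hs ht
  let c : Γ(X, ⊤) := (s ≫ t).app ⊤ (one X ⊤)
  have hc : ∀ W : X.Opens, rf le_top c = (show Γ(X, W) from (s ≫ t).app W (one X W)) := fun W =>
    rs_app_one (s ≫ t) le_top
  have hc0 : c ≠ 0 := by
    intro h0
    apply hst
    refine Scheme.Modules.hom_ext _ _ fun W => ?_
    ext a
    rw [app_eq_smul (s ≫ t) a]
    have : (s ≫ t).app W (one X W) = 0 := by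
      refine (hc W).symm.trans ?_
      rw [h0]
      exact map_zero (X.presheaf.map _).hom
    refine (congrArg (fun v : Γ(Coh.structureModule X, W) => (show Γ(X, W) from a) • v) this).trans ?_
    exact smul_zero (show Γ(X, W) from a)
  obtain ⟨d, hd⟩ := hfield.mul_inv_cancel hc0
  have hunit : ∀ W : X.Opens, IsUnit (show Γ(X, W) from (s ≫ t).app W (one X W)) := fun W => by
    rw [← hc]
    exact (IsUnit.of_mul_eq_one d hd).map (X.presheaf.map _).hom
  have : IsIso s := by
    obtain ⟨U, e, hU, -, he⟩ := gen_cover hL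
    have hgen : ∀ x, IsGen L (U x) (s.app (U x) (one X (U x))) := fun x => by
      obtain ⟨a, ha⟩ := (he x (U x) le_rfl).2 (s.app (U x) (one X (U x)))
      simp only [rs_self] at ha
      have hau : IsUnit a := by
        refine isUnit_of_mul_isUnit_left
          (y := (show Γ(X, U x) from t.app (U x) (e x))) ?_
        have : (show Γ(X, U x) from (s ≫ t).app (U x) (one X (U x))) =
            a * (show Γ(X, U x) from t.app (U x) (e x)) := by
          refine (congrArg (t.app (U x)) ha.symm).trans ?_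
          exact t.app_smul a (e x)
        rw [← this]
        exact hunit (U x)
      intro V hV
      have hV' : IsUnit (rf hV a) := hau.map _
      refine (iff_of_eq (congrArg Function.Bijective (funext fun r => ?_))).2
        ((he x V hV).comp (Units.mulRight hV'.unit).bijective)
      simp [← ha, rs_smul, smul_smul]
    obtain ⟨φ, hφ⟩ := exists_iso_of_gen (L := Coh.structureModule X) (M := L) hU
      (fun x => one X (U x)) (fun x => isGen_one (U x))
      (fun x => s.app (U x) (one X (U x))) hgen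
      (fun i j W hi hj c hc => by
        have := congrArg (s.app W) hc
        rw [Scheme.Modules.Hom.app_smul, ← rs_app, ← rs_app] at this
        exact this)
    have : φ.hom = s := hom_ext_gen hU (fun x => one X (U x)) (fun x => isGen_one (U x)) hφ
    rw [← this]
    infer_instance
  exact ⟨(asIso s).symm⟩

end Groth.Agent.Lib.TensorMod.Integral
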