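import Groth.Agent.Lib.TensorMod.HomGlue
import Groth.Agent.Lib.TensorMod.Integral

/-!
Generators are local; rescaling a generator by a unit.
-/

universe u

open CategoryTheory CategoryTheory.Limits AlgebraicGeometry Opposite TopologicalSpace

namespace Groth.Agent.Lib.TensorMod.GenLocal

open Groth.Agent.Lib.TensorMod.Dual Groth.Agent.Lib.TensorMod.Gen

variable {X : Scheme.{u}} {L : X.Modules}

lemma isGen_smul {U : X.Opens} {e : Γ(L, U)} (he : IsGen L U e) {c : Γ(X, U)} (hc : IsUnit c) :
    IsGen L U (c • e) := fun V hV => by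
  have hu : IsUnit (rf hV c) := hc.map _
  refine (iff_of_eq (congrArg Function.Bijective
    (funext fun a : Γ(X, V) => ?_))).2 ((he V hV).comp (IsUnit.isUnit_iff_mulRight_bijective.1 hu))
  simp only [Function.comp_apply]
  rw [rs_smul, smul_smul]

/-- Being a generator is local. -/
theorem isGen_of_forall_exists {U : X.Opens} {e : Γ(L, U)}
    (h : ∀ x ∈ U, ∃ (W : X.Opens) (hW : W ≤ U), x ∈ W ∧ IsGen L W (rs L hW e)) :
    IsGen L U e := fun V hV => by
  choose W hW hxW hgen using h
  let D : V → X.Opens := fun x => V ⊓ W x.1 (hV x.2)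
  have hD : V ≤ iSup D := fun x hx => Opens.mem_iSup.2 ⟨⟨x, hx⟩, hx, hxW x (hV hx)⟩
  have hDV : ∀ x, D x ≤ V := fun x => inf_le_left
  have hb : ∀ x, Function.Bijective fun a : Γ(X, D x) => a • rs L ((hDV x).trans hV) e := fun x => by
    have := hgen x.1 (hV x.2) (D x) inf_le_right
    simpa only [rs_rs] using this
  constructor
  · intro a b hab
    refine TopCat.Sheaf.eq_of_locally_eq' X.sheaf D V (fun x => homOfLE (hDV x)) hD a b fun x => ?_
    change rf (hDV x) a = rf (hDV x) b
    refine (hb x).1 ?_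
    simpa only [rs_smul, rs_rs] using congrArg (rs L (hDV x)) hab
  · intro y
    choose a ha using fun x => (hb x).2 (rs L (hDV x) y)
    obtain ⟨r₀, hr, -⟩ := TopCat.Sheaf.existsUnique_gluing' X.sheaf D V
      (fun x => homOfLE (hDV x)) hD a fun i j => by
        change rf (inf_le_left : D i ⊓ D j ≤ D i) (a i) = rf (inf_le_right : D i ⊓ D j ≤ D j) (a j)
        have hi := congrArg (rs L (inf_le_left : D i ⊓ D j ≤ D i)) (ha i)
        have hj := congrArg (rs L (inf_le_right : D i ⊓ D j ≤ D j)) (ha j)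
        simp only [rs_smul, rs_rs] at hi hj
        have hinj := hgen i.1 (hV i.2) (D i ⊓ D j) (inf_le_left.trans inf_le_right)
        simp only [rs_rs] at hinj
        exact hinj.1 (hi.trans hj.symm)
    obtain ⟨r, hr'⟩ : ∃ r : Γ(X, V), ∀ x, rf (hDV x) r = a x := ⟨r₀, hr⟩
    refine ⟨r, HomGlue.sections_ext_cover D L hD fun x => ?_⟩
    have hx : V ⊓ D x ≤ D x := inf_le_right
    have h1 := hr' x
    have h2 := congrArg (rs L hx) (ha x)
    simp only [rs_smul, rs_rs] at h2 ⊢
    rw [← h2, ← h1, rf_rf]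

end Groth.Agent.Lib.TensorMod.GenLocal
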