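import Groth.Agent.Lib.TensorMod.LocFree
import Groth.Agent.Lib.TensorMod.HomGlue

/-!
Morphisms that are isomorphisms over an open; free generators over an open; the unit of
pullback-pushforward on finite locally free modules.
-/

universe u

open CategoryTheory CategoryTheory.Limits AlgebraicGeometry Opposite TopologicalSpace

namespace Groth.Agent.Lib.TensorMod.LocIso

open Basic Free Pullback Dual Gen HomGlue

variable {X Y : Scheme.{u}}

/-- Restriction to an open. -/
noncomputable abbrev rU (U : X.Opens) : X.Modules ⥤ (U : Scheme.{u}).Modules :=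
  Scheme.Modules.restrictFunctor U.ι

lemma isIso_app_of_isIso_restrict {M N : X.Modules} {φ : M ⟶ N} {U : X.Opens}
    (h : IsIso ((rU U).map φ)) {V : X.Opens} (hV : V ≤ U) : IsIso (φ.app V) := by
  obtain ⟨W, rfl⟩ : ∃ W : (U : Scheme.{u}).Opens, U.ι ''ᵁ W = V :=
    ⟨U.ι ⁻¹ᵁ V, by rw [Scheme.Hom.image_preimage_eq_opensRange_inf, Scheme.Opens.opensRange_ι]
                   exact inf_eq_right.2 hV⟩
  exact (Scheme.Modules.Hom.isIso_iff_isIso_app (φ := (rU U).map φ)).1 h W

lemma isIso_restrict_of_isIso_app {M N : X.Modules} {φ : M ⟶ N} {U : X.Opens}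
    (h : ∀ V, V ≤ U → IsIso (φ.app V)) : IsIso ((rU U).map φ) :=
  (Scheme.Modules.Hom.isIso_iff_isIso_app (φ := (rU U).map φ)).2 fun W => h _ (U.ι_image_le W)

lemma isIso_of_locally {M N : X.Modules} (φ : M ⟶ N)
    (h : ∀ x : X, ∃ U : X.Opens, x ∈ U ∧ ∀ V, V ≤ U → IsIso (φ.app V)) : IsIso φ := by
  choose U hx hU using h
  have hcov : iSup U = ⊤ := top_le_iff.1 fun x _ => Opens.mem_iSup.2 ⟨x, hx x⟩
  rw [Scheme.Modules.Hom.isIso_iff_isIso_app]
  intro V
  rw [ConcreteCategory.isIso_iff_bijective]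
  have hb : ∀ x, ∀ W ≤ U x, Function.Bijective (φ.app W) := fun x W hW =>
    (ConcreteCategory.isIso_iff_bijective _).1 (hU x W hW)
  constructor
  · intro a b hab
    refine sections_ext_cover U M (V := V) (by rw [hcov]; exact le_top) fun x => ?_
    refine (hb x _ inf_le_right).1 ?_
    rw [← rs_app, ← rs_app, hab]
  · intro y
    choose a ha using fun x => (hb x (V ⊓ U x) inf_le_right).2 (rs N inf_le_left y)
    obtain ⟨z, hz, -⟩ := TopCat.Sheaf.existsUnique_gluing'
      (⟨M.presheaf, M.isSheaf⟩ : TopCat.Sheaf Ab.{u} X) (fun x => V ⊓ U x) V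
      (fun x => homOfLE inf_le_left) (by rw [← inf_iSup_eq, hcov]; exact le_inf le_rfl le_top)
      a fun x x' => by
        let W := (V ⊓ U x) ⊓ (V ⊓ U x')
        change rs M (inf_le_left : W ≤ V ⊓ U x) _ = rs M (inf_le_right : W ≤ V ⊓ U x') _
        refine (hb x W (inf_le_left.trans inf_le_right)).1 ?_
        rw [← rs_app, ← rs_app, ha, ha, rs_rs, rs_rs]
    refine ⟨z, sections_ext_cover U N (V := V) (by rw [hcov]; exact le_top) fun x => ?_⟩
    rw [rs_app]
    exact (congrArg (φ.app _) (hz x)).trans (ha x)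

section FreeOn

variable {U : X.Opens}

lemma restrict_freeOn_hom_ext {H : (U : Scheme.{u}).Modules}
    {a b : (freeOn U).restrict U.ι ⟶ H}
    (h : a.app (U.ι ⁻¹ᵁ U) (rs (freeOn U) (U.ι.image_preimage_le U) (genSec U)) =
      b.app (U.ι ⁻¹ᵁ U) (rs (freeOn U) (U.ι.image_preimage_le U) (genSec U))) : a = b := by
  apply ((Scheme.Modules.restrictAdjunction U.ι).homEquiv (freeOn U) H).injective
  refine (isFreeOn_freeOn U _).1 ?_
  simp only [Adjunction.homEquiv_unit]
  exact h

variable (U) in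
/-- The map `freeOn U ⟶ O` sending the generator to one. -/
noncomputable def toStructure : freeOn U ⟶ Coh.structureModule X :=
  ((isFreeOn_freeOn U (Coh.structureModule X)).2 (one X U)).choose

lemma toStructure_gen : (toStructure U).app U (genSec U) = one X U :=
  ((isFreeOn_freeOn U (Coh.structureModule X)).2 (one X U)).choose_spec

lemma toStructure_rs_gen {V : X.Opens} (h : V ≤ U) :
    (toStructure U).app V (rs (freeOn U) h (genSec U)) = one X V := by
  rw [← rs_app, toStructure_gen]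
  exact map_one (X.presheaf.map (homOfLE h).op).hom

lemma restrict_one {Z : Scheme.{u}} (f : Z ⟶ X) [IsOpenImmersion f] (W : Z.Opens) :
    ((Scheme.Modules.restrictUnitIso f).inv.app W) (one Z W) = one X (f ''ᵁ W) :=
  map_one (f.appIso W).inv.hom

lemma isIso_restrict_toStructure : IsIso ((rU U).map (toStructure U)) := by
  obtain ⟨ψ, hψ⟩ := exists_hom_of_family (Z := (U : Scheme.{u})) (M := (freeOn U).restrict U.ι)
    (fun W => rs (freeOn U) (U.ι_image_le W) (genSec U))
    (fun V W h => rs_rs (freeOn U) (U.ι_image_le W) (Scheme.Hom.image_mono U.ι h) _)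
  let r : (rU U).obj (Coh.structureModule X) ≅ Coh.structureModule (U : Scheme.{u}) :=
    Scheme.Modules.restrictUnitIso U.ι
  have h1 : ψ ≫ (rU U).map (toStructure U) = r.inv := by
    refine Scheme.Modules.hom_ext _ _ fun W => ?_
    ext c
    rw [app_eq_smul (ψ ≫ (rU U).map (toStructure U)) c, app_eq_smul r.inv c]
    refine congrArg ((show Γ((U : Scheme.{u}), W) from c) • ·) ?_
    refine ((congrArg (((rU U).map (toStructure U)).app W) (hψ W)).trans ?_).trans
      (restrict_one U.ι W).symm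
    exact toStructure_rs_gen (U.ι_image_le W)
  have h2 : (rU U).map (toStructure U) ≫ r.hom ≫ ψ = 𝟙 _ := by
    refine restrict_freeOn_hom_ext ?_
    have hone : r.hom.app (U.ι ⁻¹ᵁ U) (one X (U.ι ''ᵁ (U.ι ⁻¹ᵁ U))) = one _ (U.ι ⁻¹ᵁ U) :=
      map_one (U.ι.appIso (U.ι ⁻¹ᵁ U)).hom.hom
    refine (congrArg (fun t => ψ.app _ (r.hom.app _ t))
      (toStructure_rs_gen (U.ι.image_preimage_le U))).trans ?_
    exact (congrArg (ψ.app _) hone).trans (hψ _)
  refine ⟨r.hom ≫ ψ, h2, ?_⟩
  rw [Category.assoc, h1, Iso.hom_inv_id]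

/-- A module free of rank `n` over `U` receives a map from `⨿ freeOn U` which is an isomorphism
over `U`. -/
theorem exists_map_isIso_restrict {M : X.Modules} {n : ℕ}
    (i : M.restrict U.ι ≅ FlatMod.freeMod (↑U) n) :
    ∃ φ : (∐ fun _ : Fin n => freeOn U) ⟶ M, IsIso ((rU U).map φ) := by
  let s : Fin n → (Coh.structureModule (U : Scheme.{u}) ⟶ M.restrict U.ι) := fun k =>
    Sigma.ι (fun _ : Fin n => Coh.structureModule (U : Scheme.{u})) k ≫ i.inv
  have := isIso_restrict_toStructure (U := U)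
  let r : (rU U).obj (Coh.structureModule X) ≅ Coh.structureModule (U : Scheme.{u}) :=
    Scheme.Modules.restrictUnitIso U.ι
  let a : Fin n → ((freeOn U).restrict U.ι ⟶ M.restrict U.ι) := fun k =>
    (rU U).map (toStructure U) ≫ r.hom ≫ s k
  have hlift : ∀ k, ∃ φ : freeOn U ⟶ M, (rU U).map φ = a k := by
    intro k
    have e : U ≤ U.ι ''ᵁ (U.ι ⁻¹ᵁ U) := by
      rw [Scheme.Hom.image_preimage_eq_opensRange_inf, Scheme.Opens.opensRange_ι]
      exact le_inf le_rfl le_rfl
    let m : Γ(M, U.ι ''ᵁ (U.ι ⁻¹ᵁ U)) :=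
      (a k).app (U.ι ⁻¹ᵁ U) (rs (freeOn U) (U.ι.image_preimage_le U) (genSec U))
    obtain ⟨φ, hφ⟩ := (isFreeOn_freeOn U M).2 (rs M e m)
    refine ⟨φ, restrict_freeOn_hom_ext ?_⟩
    change φ.app (U.ι ''ᵁ (U.ι ⁻¹ᵁ U)) (rs (freeOn U) _ (genSec U)) = m
    rw [← rs_app]
    exact (congrArg (rs M _) hφ).trans ((rs_rs M e _ m).trans (rs_self M _ m))
  choose φ hφ using hlift
  have : PreservesColimitsOfSize.{u, u} (rU U) :=
    (Scheme.Modules.restrictAdjunction U.ι).leftAdjoint_preservesColimits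
  have := LocFree.preservesFinCoproducts (rU U) (Fin n)
  let E : (rU U).obj (∐ fun _ : Fin n => freeOn U) ≅ M.restrict U.ι :=
    PreservesCoproduct.iso (rU U) _ ≪≫
      (Sigma.mapIso fun _ => asIso ((rU U).map (toStructure U)) ≪≫ r) ≪≫ i.symm
  refine ⟨Sigma.desc φ, ?_⟩
  have : (rU U).map (Sigma.desc φ) = E.hom := by
    rw [← cancel_epi (PreservesCoproduct.iso (rU U) (fun _ : Fin n => freeOn U)).inv]
    refine Sigma.hom_ext _ _ fun k => ?_
    simp only [E, Iso.trans_hom, PreservesCoproduct.inv_hom,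
      ι_comp_sigmaComparison_assoc, ← Functor.map_comp, Sigma.ι_desc, hφ]
    have h' : (rU U).map (Sigma.ι (fun _ : Fin n => freeOn U) k) ≫
        (PreservesCoproduct.iso (rU U) fun _ => freeOn U).hom =
        Sigma.ι (fun _ : Fin n => (rU U).obj (freeOn U)) k := by
      rw [← cancel_mono (PreservesCoproduct.iso (rU U) fun _ => freeOn U).inv, Category.assoc,
        Iso.hom_inv_id, Category.comp_id, PreservesCoproduct.inv_hom, ι_comp_sigmaComparison]
    rw [reassoc_of% h']
    simp [a, s]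
  rw [this]
  infer_instance

end FreeOn

section Unit

variable (f : X ⟶ Y)

lemma unit_comp_structure :
    (pbAdj f).unit.app (Coh.structureModule Y) ≫ (pf f).map (PicLoc.pullbackStructureIso f).hom =
      SheafOfModules.unitToPushforwardObjUnit f.toRingCatSheafHom := by
  have h := (pbAdj f).homEquiv_unit (f := (PicLoc.pullbackStructureIso f).hom)
  rw [← h]
  exact ((pbAdj f).homEquiv _ _).apply_symm_apply _

lemma bijective_app_of_isIso {M N : X.Modules} {φ : M ⟶ N} {V : X.Opens}
    (h : IsIso (φ.app V)) : Function.Bijective (φ.app V) :=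
  (ConcreteCategory.isIso_iff_bijective _).1 h

lemma isIso_unit_structure (hf : ∀ U : Y.Opens, IsIso (f.app U)) :
    IsIso ((pbAdj f).unit.app (Coh.structureModule Y)) := by
  let u : Coh.structureModule Y ⟶ (pf f).obj (Coh.structureModule X) :=
    SheafOfModules.unitToPushforwardObjUnit f.toRingCatSheafHom
  have h1 : IsIso u := by
    refine (Scheme.Modules.Hom.isIso_iff_isIso_app (φ := u)).2 fun V => ?_
    refine (ConcreteCategory.isIso_iff_bijective _).2 ?_
    exact (ConcreteCategory.isIso_iff_bijective (f.app V)).1 (hf V)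
  have h2 : IsIso ((pbAdj f).unit.app (Coh.structureModule Y) ≫
      (pf f).map (PicLoc.pullbackStructureIso f).hom) :=
    (show _ = u from unit_comp_structure f) ▸ h1
  exact IsIso.of_isIso_comp_right _ ((pf f).map (PicLoc.pullbackStructureIso f).hom)

lemma isIso_pullback_restrict {M N : Y.Modules} {φ : M ⟶ N} {U : Y.Opens}
    (h : IsIso ((rU U).map φ)) : IsIso ((rU (f ⁻¹ᵁ U)).map ((pb f).map φ)) := by
  let e : pb f ⋙ rU (f ⁻¹ᵁ U) ≅ rU U ⋙ pb (f ∣_ U) :=
    Functor.isoWhiskerLeft _ (Scheme.Modules.restrictFunctorIsoPullback (f ⁻¹ᵁ U).ι) ≪≫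
      Scheme.Modules.pullbackComp (f ⁻¹ᵁ U).ι f ≪≫
      Scheme.Modules.pullbackCongr (morphismRestrict_ι f U).symm ≪≫
      (Scheme.Modules.pullbackComp (f ∣_ U) U.ι).symm ≪≫
      Functor.isoWhiskerRight (Scheme.Modules.restrictFunctorIsoPullback U.ι).symm _
  have : IsIso ((rU U ⋙ pb (f ∣_ U)).map φ) := inferInstanceAs (IsIso ((pb (f ∣_ U)).map _))
  exact (NatIso.isIso_map_iff e φ).2 this

lemma unit_natural_app {M N : Y.Modules} (φ : M ⟶ N) {V : Y.Opens} (m : Γ(M, V)) :
    ((pb f).map φ).app (f ⁻¹ᵁ V) (unitSec f M m) = unitSec f N (φ.app V m) :=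
  (unitSec_natural f φ m).symm

lemma bijective_unit_of_iso_over {M N : Y.Modules} {φ : M ⟶ N} {U : Y.Opens}
    (h : IsIso ((rU U).map φ)) {V : Y.Opens} (hV : V ≤ U) :
    Function.Bijective (((pbAdj f).unit.app M).app V) ↔
      Function.Bijective (((pbAdj f).unit.app N).app V) := by
  have h1 := bijective_app_of_isIso (isIso_app_of_isIso_restrict h hV)
  have h2 := bijective_app_of_isIso (isIso_app_of_isIso_restrict (isIso_pullback_restrict f h)
    ((Opens.map f.base).monotone hV : f ⁻¹ᵁ V ≤ f ⁻¹ᵁ U))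
  have e : ((pb f).map φ).app (f ⁻¹ᵁ V) ∘ unitSec f M = unitSec f N ∘ φ.app V :=
    funext fun m => unit_natural_app f φ m
  change Function.Bijective (unitSec f M) ↔ Function.Bijective (unitSec f N)
  rw [← Function.Bijective.of_comp_iff' h2, e, Function.Bijective.of_comp_iff _ h1]

lemma bijective_unit_freeOn (hf : ∀ U : Y.Opens, IsIso (f.app U)) {U V : Y.Opens} (hV : V ≤ U) :
    Function.Bijective (((pbAdj f).unit.app (freeOn U)).app V) :=
  (bijective_unit_of_iso_over f isIso_restrict_toStructure hV).2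
    (bijective_app_of_isIso (Scheme.Modules.Hom.isIso_iff_isIso_app.1 (isIso_unit_structure f hf) V))

lemma sum_app {A B : X.Modules} {J : Type*} (t : Finset J) (g : J → (A ⟶ B)) {V : X.Opens}
    (a : Γ(A, V)) : (∑ j ∈ t, g j).app V a = ∑ j ∈ t, (g j).app V a :=
  map_sum (AddMonoidHom.mk' (fun u : A ⟶ B => (u.app V a : Γ(B, V))) fun _ _ => rfl) g t

lemma bijective_unit_sigma {J : Type} [Fintype J] [DecidableEq J] (M : J → Y.Modules) {V : Y.Opens}
    (h : ∀ j, Function.Bijective (((pbAdj f).unit.app (M j)).app V)) :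
    Function.Bijective (((pbAdj f).unit.app (∐ M)).app V) := by
  let π : ∀ j, (∐ M) ⟶ M j := fun j =>
    Sigma.desc fun k => if e : k = j then eqToHom (congrArg M e) else 0
  have hid : ∑ j, π j ≫ Sigma.ι M j = 𝟙 (∐ M) := by
    refine Sigma.hom_ext _ _ fun k => ?_
    rw [Preadditive.comp_sum, Finset.sum_eq_single k]
    · simp [π]
    · intro j _ hj
      simp [π, Ne.symm hj]
    · simp
  change Function.Bijective (unitSec f (∐ M) (U := V))
  refine ⟨fun a b hab => ?_, fun y => ?_⟩
  · have hπ : ∀ j, (π j).app V a = (π j).app V b := fun j => (h j).1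
      ((unit_natural_app f (π j) a).symm.trans
        ((congrArg _ hab).trans (unit_natural_app f (π j) b)))
    have hsum : ∀ x : Γ(∐ M, V), x = ∑ j, (Sigma.ι M j).app V ((π j).app V x) := fun x =>
      (congrArg (fun t : (∐ M) ⟶ ∐ M => t.app V x) hid).symm.trans (sum_app _ _ x)
    rw [hsum a, hsum b]
    simp only [hπ]
  · have : (pb f).Additive := (pbAdj f).left_adjoint_additive
    choose x hx using fun j => (h j).2 (((pb f).map (π j)).app (f ⁻¹ᵁ V) y)
    refine ⟨∑ j, (Sigma.ι M j).app V (x j), ?_⟩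
    refine (map_sum (((pbAdj f).unit.app (∐ M)).app V).hom _ _).trans ?_
    have hy : y = ∑ j, ((pb f).map (π j ≫ Sigma.ι M j)).app (f ⁻¹ᵁ V) y := by
      rw [← sum_app, ← Functor.map_sum, hid, CategoryTheory.Functor.map_id]
      rfl
    rw [hy]
    refine Finset.sum_congr rfl fun j _ => ?_
    rw [Functor.map_comp]
    exact (unit_natural_app f (Sigma.ι M j) (x j)).symm.trans
      (congrArg (((pb f).map (Sigma.ι M j)).app (f ⁻¹ᵁ V)) (hx j))

theorem isIso_unit_of_isFinLocFree (hf : ∀ U : Y.Opens, IsIso (f.app U)) {M : Y.Modules}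
    (hM : FlatMod.IsFinLocFree M) : IsIso ((pbAdj f).unit.app M) := by
  refine isIso_of_locally _ fun y => ?_
  obtain ⟨U, n, hy, ⟨i⟩⟩ := hM y
  obtain ⟨φ, hφ⟩ := exists_map_isIso_restrict i
  exact ⟨U, hy, fun V hV => (ConcreteCategory.isIso_iff_bijective _).2
    ((bijective_unit_of_iso_over f hφ hV).1
      (bijective_unit_sigma f _ fun _ => bijective_unit_freeOn f hf hV))⟩

end Unit

end Groth.Agent.Lib.TensorMod.LocIso
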