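import Groth.Agent.Lib.TensorMod.LocFree
import Groth.Agent.Lib.TensorMod.LocIso
import Groth.Agent.Lib.TensorMod.GenLocal
import Groth.Agent.Lib.Modules.Free
import Mathlib.LinearAlgebra.Matrix.NonsingularInverse

/-!
Bases of sections of a module over an open, and free restrictions.
-/

universe u

open CategoryTheory CategoryTheory.Limits AlgebraicGeometry Opposite TopologicalSpace

namespace Groth.Agent.Lib.TensorMod.Basis

open Groth.Agent.Lib.TensorMod.Dual Groth.Agent.Lib.TensorMod.Gen
open Groth.Agent.Lib.TensorMod.HomGlue (rs_app)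

variable {X : Scheme.{u}} {M N : X.Modules} {U : X.Opens} {n : ℕ}

/-- The combination of restricted sections. -/
noncomputable def comb (e : Fin n → Γ(M, U)) {V : X.Opens} (h : V ≤ U) (a : Fin n → Γ(X, V)) :
    Γ(M, V) :=
  ∑ k, a k • rs M h (e k)

/-- Sections forming a basis of `M` over every open of `U`. -/
def IsBasis (e : Fin n → Γ(M, U)) : Prop :=
  ∀ (V : X.Opens) (h : V ≤ U), Function.Bijective (comb e h)

lemma rs_sum (M : X.Modules) {V W : X.Opens} (h : V ≤ W) {ι : Type*} (t : Finset ι)
    (f : ι → Γ(M, W)) : rs M h (∑ j ∈ t, f j) = ∑ j ∈ t, rs M h (f j) :=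
  map_sum (M.presheaf.map (homOfLE h).op).hom f t

lemma app_comb (φ : M ⟶ N) (e : Fin n → Γ(M, U)) {V : X.Opens} (h : V ≤ U)
    (a : Fin n → Γ(X, V)) : φ.app V (comb e h a) = comb (fun k => φ.app U (e k)) h a := by
  simp only [comb]
  rw [map_sum]
  refine Finset.sum_congr rfl fun k _ => ?_
  rw [Scheme.Modules.Hom.app_smul, rs_app]

lemma rs_comb (e : Fin n → Γ(M, U)) {V W : X.Opens} (h : V ≤ U) (h' : W ≤ V)
    (a : Fin n → Γ(X, V)) : rs M h' (comb e h a) = comb e (h'.trans h) fun k => rf h' (a k) := by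
  simp only [comb, rs_sum, rs_smul, rs_rs]

lemma comb_rs (e : Fin n → Γ(M, U)) {V W : X.Opens} (h : V ≤ U) (h' : W ≤ V)
    (a : Fin n → Γ(X, W)) :
    comb (fun k => rs M h (e k)) h' a = comb e (h'.trans h) a := by
  simp only [comb, rs_rs]

lemma IsBasis.res {e : Fin n → Γ(M, U)} (he : IsBasis e) {V : X.Opens} (h : V ≤ U) :
    IsBasis fun k => rs M h (e k) := fun W hW => by
  rw [funext (comb_rs e h hW)]
  exact he W _

lemma comb_matrix (e : Fin n → Γ(M, U)) (C : Matrix (Fin n) (Fin n) Γ(X, U)) {V : X.Opens}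
    (h : V ≤ U) (a : Fin n → Γ(X, V)) :
    comb (fun k => ∑ l, C k l • e l) h a = comb e h (Matrix.vecMul a (C.map (rf h))) := by
  simp only [comb, rs_sum, rs_smul, Finset.smul_sum, smul_smul, Matrix.vecMul, dotProduct,
    Matrix.map_apply, Finset.sum_smul]
  exact Finset.sum_comm

/-- An invertible change of coordinates preserves bases. -/
theorem IsBasis.of_matrix {e : Fin n → Γ(M, U)} (he : IsBasis e)
    (C : Matrix (Fin n) (Fin n) Γ(X, U)) (hC : IsUnit C.det) :
    IsBasis fun k => ∑ l, C k l • e l := fun V hV => by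
  rw [funext (comb_matrix e C hV)]
  have hu : IsUnit (C.map (rf hV)) := by
    refine (Matrix.isUnit_iff_isUnit_det _).2 ?_
    rw [← RingHom.mapMatrix_apply, ← RingHom.map_det]
    exact hC.map _
  exact (he V hV).comp
    ⟨Matrix.vecMul_injective_of_isUnit hu, Matrix.vecMul_surjective_iff_isUnit.2 hu⟩

/-- Being a basis is local. -/
theorem isBasis_of_forall_exists {e : Fin n → Γ(M, U)}
    (h : ∀ x ∈ U, ∃ (W : X.Opens) (hW : W ≤ U), x ∈ W ∧ IsBasis fun k => rs M hW (e k)) :
    IsBasis e := fun V hV => by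
  choose W hW hxW hgen using h
  let D : V → X.Opens := fun x => V ⊓ W x.1 (hV x.2)
  have hD : V ≤ iSup D := fun x hx => Opens.mem_iSup.2 ⟨⟨x, hx⟩, hx, hxW x (hV hx)⟩
  have hDV : ∀ x, D x ≤ V := fun x => inf_le_left
  have hb : ∀ x, Function.Bijective (comb e ((hDV x).trans hV)) := fun x => by
    have := hgen x.1 (hV x.2) (D x) inf_le_right
    rwa [funext (comb_rs e (hW _ _) _)] at this
  constructor
  · intro a b hab
    funext k
    refine TopCat.Sheaf.eq_of_locally_eq' X.sheaf D V (fun x => homOfLE (hDV x)) hD _ _ fun x => ?_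
    change rf (hDV x) (a k) = rf (hDV x) (b k)
    have := congrArg (rs M (hDV x)) hab
    rw [rs_comb, rs_comb] at this
    exact congrFun ((hb x).1 this) k
  · intro y
    choose a ha using fun x => (hb x).2 (rs M (hDV x) y)
    have hglue : ∀ k, ∃ r : Γ(X, V), ∀ x, rf (hDV x) r = a x k := by
      intro k
      obtain ⟨r, hr, -⟩ := TopCat.Sheaf.existsUnique_gluing' X.sheaf D V
        (fun x => homOfLE (hDV x)) hD (fun x => a x k) fun i j => by
          change rf (inf_le_left : D i ⊓ D j ≤ D i) (a i k) =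
            rf (inf_le_right : D i ⊓ D j ≤ D j) (a j k)
          have hi := congrArg (rs M (inf_le_left : D i ⊓ D j ≤ D i)) (ha i)
          have hj := congrArg (rs M (inf_le_right : D i ⊓ D j ≤ D j)) (ha j)
          simp only [rs_comb, rs_rs] at hi hj
          have hinj := hgen i.1 (hV i.2) (D i ⊓ D j) (inf_le_left.trans inf_le_right)
          rw [funext (comb_rs e (hW _ _) _)] at hinj
          exact congrFun (hinj.1 (hi.trans hj.symm)) k
      exact ⟨r, hr⟩
    choose r hr using hglue
    refine ⟨r, HomGlue.sections_ext_cover D M hD fun x => ?_⟩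
    have hx : V ⊓ D x ≤ D x := inf_le_right
    have h2 := congrArg (rs M hx) (ha x)
    simp only [rs_comb, rs_rs] at h2 ⊢
    rw [← h2]
    congr 1
    funext k
    rw [← hr k x, rf_rf]

section Free

open Groth.Agent.Lib.Modules.Free (gen freeHom)

variable (X n)

/-- The standard sections of a free module form a basis. -/
theorem isBasis_freeMod : IsBasis (U := (⊤ : X.Opens)) (gen X : Fin n → _) := fun V hV => by
  classical
  let ι' : Fin n → (Coh.structureModule X ⟶ FlatMod.freeMod X n) :=
    Sigma.ι fun _ : Fin n => Coh.structureModule X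
  let π : Fin n → (FlatMod.freeMod X n ⟶ Coh.structureModule X) := fun k =>
    Sigma.desc fun l => if l = k then 𝟙 _ else 0
  have hid : ∑ k, π k ≫ ι' k = 𝟙 (FlatMod.freeMod X n) := by
    refine Sigma.hom_ext _ _ fun l => ?_
    rw [Preadditive.comp_sum, Category.comp_id, Finset.sum_eq_single l]
    · simp [π, ι']
    · intro k _ hk
      simp [π, ι', Ne.symm hk]
    · simp
  have hι : ∀ k (r : Γ(X, V)), (ι' k).app V r = r • rs (FlatMod.freeMod X n) hV (gen X k) := by
    intro k r
    rw [app_eq_smul (ι' k) r]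
    exact congrArg (r • ·) (rs_app_one (ι' k) hV).symm
  have hcomb : ∀ a : Fin n → Γ(X, V), comb (U := (⊤ : X.Opens)) (gen X) hV a =
      ∑ k, (ι' k).app V (a k) := fun a => by simp only [comb, hι]
  have hπι : ∀ (k l : Fin n) (r : Γ(X, V)), (π k).app V ((ι' l).app V r) =
      if l = k then r else (0 : Γ(Coh.structureModule X, V)) := fun k l r => by
    change (ι' l ≫ π k).app V r = _
    simp only [π, ι', Sigma.ι_desc]
    split_ifs with h <;> simp [h] <;> rfl
  constructor
  · intro a b hab
    funext k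
    have := congrArg ((π k).app V) hab
    rw [hcomb, hcomb, map_sum, map_sum, Finset.sum_congr rfl fun l _ => hπι k l (a l),
      Finset.sum_congr rfl fun l _ => hπι k l (b l)] at this
    erw [Finset.sum_ite_eq', Finset.sum_ite_eq'] at this
    exact (if_pos (Finset.mem_univ k)).symm.trans (this.trans (if_pos (Finset.mem_univ k)))
  · intro y
    refine ⟨fun k => (π k).app V y, (hcomb _).trans ?_⟩
    have := congrArg (fun φ : FlatMod.freeMod X n ⟶ FlatMod.freeMod X n => φ.app V y) hid
    rw [LocIso.sum_app] at this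
    exact this

variable {X n}

/-- A free restriction has a basis of sections. -/
theorem exists_basis_of_iso (i : M.restrict U.ι ≅ FlatMod.freeMod (↑U) n) :
    ∃ e : Fin n → Γ(M, U), IsBasis e := by
  have hU : U.ι ''ᵁ ⊤ = U := by simp
  let s : Fin n → Γ(M, U) := fun k =>
    rs M hU.ge ((M.restrictAppIso U.ι ⊤).hom (i.inv.app ⊤ (gen (U : Scheme.{u}) k)))
  refine ⟨s, fun V hV => ?_⟩
  obtain ⟨W, rfl⟩ : ∃ W : (U : Scheme.{u}).Opens, U.ι ''ᵁ W = V :=
    ⟨U.ι ⁻¹ᵁ V, by rw [Scheme.Hom.image_preimage_eq_opensRange_inf, Scheme.Opens.opensRange_ι]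
                   exact inf_eq_right.2 hV⟩
  have key : ∀ k, rs M hV (s k) = (M.restrictAppIso U.ι W).hom
      (rs (M.restrict U.ι) (le_top (a := W)) (i.inv.app ⊤ (gen (U : Scheme.{u}) k))) := fun k => by
    simp only [s, rs_rs]
    rfl
  have h : comb s hV ∘ (fun a k => (U.ι.appIso W).inv (a k)) =
      (M.restrictAppIso U.ι W).hom ∘ i.inv.app W ∘
        comb (X := (U : Scheme.{u})) (U := ⊤) (gen (U : Scheme.{u})) (le_top (a := W)) := by
    funext a
    simp only [Function.comp_apply]
    rw [app_comb]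
    simp only [comb, key]
    rw [map_sum]
    exact Finset.sum_congr rfl fun k _ => (restrict_smul U.ι M _ _).symm
  refine (Function.Bijective.of_comp_iff _
    (Function.Bijective.piMap fun _ : Fin n =>
      ConcreteCategory.bijective_of_isIso (U.ι.appIso W).inv)).1 ?_
  change Function.Bijective (comb s hV ∘ fun (a : Fin n → Γ((U : Scheme.{u}), W)) k =>
    (U.ι.appIso W).inv (a k))
  rw [h]
  exact (ConcreteCategory.bijective_of_isIso (M.restrictAppIso U.ι W).hom).comp
      ((ConcreteCategory.bijective_of_isIso (i.inv.app W)).comp (isBasis_freeMod _ n W le_top))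

/-- A basis of sections trivialises the restriction. -/
theorem exists_iso_of_basis {e : Fin n → Γ(M, U)} (he : IsBasis e) :
    Nonempty (M.restrict U.ι ≅ FlatMod.freeMod (↑U) n) := by
  have hU : U.ι ''ᵁ ⊤ ≤ U := U.ι_image_le _
  let s : Fin n → Γ(M.restrict U.ι, ⊤) := fun k =>
    (M.restrictAppIso U.ι ⊤).inv (rs M hU (e k))
  let φ := freeHom (M := M.restrict U.ι) s
  have : IsIso φ := by
    rw [Scheme.Modules.Hom.isIso_iff_isIso_app]
    intro W
    refine (ConcreteCategory.isIso_iff_bijective _).2 ?_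
    refine (Function.Bijective.of_comp_iff _ (isBasis_freeMod (U : Scheme.{u}) n W le_top)).1 ?_
    have h : φ.app W ∘ comb (X := (U : Scheme.{u})) (U := ⊤) (gen (U : Scheme.{u})) (le_top (a := W)) =
        (M.restrictAppIso U.ι W).inv ∘ comb e (U.ι_image_le W) ∘
          (fun a k => (U.ι.appIso W).inv (a k)) := by
      funext a
      simp only [Function.comp_apply]
      rw [app_comb]
      simp only [φ, Groth.Agent.Lib.Modules.Free.freeHom_app_gen]
      simp only [comb, s]
      rw [map_sum]
      refine Finset.sum_congr rfl fun k _ => ?_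
      refine congrArg (a k • ·) ?_
      exact rs_rs M hU (Scheme.Hom.image_mono U.ι (le_top (a := W))) (e k)
    rw [h]
    exact (ConcreteCategory.bijective_of_isIso (M.restrictAppIso U.ι W).inv).comp
      ((he _ (U.ι_image_le W)).comp
        (Function.Bijective.piMap fun _ => ConcreteCategory.bijective_of_isIso (U.ι.appIso W).inv))
  exact ⟨(asIso φ).symm⟩

end Free

end Groth.Agent.Lib.TensorMod.Basis
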