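import Groth.Agent.Lib.TensorMod.QCohInv
import Groth.Agent.Lib.TensorMod.Basis

/-!
Locally free modules are free near a finite set of points of an affine open.
-/

universe u

open CategoryTheory CategoryTheory.Limits AlgebraicGeometry Opposite TopologicalSpace

namespace Groth.Agent.Lib.TensorMod.FinsetTriv

open Groth.Agent.Lib.TensorMod.Dual Groth.Agent.Lib.TensorMod.Gen
open Groth.Agent.Lib.TensorMod.Basis

variable {X : Scheme.{u}} {U : X.Opens}

lemma evaluation_rf {V W : X.Opens} (h : V ≤ W) {x : X} (hx : x ∈ V) (a : Γ(X, W)) :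
    X.evaluation V x hx (rf h a) = X.evaluation W x (h hx) a :=
  congrArg (X.residue x) (X.presheaf.germ_res_apply (homOfLE h) x hx a)

lemma mem_basicOpen_iff (hU : IsAffineOpen U) {x : X} (hx : x ∈ U)
    (g : Γ(X, U)) : x ∈ X.basicOpen g ↔ g ∉ (hU.primeIdealOf ⟨x, hx⟩).asIdeal := by
  have h := hU.fromSpec_preimage_basicOpen g
  have hp := hU.fromSpec_primeIdealOf ⟨x, hx⟩
  constructor
  · intro hxg
    have h1 : hU.primeIdealOf ⟨x, hx⟩ ∈ hU.fromSpec ⁻¹ᵁ X.basicOpen g := by
      change hU.fromSpec (hU.primeIdealOf ⟨x, hx⟩) ∈ X.basicOpen g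
      rwa [hp]
    rw [h] at h1
    exact h1
  · intro hg
    have h1 : hU.primeIdealOf ⟨x, hx⟩ ∈ hU.fromSpec ⁻¹ᵁ X.basicOpen g := by
      rw [h]; exact hg
    change hU.fromSpec (hU.primeIdealOf ⟨x, hx⟩) ∈ X.basicOpen g at h1
    rwa [hp] at h1

/-- Functions separating the points of a finite antichain in an affine open. -/
lemma exists_separating (hU : IsAffineOpen U) {ι : Type*} [Finite ι] (p : ι → X)
    (hp : ∀ i, p i ∈ U) (hanti : ∀ i j, p i ⤳ p j → i = j) (i : ι) :
    ∃ a : Γ(X, U), p i ∈ X.basicOpen a ∧ ∀ j, j ≠ i → p j ∉ X.basicOpen a := by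
  classical
  let P : ι → Ideal Γ(X, U) := fun j => (hU.primeIdealOf ⟨p j, hp j⟩).asIdeal
  have hb : ∀ j, j ≠ i → ∃ b, b ∈ P j ∧ b ∉ P i := fun j hj =>
    SetLike.not_le_iff_exists.1 fun hle => hj (hanti j i (specializes_iff_forall_open.2
      fun O hO hiO => by
        obtain ⟨g, hgO, hg⟩ := hU.exists_basicOpen_le (V := ⟨O, hO⟩) ⟨p i, hiO⟩ (hp i)
        refine hgO ((mem_basicOpen_iff hU (hp j) g).2 fun h => ?_)
        exact (mem_basicOpen_iff hU (hp i) g).1 hg (hle h)))
  choose b hbj hbi using hb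
  have := Fintype.ofFinite ι
  refine ⟨∏ j ∈ Finset.univ.erase i, if h : j = i then 1 else b j h, ?_, fun j hj => ?_⟩
  · rw [mem_basicOpen_iff hU (hp i)]
    intro hmem
    obtain ⟨j, hj, hj'⟩ := (hU.primeIdealOf ⟨p i, hp i⟩).isPrime.prod_mem_iff.1 hmem
    rw [dif_neg (Finset.ne_of_mem_erase hj)] at hj'
    exact hbi j _ hj'
  · rw [mem_basicOpen_iff hU (hp j), not_not]
    refine Ideal.mem_of_dvd _
      (Finset.dvd_prod_of_mem _ (Finset.mem_erase.2 ⟨hj, Finset.mem_univ j⟩)) ?_
    rw [dif_neg hj]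
    exact hbj j hj

/-- Finitely many points of an affine open inside an open lie in a basic open inside it; and a
locally free module is free on such a basic open (antichain version). -/
theorem exists_basis_basicOpen_aux (hU : IsAffineOpen U) {M : X.Modules} {n : ℕ}
    (hM : FlatMod.IsFinLocFreeOfRank n M) {ι : Type*} [Finite ι] (p : ι → X) (hp : ∀ i, p i ∈ U)
    (hanti : ∀ i j, p i ⤳ p j → i = j) {O : X.Opens} (hO : ∀ i, p i ∈ O) :
    ∃ (g : Γ(X, U)) (e : Fin n → Γ(M, X.basicOpen g)),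
      (∀ i, p i ∈ X.basicOpen g) ∧ X.basicOpen g ≤ O ∧ IsBasis e := by
  classical
  have := Fintype.ofFinite ι
  have := QCohInv.isQCoh_of_isFinLocFree (LocFree.of_rank hM)
  have hloc : ∀ i, ∃ (f : Γ(X, U)) (e : Fin n → Γ(M, X.basicOpen f)) (t : Fin n → Γ(M, U))
      (c : Γ(X, X.basicOpen f)) (hif : p i ∈ X.basicOpen f), IsBasis e ∧
      (∀ k, rs M (X.basicOpen_le f) (t k) = c • e k) ∧
      X.evaluation _ (p i) hif c ≠ 0 := by
    intro i
    obtain ⟨V, hxV, ⟨j⟩⟩ := hM (p i)
    obtain ⟨e, he⟩ := exists_basis_of_iso j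
    obtain ⟨f, hfV, hif⟩ := hU.exists_basicOpen_le ⟨p i, hxV⟩ (hp i)
    have hext : ∀ k, ∃ (m : ℕ) (t : Γ(M, U)),
        rs M (X.basicOpen_le f) t = rf (X.basicOpen_le f) f ^ m • rs M hfV (e k) := fun k =>
      (QCoh.Localizing.localizes_of_isAffineOpen M hU f).ext' (rs M hfV (e k))
    choose m t ht using hext
    let N := Finset.univ.sup m
    refine ⟨f, fun k => rs M hfV (e k), fun k => f ^ (N - m k) • t k,
      rf (X.basicOpen_le f) f ^ N, hif, he.res hfV, fun k => ?_, ?_⟩
    · rw [rs_smul, ht, smul_smul]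
      simp only [rf, map_pow]
      rw [← pow_add, Nat.sub_add_cancel (Finset.le_sup (Finset.mem_univ k))]
    · rw [map_pow]
      refine pow_ne_zero _ ?_
      rw [evaluation_rf, Scheme.evaluation_ne_zero_iff_mem_basicOpen]
      exact hif
  choose f e t c hif hbasis htc hc using hloc
  choose a hai hane using exists_separating hU p hp hanti
  let s : Fin n → Γ(M, U) := fun k => ∑ j, a j • t j k
  have hev : ∀ i j, j ≠ i → X.evaluation U (p i) (hp i) (a j) = 0 := fun i j hj =>
    (X.evaluation_eq_zero_iff_notMem_basicOpen (p i) (hp i) (a j)).2 (hane j i hj.symm)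
  have hevi : ∀ i, X.evaluation U (p i) (hp i) (a i) ≠ 0 := fun i =>
    (X.evaluation_ne_zero_iff_mem_basicOpen (p i) (hp i) (a i)).2 (hai i)
  have hs : ∀ i, ∃ (V : X.Opens) (hV : V ≤ U), p i ∈ V ∧ IsBasis fun k => rs M hV (s k) := by
    intro i
    let D := X.basicOpen (f i)
    have hD : D ≤ U := X.basicOpen_le _
    have hb : ∀ j k, ∃ b : Fin n → Γ(X, D), ∑ l, b l • e i l = rs M hD (t j k) := fun j k => by
      obtain ⟨b, hb⟩ := (hbasis i D le_rfl).2 (rs M hD (t j k))
      exact ⟨b, by simpa only [comb, rs_self] using hb⟩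
    choose b hb using hb
    have hbi : ∀ k, b i k = fun l => if l = k then c i else 0 := by
      intro k
      refine (hbasis i D le_rfl).1 ?_
      simp only [comb, rs_self]
      rw [hb, htc, Finset.sum_eq_single k (fun l _ hl => by rw [if_neg hl, zero_smul]) (by simp),
        if_pos rfl]
    let C : Matrix (Fin n) (Fin n) Γ(X, D) := fun k l => ∑ j, rf hD (a j) * b j k l
    have hsum : ∀ k, rs M hD (s k) = ∑ l, C k l • e i l := fun k => by
      simp only [s, C, Basis.rs_sum, Finset.sum_smul]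
      rw [Finset.sum_comm]
      refine Finset.sum_congr rfl fun j _ => ?_
      rw [rs_smul, ← hb j k, Finset.smul_sum]
      simp only [smul_smul]
    have hdet : p i ∈ X.basicOpen C.det := by
      rw [← X.evaluation_ne_zero_iff_mem_basicOpen (p i) (hif i)]
      have hC : C.map (X.evaluation D (p i) (hif i)) =
          (X.evaluation U (p i) (hp i) (a i) * X.evaluation D (p i) (hif i) (c i)) •
            (1 : Matrix (Fin n) (Fin n) (X.residueField (p i))) := by
        ext k l
        rw [Matrix.map_apply, Matrix.smul_apply, Matrix.one_apply]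
        simp only [C]
        rw [map_sum, Finset.sum_eq_single i]
        · rw [map_mul, evaluation_rf, hbi]
          by_cases h : k = l
          · subst h; simp
          · simp [h, Ne.symm h]
        · intro j _ hj
          rw [map_mul, evaluation_rf, hev i j hj, zero_mul]
        · simp
      have hdet' := (X.evaluation D (p i) (hif i)).hom.map_det C
      rw [RingHom.mapMatrix_apply, hC, Matrix.det_smul, Matrix.det_one, mul_one] at hdet'
      exact hdet' ▸ pow_ne_zero _ (mul_ne_zero (hevi i) (hc i))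
    refine ⟨X.basicOpen C.det, (X.basicOpen_le _).trans hD, hdet, ?_⟩
    have hle := X.basicOpen_le C.det
    have hB := ((hbasis i).res hle).of_matrix (C.map (rf hle)) (by
      rw [← RingHom.mapMatrix_apply, ← RingHom.map_det]
      exact RingedSpace.isUnit_res_basicOpen X.toLocallyRingedSpace.toRingedSpace _)
    simp only [Matrix.map_apply, ← rs_smul, ← Basis.rs_sum, ← hsum, rs_rs] at hB
    exact hB
  choose V hVU hxV hVb using hs
  let G : X.Opens := (⨆ i, V i) ⊓ O
  have hg : ∀ i, ∃ g : Γ(X, U), p i ∈ X.basicOpen g ∧ X.basicOpen g ≤ G := fun i => by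
    obtain ⟨g, hg, hxg⟩ := hU.exists_basicOpen_le (V := G)
      ⟨p i, Opens.mem_iSup.2 ⟨i, hxV i⟩, hO i⟩ (hp i)
    exact ⟨g, hxg, hg⟩
  choose g hxg hgG using hg
  let g₀ : Γ(X, U) := ∑ j, a j * g j
  have hg₀ : X.basicOpen g₀ ≤ G := fun y hy => by
    by_contra hno
    have hyU : y ∈ U := X.basicOpen_le _ hy
    refine (mem_basicOpen_iff hU hyU g₀).1 hy (Submodule.sum_mem _ fun j _ => ?_)
    refine Ideal.mul_mem_left _ _ (not_not.1 fun h => hno (hgG j ?_))
    exact (mem_basicOpen_iff hU hyU (g j)).2 h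
  refine ⟨g₀, fun k => rs M (X.basicOpen_le g₀) (s k), fun i => ?_,
    hg₀.trans inf_le_right, isBasis_of_forall_exists fun y hy => ?_⟩
  · rw [← X.evaluation_ne_zero_iff_mem_basicOpen (p i) (hp i), map_sum, Finset.sum_eq_single i]
    · rw [map_mul]
      exact mul_ne_zero (hevi i)
        ((X.evaluation_ne_zero_iff_mem_basicOpen (p i) (hp i) (g i)).2 (hxg i))
    · intro j _ hj
      rw [map_mul, hev i j hj, zero_mul]
    · simp
  · obtain ⟨i, hi⟩ := Opens.mem_iSup.1 (hg₀ hy).1
    refine ⟨X.basicOpen g₀ ⊓ V i, inf_le_left, ⟨hy, hi⟩, ?_⟩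
    have := (hVb i).res (inf_le_right : X.basicOpen g₀ ⊓ V i ≤ V i)
    simp only [rs_rs] at this ⊢
    exact this

/-- Every point of a finite set specialises to one which is maximal in the set. -/
lemma exists_maximal_specializes {T : Set X} (hT : T.Finite) {x : X} (hx : x ∈ T) :
    ∃ y ∈ T, x ⤳ y ∧ ∀ z ∈ T, y ⤳ z → z = y := by
  have hS : {y | y ∈ T ∧ x ⤳ y}.Finite := hT.subset fun y h => h.1
  obtain ⟨y, ⟨hyT, hxy⟩, hmin⟩ := Set.Finite.exists_minimalFor
    (fun y : X => {z | z ∈ T ∧ y ⤳ z}.ncard) _ hS ⟨x, hx, specializes_rfl⟩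
  refine ⟨y, hyT, hxy, fun z hz hyz => ?_⟩
  by_contra hne
  have hsub : {w | w ∈ T ∧ z ⤳ w} ⊂ {w | w ∈ T ∧ y ⤳ w} := by
    refine ⟨fun w hw => ⟨hw.1, hyz.trans hw.2⟩, fun hsub => ?_⟩
    exact hne ((hsub ⟨hyT, specializes_rfl⟩).2.antisymm hyz).eq
  have hlt := Set.ncard_lt_ncard hsub (hT.subset fun w h => h.1)
  exact absurd (hmin ⟨hz, hxy.trans hyz⟩ hlt.le) (not_le.2 hlt)

/-- A module locally free of rank `n` is free on a basic open around finitely many points of an
affine open, inside any open containing them. -/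
theorem exists_basis_basicOpen (hU : IsAffineOpen U) {M : X.Modules} {n : ℕ}
    (hM : FlatMod.IsFinLocFreeOfRank n M) {T : Set X} (hT : T.Finite) (hTU : T ⊆ U)
    {O : X.Opens} (hTO : T ⊆ O) :
    ∃ (g : Γ(X, U)) (e : Fin n → Γ(M, X.basicOpen g)),
      T ⊆ X.basicOpen g ∧ X.basicOpen g ≤ O ∧ IsBasis e := by
  let T' : Set X := {y | y ∈ T ∧ ∀ z ∈ T, y ⤳ z → z = y}
  have : Finite T' := (hT.subset fun y h => h.1).to_subtype
  obtain ⟨g, e, hg, hgO, he⟩ := exists_basis_basicOpen_aux hU hM (fun y : T' => (y : X))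
    (fun y => hTU y.2.1) (fun i j h => Subtype.ext (i.2.2 j j.2.1 h).symm) fun y => hTO y.2.1
  refine ⟨g, e, fun x hx => ?_, hgO, he⟩
  obtain ⟨y, hy, hxy, hmax⟩ := exists_maximal_specializes hT hx
  exact hxy.mem_open (X.basicOpen g).2 (hg ⟨y, hy, hmax⟩)

end Groth.Agent.Lib.TensorMod.FinsetTriv
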