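import Groth.Agent.Lib.TensorMod.Free
import Groth.Prelude.Def_PicGrp

/-!
Pullback and restriction of modules commute with the tensor product.
-/

universe u

open CategoryTheory CategoryTheory.Limits AlgebraicGeometry MonoidalCategory Opposite

namespace Groth.Agent.Lib.TensorMod.Pullback

open Basic Colimit Free
open Groth.Agent.Lib.TensorMod.Whisker (res pair res_pair pair_add_left pair_add_right
  pair_smul_left pair_smul_right)

variable {X Y : Scheme.{u}}

lemma pairM_add_left {M N H : X.Modules} (g : CohB1.tensorMod M N ⟶ H) {U : X.Opens}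
    (m m' : Γ(M, U)) (n : Γ(N, U)) : pairM g (m + m') n = pairM g m n + pairM g m' n :=
  pair_add_left (M := (fgt X).obj M) (P := (fgt X).obj N) (X := op U) _ m m' n

lemma pairM_add_right {M N H : X.Modules} (g : CohB1.tensorMod M N ⟶ H) {U : X.Opens}
    (m : Γ(M, U)) (n n' : Γ(N, U)) : pairM g m (n + n') = pairM g m n + pairM g m n' :=
  pair_add_right (M := (fgt X).obj M) (P := (fgt X).obj N) (X := op U) _ m n n'

lemma pairM_smul_left {M N H : X.Modules} (g : CohB1.tensorMod M N ⟶ H) {U : X.Opens}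
    (r : Γ(X, U)) (m : Γ(M, U)) (n : Γ(N, U)) : pairM g (r • m) n = r • pairM g m n :=
  pair_smul_left (M := (fgt X).obj M) (P := (fgt X).obj N) (X := op U) _ r m n

lemma pairM_smul_right {M N H : X.Modules} (g : CohB1.tensorMod M N ⟶ H) {U : X.Opens}
    (r : Γ(X, U)) (m : Γ(M, U)) (n : Γ(N, U)) : pairM g m (r • n) = r • pairM g m n :=
  pair_smul_right (M := (fgt X).obj M) (P := (fgt X).obj N) (X := op U) _ r m n

lemma pairM_map {M N H : X.Modules} (g : CohB1.tensorMod M N ⟶ H) {U V : X.Opens}
    (i : U ⟶ V) (m : Γ(M, V)) (n : Γ(N, V)) :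
    H.presheaf.map i.op (pairM g m n) =
      pairM g (M.presheaf.map i.op m) (N.presheaf.map i.op n) :=
  res_pair (M := (fgt X).obj M) (P := (fgt X).obj N) (H := (fgt X).obj H) _ i.op m n

/-- Constructor of morphisms out of a tensor product from a balanced pairing on sections. -/
lemma exists_hom_of_pairing {M N H : X.Modules}
    (b : ∀ U : X.Opens, Γ(M, U) → Γ(N, U) → Γ(H, U))
    (add_left : ∀ U m m' n, b U (m + m') n = b U m n + b U m' n)
    (add_right : ∀ U m n n', b U m (n + n') = b U m n + b U m n')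
    (smul_left : ∀ U (r : Γ(X, U)) m n, b U (r • m) n = r • b U m n)
    (smul_right : ∀ U (r : Γ(X, U)) m n, b U m (r • n) = r • b U m n)
    (natural : ∀ (U V : X.Opens) (i : U ⟶ V) m n, H.presheaf.map i.op (b V m n) =
      b U (M.presheaf.map i.op m) (N.presheaf.map i.op n)) :
    ∃ g : CohB1.tensorMod M N ⟶ H, ∀ U m n, pairM g m n = b U m n := by
  let φ : CohB1.tensorPre M N ⟶ (fgt X).obj H :=
    { app := fun W => ModuleCat.MonoidalCategory.tensorLift (R := X.sheaf.obj.obj W)
        (M₁ := ((fgt X).obj M).obj W) (M₂ := ((fgt X).obj N).obj W)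
        (M₃ := ((fgt X).obj H).obj W) (b W.unop)
        (add_left W.unop) (smul_left W.unop) (add_right W.unop) (smul_right W.unop)
      naturality := fun {W W'} j => ModuleCat.MonoidalCategory.tensor_ext fun m n =>
        (natural W'.unop W.unop j.unop m n).symm }
  refine ⟨((adj X).homEquiv (CohB1.tensorPre M N) H).symm φ, fun U m n => ?_⟩
  exact congrArg (fun t => pair (M := (fgt X).obj M) (P := (fgt X).obj N) (X := op U) t m n)
    (((adj X).homEquiv (CohB1.tensorPre M N) H).apply_symm_apply φ)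

variable (f : X ⟶ Y)

/-- Pullback of modules. -/
noncomputable abbrev pb : Y.Modules ⥤ X.Modules := Scheme.Modules.pullback f

/-- Pushforward of modules. -/
noncomputable abbrev pf : X.Modules ⥤ Y.Modules := Scheme.Modules.pushforward f

/-- The pullback-pushforward adjunction. -/
noncomputable abbrev pbAdj : pb f ⊣ pf f := Scheme.Modules.pullbackPushforwardAdjunction f

lemma exists_mu (A B : X.Modules) :
    ∃ μ : CohB1.tensorMod ((pf f).obj A) ((pf f).obj B) ⟶ (pf f).obj (CohB1.tensorMod A B),
      ∀ (U : Y.Opens) (a : Γ(A, f ⁻¹ᵁ U)) (b : Γ(B, f ⁻¹ᵁ U)),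
        pairM μ (U := U) a b = pairM (𝟙 (CohB1.tensorMod A B)) a b :=
  exists_hom_of_pairing (M := (pf f).obj A) (N := (pf f).obj B)
    (H := (pf f).obj (CohB1.tensorMod A B))
    (fun U a b => pairM (𝟙 (CohB1.tensorMod A B)) (U := f ⁻¹ᵁ U) a b)
    (fun U m m' n => pairM_add_left (U := f ⁻¹ᵁ U) _ m m' n)
    (fun U m n n' => pairM_add_right (U := f ⁻¹ᵁ U) _ m n n')
    (fun U r m n => pairM_smul_left (U := f ⁻¹ᵁ U) _ (f.app U r) m n)
    (fun U r m n => pairM_smul_right (U := f ⁻¹ᵁ U) _ (f.app U r) m n)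
    (fun U V i m n => pairM_map _ ((TopologicalSpace.Opens.map f.base).map i) m n)

/-- The lax structure of the pushforward. -/
noncomputable def mu (A B : X.Modules) :
    CohB1.tensorMod ((pf f).obj A) ((pf f).obj B) ⟶ (pf f).obj (CohB1.tensorMod A B) :=
  (exists_mu f A B).choose

lemma pairM_mu {A B : X.Modules} {U : Y.Opens} (a : Γ(A, f ⁻¹ᵁ U)) (b : Γ(B, f ⁻¹ᵁ U)) :
    pairM (mu f A B) (U := U) a b = pairM (𝟙 (CohB1.tensorMod A B)) a b :=
  (exists_mu f A B).choose_spec U a b

/-- The comparison map `f^*(M ⊗ N) ⟶ f^* M ⊗ f^* N`. -/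
noncomputable def delta (M N : Y.Modules) :
    (pb f).obj (CohB1.tensorMod M N) ⟶ CohB1.tensorMod ((pb f).obj M) ((pb f).obj N) :=
  ((pbAdj f).homEquiv _ _).symm
    (tmap ((pbAdj f).unit.app M) ((pbAdj f).unit.app N) ≫ mu f _ _)

/-- The image of a section in the pullback. -/
noncomputable def unitSec (M : Y.Modules) {U : Y.Opens} (m : Γ(M, U)) :
    Γ((pb f).obj M, f ⁻¹ᵁ U) :=
  ((pbAdj f).unit.app M).app U m

lemma pairM_delta_comp {M N : Y.Modules} {H : X.Modules}
    (g : CohB1.tensorMod ((pb f).obj M) ((pb f).obj N) ⟶ H) {U : Y.Opens}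
    (m : Γ(M, U)) (n : Γ(N, U)) :
    pairM ((pbAdj f).homEquiv _ _ (delta f M N ≫ g)) m n =
      pairM g (unitSec f M m) (unitSec f N n) := by
  rw [Adjunction.homEquiv_naturality_right, delta, Equiv.apply_symm_apply, Category.assoc,
    pairM_tmap_comp, pairM_comp]
  refine (congrArg (((pf f).map g).app U) (pairM_mu f _ _)).trans ?_
  exact (pairM_comp (𝟙 _) g (unitSec f M m) (unitSec f N n)).symm.trans
    (by rw [Category.id_comp])

lemma unitSec_natural {M M' : Y.Modules} (a : M ⟶ M') {U : Y.Opens} (m : Γ(M, U)) :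
    unitSec f M' (a.app U m) = ((pb f).map a).app (f ⁻¹ᵁ U) (unitSec f M m) :=
  congrArg (fun t => t.app U m) ((pbAdj f).unit.naturality a)

lemma delta_natural {M M' N N' : Y.Modules} (a : M ⟶ M') (b : N ⟶ N') :
    (pb f).map (tmap a b) ≫ delta f M' N' =
      delta f M N ≫ tmap ((pb f).map a) ((pb f).map b) := by
  apply ((pbAdj f).homEquiv _ _).injective
  refine hom_ext_pairM fun U m n => ?_
  rw [Adjunction.homEquiv_naturality_left, pairM_tmap_comp, pairM_delta_comp f, ← Category.comp_id
    (delta f M' N'), pairM_delta_comp f, pairM_tmap, unitSec_natural, unitSec_natural]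

/-- The unit of the adjunction at a free generator freely generates. -/
lemma isFreeOn_pullback {M : Y.Modules} {U : Y.Opens} {e : Γ(M, U)} (h : IsFreeOn M U e) :
    IsFreeOn ((pb f).obj M) (f ⁻¹ᵁ U) (unitSec f M e) := by
  intro H
  have h' : (fun φ : (pb f).obj M ⟶ H => φ.app (f ⁻¹ᵁ U) (unitSec f M e)) =
      (fun ψ : M ⟶ (pf f).obj H => ψ.app U e) ∘ ((pbAdj f).homEquiv M H) := by
    funext φ
    rw [Function.comp_apply, Adjunction.homEquiv_unit]
    rfl
  rw [h']
  exact (h _).comp (Equiv.bijective _)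

lemma isIso_delta_free {M N : Y.Modules} {U V : Y.Opens} {e : Γ(M, U)} {e' : Γ(N, V)}
    (hM : IsFreeOn M U e) (hN : IsFreeOn N V e') : IsIso (delta f M N) := by
  refine isIso_iff_coyoneda_map_bijective _ |>.2 fun H => ?_
  have h1 := (isFreeOn_pullback f hM).tensor (isFreeOn_pullback f hN) H
  have h2 := isFreeOn_pullback f (hM.tensor hN) H
  refine (Function.Bijective.of_comp_iff' h2 _).1 ?_
  refine (iff_of_eq (congrArg Function.Bijective (funext fun g => ?_))).2 h1
  have key : ∀ φ : (pb f).obj (CohB1.tensorMod M N) ⟶ H,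
      φ.app (f ⁻¹ᵁ (U ⊓ V)) (unitSec f _ (pairM (𝟙 _)
        (M.presheaf.map (homOfLE inf_le_left).op e) (N.presheaf.map (homOfLE inf_le_right).op e')))
      = pairM ((pbAdj f).homEquiv _ _ φ)
        (M.presheaf.map (homOfLE inf_le_left).op e)
        (N.presheaf.map (homOfLE inf_le_right).op e') := by
    intro φ
    rw [← Category.id_comp ((pbAdj f).homEquiv _ _ φ), pairM_comp, Adjunction.homEquiv_unit]
    rfl
  refine ((key _).trans (pairM_delta_comp f g _ _)).trans ?_
  rw [← pairM_comp, Category.id_comp]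
  exact congrArg₂ (fun a b => pairM g a b)
    (app_map ((pbAdj f).unit.app M) (homOfLE inf_le_left) e)
    (app_map ((pbAdj f).unit.app N) (homOfLE inf_le_right) e')

/-- `delta` in the first variable. -/
noncomputable def deltaNat (N : Y.Modules) :
    tensorBy N ⋙ pb f ⟶ pb f ⋙ tensorBy ((pb f).obj N) where
  app M := delta f M N
  naturality {M M'} a := by
    have h := delta_natural f a (𝟙 N)
    rw [CategoryTheory.Functor.map_id] at h
    exact h

/-- `delta` in the second variable. -/
noncomputable def deltaNat' (M : Y.Modules) :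
    (tensorFunctor Y).obj M ⋙ pb f ⟶ pb f ⋙ (tensorFunctor X).obj ((pb f).obj M) where
  app N := delta f M N
  naturality {N N'} b := by
    have h := delta_natural f (𝟙 M) b
    rw [CategoryTheory.Functor.map_id] at h
    exact h

/-- Pullback commutes with the tensor product. -/
theorem isIso_delta (M N : Y.Modules) : IsIso (delta f M N) := by
  have : PreservesColimitsOfSize.{u, u} (pb f) := (pbAdj f).leftAdjoint_preservesColimits
  have h1 : ∀ (V : Y.Opens) (M : Y.Modules), IsIso (delta f M (freeOn V)) := by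
    intro V M
    have : IsIso (deltaNat f (freeOn V)) := isIso_of_generators _ fun U =>
      isIso_delta_free f (isFreeOn_freeOn U) (isFreeOn_freeOn V)
    exact inferInstanceAs (IsIso ((deltaNat f (freeOn V)).app M))
  have : IsIso (deltaNat' f M) := isIso_of_generators _ fun V => h1 V M
  exact inferInstanceAs (IsIso ((deltaNat' f M).app N))

/-- `f^*(M ⊗ N) ≅ f^* M ⊗ f^* N`. -/
noncomputable def pullbackTensorIso (M N : Y.Modules) :
    (pb f).obj (CohB1.tensorMod M N) ≅ CohB1.tensorMod ((pb f).obj M) ((pb f).obj N) :=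
  have := isIso_delta f M N
  asIso (delta f M N)

/-- `(M ⊗ N)|_X ≅ M|_X ⊗ N|_X` for an open immersion. -/
noncomputable def restrictTensorIso [IsOpenImmersion f] (M N : Y.Modules) :
    (CohB1.tensorMod M N).restrict f ≅ CohB1.tensorMod (M.restrict f) (N.restrict f) :=
  (Scheme.Modules.restrictFunctorIsoPullback f).app _ ≪≫ pullbackTensorIso f M N ≪≫
    tensorIso ((Scheme.Modules.restrictFunctorIsoPullback f).app M).symm
      ((Scheme.Modules.restrictFunctorIsoPullback f).app N).symm

theorem pullCl_mulCl (c d : PicF.Cl Y) :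
    PicF.pullCl f (PicGrp.mulCl c d) = PicGrp.mulCl (PicF.pullCl f c) (PicF.pullCl f d) := by
  induction c using Quot.ind with
  | mk L =>
    induction d using Quot.ind with
    | mk M => exact Quot.sound ⟨pullbackTensorIso f L M⟩

theorem pullMul : PicGrp.PullMul f := fun c d _ _ => pullCl_mulCl f c d

end Groth.Agent.Lib.TensorMod.Pullback
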