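import Groth.Agent.Lib.TensorMod.Basis
import Groth.Agent.Lib.TensorMod.Invertible
import Groth.Agent.Lib.Modules.FreeStalk

/-!
A module with a tensor inverse is invertible.
-/

universe u

open CategoryTheory CategoryTheory.Limits AlgebraicGeometry Opposite TopologicalSpace

namespace Groth.Agent.Lib.TensorMod.TensorInv

open Groth.Agent.Lib.TensorMod.Basic Groth.Agent.Lib.TensorMod.Free
open Groth.Agent.Lib.TensorMod.Pullback Groth.Agent.Lib.TensorMod.Dual Groth.Agent.Lib.TensorMod.Gen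
open Groth.Agent.Lib.TensorMod.LocIso

variable {X : Scheme.{u}} {L N M : X.Modules} {U : X.Opens}

/-- A basis of `M|_U` over an open of `U` is a basis of `M`. -/
lemma exists_basis_image (W : (U : Scheme.{u}).Opens) {n : ℕ} {e : Fin n → Γ(M.restrict U.ι, W)}
    (he : Basis.IsBasis e) : ∃ e' : Fin n → Γ(M, U.ι ''ᵁ W), Basis.IsBasis e' := by
  refine ⟨fun k => (M.restrictAppIso U.ι W).hom (e k), fun V hV => ?_⟩
  obtain ⟨W', rfl⟩ : ∃ W' : (U : Scheme.{u}).Opens, U.ι ''ᵁ W' = V :=
    ⟨U.ι ⁻¹ᵁ V, by rw [Scheme.Hom.image_preimage_eq_opensRange_inf, Scheme.Opens.opensRange_ι]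
                   exact inf_eq_right.2 (hV.trans (U.ι_image_le W))⟩
  have hW : W' ≤ W := by
    rw [← U.ι.preimage_image_eq W', ← U.ι.preimage_image_eq W]
    exact U.ι.preimage_mono hV
  refine (Function.Bijective.of_comp_iff _ (Function.Bijective.piMap fun _ : Fin n =>
    ConcreteCategory.bijective_of_isIso (U.ι.appIso W').inv)).1 ?_
  have h : (Basis.comb (fun k => (M.restrictAppIso U.ι W).hom (e k)) hV ∘
      fun (a : Fin n → Γ((U : Scheme.{u}), W')) k => (U.ι.appIso W').inv (a k)) =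
      (M.restrictAppIso U.ι W').hom ∘ Basis.comb e hW := by
    funext a
    simp only [Function.comp_apply, Basis.comb]
    rw [map_sum]
    exact Finset.sum_congr rfl fun k _ => (restrict_smul U.ι M _ _).symm
  change Function.Bijective (Basis.comb (fun k => (M.restrictAppIso U.ι W).hom (e k)) hV ∘
    fun (a : Fin n → Γ((U : Scheme.{u}), W')) k => (U.ι.appIso W').inv (a k))
  rw [h]
  exact (ConcreteCategory.bijective_of_isIso (M.restrictAppIso U.ι W').hom).comp (he W' hW)

/-- Being finite locally free is local. -/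
theorem isFinLocFree_of_locally
    (h : ∀ x : X, ∃ U : X.Opens, x ∈ U ∧ FlatMod.IsFinLocFree (M.restrict U.ι)) :
    FlatMod.IsFinLocFree M := by
  intro x
  obtain ⟨U, hx, hU⟩ := h x
  obtain ⟨W, n, hW, ⟨i⟩⟩ := hU ⟨x, hx⟩
  obtain ⟨e, he⟩ := Basis.exists_basis_of_iso i
  obtain ⟨e', he'⟩ := exists_basis_image W he
  exact ⟨U.ι ''ᵁ W, n, ⟨⟨x, hx⟩, hW, rfl⟩, Basis.exists_iso_of_basis he'⟩

/-- A split epimorphism is still one after conjugating. -/
lemma exists_section_of_conj {C : Type*} [Category C] {A A' B B' : C} (a : A ≅ A') (b : B ≅ B')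
    {p : A ⟶ B} {p' : A' ⟶ B'} (h : p ≫ b.hom = a.hom ≫ p') (hs : ∃ s, s ≫ p' = 𝟙 B') :
    ∃ s, s ≫ p = 𝟙 B := by
  obtain ⟨s, hs⟩ := hs
  refine ⟨b.hom ≫ s ≫ a.inv, ?_⟩
  rw [← cancel_mono b.hom]
  simp [h, hs]

/-- Tensoring with an invertible object reflects split epimorphisms. -/
lemma exists_section_of_tmap (e : CohB1.tensorMod L N ≅ Coh.structureModule X) {A B : X.Modules}
    (p : A ⟶ B) (hs : ∃ s, s ≫ tmap p (𝟙 N) = 𝟙 _) : ∃ s, s ≫ p = 𝟙 B := by
  obtain ⟨s, hs⟩ := hs
  let c : ∀ C : X.Modules, C ≅ CohB1.tensorMod (CohB1.tensorMod C N) L := fun C =>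
    (rightUnit C).symm ≪≫ tensorIso (Iso.refl C) (e.symm ≪≫ comm L N) ≪≫ (assoc C N L).symm
  refine exists_section_of_conj (p' := tmap (tmap p (𝟙 N)) (𝟙 L)) (c A) (c B) ?_
    ⟨tmap s (𝟙 L), by rw [← tmap_comp, hs, Category.id_comp, tmap_id]⟩
  simp only [c, Iso.trans_hom, Iso.symm_hom, Category.assoc, tensorIso, Iso.refl_hom]
  rw [← cancel_epi (rightUnit A).hom]
  have h1 := rightUnit_natural p
  have h2 := assoc_natural p (𝟙 N) (𝟙 L)
  rw [← reassoc_of% h1]
  simp only [Iso.hom_inv_id_assoc]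
  have key : ∀ (u : Coh.structureModule X ⟶ CohB1.tensorMod N L),
      tmap p (𝟙 _) ≫ tmap (𝟙 B) u = tmap (𝟙 A) u ≫ tmap p (𝟙 _) := fun u => by
    rw [← tmap_comp, ← tmap_comp]
    simp
  rw [reassoc_of% (key (e.inv ≫ (comm L N).hom))]
  congr 1
  rw [Iso.comp_inv_eq, Category.assoc, h2, tmap_id, Iso.inv_hom_id_assoc]

/-- The left factor of a trivial tensor product is finite locally free. -/
theorem isFinLocFree_left (e : CohB1.tensorMod L N ≅ Coh.structureModule X) :
    FlatMod.IsFinLocFree L := by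
  refine isFinLocFree_of_locally fun x => ?_
  -- the unit is locally a sum of pure tensors
  obtain ⟨V, i, ⟨z, hz⟩, hxV⟩ : ∃ (V : X.Opens) (i : V ⟶ ⊤), (∃ z : (CohB1.tensorPre L N).obj (op V),
      ((adj X).unit.app (CohB1.tensorPre L N)).app (op V) z =
        rs (CohB1.tensorMod L N) i.le (e.inv.app ⊤ (one X ⊤))) ∧ x ∈ V := by
    have := (isLocBij_unit (CohB1.tensorPre L N)).2
    obtain ⟨V, i, hi, hxV⟩ := Presheaf.imageSieve_mem (Opens.grothendieckTopology X)
      ((PresheafOfModules.toPresheaf _).map ((adj X).unit.app (CohB1.tensorPre L N)))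
      (U := op ⊤) (e.inv.app ⊤ (one X ⊤)) x trivial
    exact ⟨V, i, hi, hxV⟩
  have hsum : ∃ (n : ℕ) (s : Fin n → Γ(L, V)) (t : Fin n → Γ(N, V)),
      ∑ k, pairM e.hom (s k) (t k) = one X V := by
    have hall : ∀ w : (CohB1.tensorPre L N).obj (op V),
        ∃ (n : ℕ) (s : Fin n → Γ(L, V)) (t : Fin n → Γ(N, V)),
          ∑ k, ((show ((fgt X).obj L).obj (op V) from s k) ⊗ₜ[X.sheaf.obj.obj (op V)]
            (show ((fgt X).obj N).obj (op V) from t k)) = w := by
      intro w
      induction w using TensorProduct.induction_on with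
      | zero => exact ⟨0, Fin.elim0, Fin.elim0, Fintype.sum_empty _⟩
      | tmul a b => exact ⟨1, fun _ => a, fun _ => b, Fintype.sum_unique _⟩
      | add z w hz hw =>
        obtain ⟨m, s, t, rfl⟩ := hz
        obtain ⟨n, s', t', rfl⟩ := hw
        refine ⟨m + n, Fin.append s s', Fin.append t t', ?_⟩
        rw [Fin.sum_univ_add]
        simp
        rfl
    obtain ⟨n, s, t, hzst⟩ := hall z
    refine ⟨n, s, t, ?_⟩
    have h : ∀ k, pairM e.hom (s k) (t k) = e.hom.app V (pairM (𝟙 _) (s k) (t k)) := fun k => by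
      rw [← pairM_comp, Category.id_comp]
    simp only [h]
    rw [← map_sum]
    have h' : ∑ k, pairM (𝟙 (CohB1.tensorMod L N)) (s k) (t k) =
        rs (CohB1.tensorMod L N) i.le (e.inv.app ⊤ (one X ⊤)) := by
      have hk : (adj X).homEquiv (CohB1.tensorPre L N) _ (𝟙 (CohB1.tensorMod L N)) =
          (adj X).unit.app (CohB1.tensorPre L N) := by
        refine ((adj X).homEquiv_unit (CohB1.tensorPre L N) _ _).trans ?_
        exact (congrArg ((adj X).unit.app _ ≫ ·) ((fgt X).map_id _)).trans (Category.comp_id _)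
      rw [← hz, ← hzst]
      refine Eq.trans (Finset.sum_congr rfl fun k _ => ?_)
        (map_sum (((adj X).unit.app (CohB1.tensorPre L N)).app (op V)).hom _ Finset.univ).symm
      exact congrArg (fun φ => Whisker.pair (M := (fgt X).obj L) (P := (fgt X).obj N) (X := op V) φ
        (s k) (t k)) hk
    rw [h', ← HomGlue.rs_app]
    have h'' : e.hom.app ⊤ (e.inv.app ⊤ (one X ⊤)) = one X ⊤ :=
      congrArg (fun φ : Coh.structureModule X ⟶ _ => φ.app ⊤ (one X ⊤)) e.inv_hom_id
    rw [h'']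
    exact map_one (X.presheaf.map (homOfLE i.le).op).hom
  obtain ⟨n, s, t, hst⟩ := hsum
  refine ⟨V, hxV, ?_⟩
  let A : X.Modules := ∐ fun _ : Fin n => freeOn V
  let g : Fin n → Γ(A, V) := fun k => (Sigma.ι (fun _ : Fin n => freeOn V) k).app V (genSec V)
  let p : A ⟶ L := Sigma.desc fun k => ((isFreeOn_freeOn V L).2 (s k)).choose
  obtain ⟨σ, hσ⟩ := (isFreeOn_freeOn V (CohB1.tensorMod A N)).2 (∑ k, pairM (𝟙 _) (g k) (t k))
  have hp : ∀ k, p.app V (g k) = s k := fun k => by
    change ((Sigma.ι (fun _ : Fin n => freeOn V) k) ≫ p).app V (genSec V) = s k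
    rw [Sigma.ι_desc]
    exact ((isFreeOn_freeOn V L).2 (s k)).choose_spec
  have hcomp : σ ≫ tmap p (𝟙 N) ≫ e.hom = toStructure V := by
    apply (isFreeOn_freeOn V _).1
    change e.hom.app V ((tmap p (𝟙 N)).app V (σ.app V (genSec V))) = (toStructure V).app V (genSec V)
    rw [toStructure_gen, show σ.app V (genSec V) = _ from hσ, map_sum, map_sum, ← hst]
    refine Finset.sum_congr rfl fun k _ => ?_
    rw [← pairM_comp, ← pairM_comp, Category.id_comp, pairM_tmap_comp, hp]
    rfl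
  -- pull back to `V`
  let j := V.ι
  let π := Scheme.Modules.restrictFunctorIsoPullback j
  have hiso : IsIso ((pb j).map (toStructure V)) := by
    have := isIso_restrict_toStructure (U := V)
    exact (NatIso.isIso_map_iff π (toStructure V)).1 this
  have hsec : ∃ s', s' ≫ tmap ((pb j).map p) (𝟙 ((pb j).obj N)) = 𝟙 _ := by
    refine ⟨(pullbackTensorIso j L N).inv ≫ (pb j).map e.hom ≫ inv ((pb j).map (toStructure V)) ≫
      (pb j).map σ ≫ (pullbackTensorIso j A N).hom, ?_⟩
    have hnat : (pullbackTensorIso j A N).hom ≫ tmap ((pb j).map p) (𝟙 ((pb j).obj N)) =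
        (pb j).map (tmap p (𝟙 N)) ≫ (pullbackTensorIso j L N).hom := by
      rw [← CategoryTheory.Functor.map_id]
      exact (delta_natural j p (𝟙 N)).symm
    simp only [Category.assoc]
    rw [hnat, Iso.inv_comp_eq, Category.comp_id]
    have h2 : inv ((pb j).map (toStructure V)) ≫ (pb j).map σ ≫ (pb j).map (tmap p (𝟙 N)) =
        (pb j).map e.inv := by
      rw [IsIso.inv_comp_eq, ← Functor.map_comp, ← Functor.map_comp]
      congr 1
      rw [← hcomp]
      simp
    rw [reassoc_of% h2, ← Functor.map_comp_assoc, e.hom_inv_id, CategoryTheory.Functor.map_id,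
      Category.id_comp]
  obtain ⟨r, hr⟩ := exists_section_of_tmap
    ((pullbackTensorIso j L N).symm ≪≫ (pb j).mapIso e ≪≫ PicLoc.pullbackStructureIso j)
    ((pb j).map p) hsec
  have : PreservesColimitsOfSize.{u, u} (pb j) := (pbAdj j).leftAdjoint_preservesColimits
  have := LocFree.preservesFinCoproducts (pb j) (Fin n)
  have := isIso_restrict_toStructure (U := V)
  let a : (pb j).obj A ≅ FlatMod.freeMod (V : Scheme.{u}) n :=
    PreservesCoproduct.iso (pb j) _ ≪≫ Sigma.mapIso fun _ =>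
      (π.app _).symm ≪≫ @asIso _ _ _ _ ((Scheme.Modules.restrictFunctor j).map (toStructure V))
        (isIso_restrict_toStructure (U := V)) ≪≫ Scheme.Modules.restrictUnitIso j
  exact LocFree.of_iso (π.app L).symm (Groth.Agent.Lib.Modules.FreeStalk.isFinLocFree_of_retract
    (r ≫ a.hom) (a.inv ≫ (pb j).map p) (by simpa using hr))

/-- The rank of a free module on a nonempty scheme is determined. -/
lemma freeMod_rank_eq (x : X) {m n : ℕ} (i : FlatMod.freeMod X m ≅ FlatMod.freeMod X n) : m = n := by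
  open Groth.Agent.Lib.Modules in
  have hi : ∀ v, StalkModule.stalkMapₗ i.inv x (StalkModule.stalkMapₗ i.hom x v) = v := fun v => by
    rw [← LinearMap.comp_apply, ← StalkModule.stalkMapₗ_comp, i.hom_inv_id,
      StalkModule.stalkMapₗ_id, LinearMap.id_apply]
  have hi' : ∀ v, StalkModule.stalkMapₗ i.hom x (StalkModule.stalkMapₗ i.inv x v) = v := fun v => by
    rw [← LinearMap.comp_apply, ← StalkModule.stalkMapₗ_comp, i.inv_hom_id,
      StalkModule.stalkMapₗ_id, LinearMap.id_apply]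
  let e := LinearEquiv.ofBijective (StalkModule.stalkMapₗ i.hom x)
    ⟨Function.LeftInverse.injective hi, Function.RightInverse.surjective hi'⟩
  have h := ((FreeStalk.stalkBasis X m x).map e).indexEquiv (FreeStalk.stalkBasis X n x)
  simpa using Fintype.card_congr h

/-- A module with a tensor inverse is invertible. -/
theorem isInvertible_of_tensor_iso (e : CohB1.tensorMod L N ≅ Coh.structureModule X) :
    PicF.IsInvertible L := by
  intro x
  obtain ⟨U, m, hxU, ⟨i⟩⟩ := isFinLocFree_left e x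
  obtain ⟨W, n, hxW, ⟨k⟩⟩ := isFinLocFree_left (comm N L ≪≫ e) x
  obtain ⟨i'⟩ := LocFree.exists_restrict_iso_freeMod (inf_le_left : U ⊓ W ≤ U) i
  obtain ⟨k'⟩ := LocFree.exists_restrict_iso_freeMod (inf_le_right : U ⊓ W ≤ W) k
  let Z : Scheme.{u} := (U ⊓ W : X.Opens)
  have hmn := freeMod_rank_eq (X := Z) ⟨x, hxU, hxW⟩
    ((LocFree.tensorFreeModIso Z m n).symm ≪≫ tensorIso i'.symm k'.symm ≪≫
      (restrictTensorIso (U ⊓ W).ι L N).symm ≪≫
      (Scheme.Modules.restrictFunctor (U ⊓ W).ι).mapIso e ≪≫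
      Scheme.Modules.restrictUnitIso (U ⊓ W).ι ≪≫ (LocFree.freeModOneIso Z).symm)
  obtain rfl : m = 1 := Nat.eq_one_of_mul_eq_one_right hmn
  exact ⟨U, hxU, ⟨i ≪≫ LocFree.freeModOneIso _⟩⟩

end Groth.Agent.Lib.TensorMod.TensorInv
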