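import Groth.Agent.Lib.CurveBundle.LocFree
import Groth.Agent.Lib.TensorMod.TensorQCoh
import Groth.Agent.Lib.TensorMod.TensorInv
import Groth.Agent.Lib.Kaehler.LocalPres
import Groth.Agent.Lib.TensorMod.FinsetTriv
import Mathlib.Algebra.Module.FinitePresentation

/-!
Finitely presented modules with free stalks are locally free.
-/

universe u

open CategoryTheory CategoryTheory.Limits AlgebraicGeometry Opposite TopologicalSpace

namespace Groth.Agent.Lib.TensorMod.FPCrit

open Groth.Agent.Lib.TensorMod.Dual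
open Groth.Agent.Lib
open Groth.Agent.Lib.QCoh.Localizing (Localizes localizes_of_isAffineOpen)

/-- On an affine scheme a finitely presented quasi-coherent module has finitely presented
sections. -/
theorem finitePresentation_top {Y : Scheme.{u}} [IsAffine Y] (M : Y.Modules) [M.IsQuasicoherent]
    (P : SheafOfModules.Presentation (R := Y.ringCatSheaf) M) [P.IsFinite] :
    Module.FinitePresentation Γ(Y, ⊤) Γ(M, ⊤) := by
  have : Finite P.generators.I :=
    (SheafOfModules.Presentation.IsFinite.isFiniteType_generators (p := P)).finite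
  have : Finite P.relations.I :=
    (SheafOfModules.Presentation.IsFinite.isFiniteType_relations (p := P)).finite
  obtain ⟨n, ⟨e⟩⟩ := Finite.exists_equiv_fin P.generators.I
  obtain ⟨m, ⟨e'⟩⟩ := Finite.exists_equiv_fin P.relations.I
  let ρ : ∀ {J : Type u} {k : ℕ}, J ≃ Fin k →
      (SheafOfModules.free (R := Y.ringCatSheaf) J ≅ FlatMod.freeMod Y k) := fun {J k} g =>
    Sigma.whiskerEquiv (C := Y.Modules) (f := fun _ : J => Coh.structureModule Y)
      (g := fun _ : Fin k => Coh.structureModule Y) g fun _ => Iso.refl _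
  let p : FlatMod.freeMod Y n ⟶ M := (ρ e).inv ≫ P.generators.π
  have hp : Epi p :=
    @epi_comp _ _ _ _ _ _ (@IsIso.epi_of_iso _ _ _ _ _ (Iso.isIso_inv _)) _ P.generators.epi
  let K : Y.Modules := kernel p
  let i : (kernel P.generators.π : Y.Modules) ≅ K :=
    kernel.mapIso _ _ (ρ e) (Iso.refl M)
      ((Category.comp_id _).trans (Iso.hom_inv_id_assoc (ρ e) _).symm)
  let q : FlatMod.freeMod Y m ⟶ K := (ρ e').inv ≫ P.relations.π ≫ i.hom
  have hq : Epi q :=
    @epi_comp _ _ _ _ _ _ (@IsIso.epi_of_iso _ _ _ _ _ (Iso.isIso_inv _)) _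
      (@epi_comp _ _ _ _ _ _ P.relations.epi _ (@IsIso.epi_of_iso _ _ _ _ _ i.isIso_hom))
  have := QCohInv.isQCoh_freeMod Y n
  have := QCohInv.isQCoh_freeMod Y m
  have : K.IsQuasicoherent := QCoh.Closure.isQCoh_kernel p
  have hps := QCoh.Closure.sections_surjective_of_epi p (isAffineOpen_top Y)
  have hqs := QCoh.Closure.sections_surjective_of_epi q (isAffineOpen_top Y)
  let φ : (Fin n → Γ(Y, ⊤)) →ₗ[Γ(Y, ⊤)] Γ(M, ⊤) :=
    Fintype.linearCombination Γ(Y, ⊤) fun k => p.app ⊤ (Groth.Agent.Lib.Modules.Free.gen Y k)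
  have hφ : ∀ c, φ c = p.app ⊤ (Basis.comb (Groth.Agent.Lib.Modules.Free.gen Y) le_rfl c) := fun c => by
    rw [Basis.app_comb]
    simp only [φ, Fintype.linearCombination_apply, Basis.comb, rs_self]
  have hsurj : Function.Surjective φ := fun y => by
    obtain ⟨z, rfl⟩ := hps y
    obtain ⟨c, rfl⟩ := (Basis.isBasis_freeMod Y n ⊤ le_rfl).2 z
    exact ⟨c, hφ c⟩
  have hκ : ∀ k : Fin m, ∃ a, Basis.comb (Groth.Agent.Lib.Modules.Free.gen Y) le_rfl a =
      (kernel.ι p).app ⊤ (q.app ⊤ (Groth.Agent.Lib.Modules.Free.gen Y k)) := fun k =>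
    (Basis.isBasis_freeMod Y n ⊤ le_rfl).2 _
  choose a ha using hκ
  refine Module.finitePresentation_of_surjective φ hsurj ?_
  refine Submodule.fg_iff_exists_fin_generating_family.2 ⟨m, a, le_antisymm ?_ fun c hc => ?_⟩
  · rw [Submodule.span_le]
    rintro _ ⟨k, rfl⟩
    change φ (a k) = 0
    rw [hφ, ha]
    exact congrArg (fun t => t.app ⊤ (q.app ⊤ (Groth.Agent.Lib.Modules.Free.gen Y k)))
      (kernel.condition p)
  · have hc' : p.app ⊤ (Basis.comb (Groth.Agent.Lib.Modules.Free.gen Y) le_rfl c) = 0 :=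
      (hφ c).symm.trans hc
    obtain ⟨z, hz⟩ := QCoh.Closure.sections_exact
      (S := ShortComplex.mk (kernel.ι p) p (kernel.condition p))
      (ShortComplex.exact_of_f_is_kernel _ (kernelIsKernel p)) ⊤ _ hc'
    obtain ⟨w, rfl⟩ := hqs z
    obtain ⟨d, rfl⟩ := (Basis.isBasis_freeMod Y m ⊤ le_rfl).2 w
    have h : c = ∑ k, d k • a k := by
      refine (Basis.isBasis_freeMod Y n ⊤ le_rfl).1 ?_
      refine hz.symm.trans ?_
      change (kernel.ι p).app ⊤ (q.app ⊤ (Basis.comb (Groth.Agent.Lib.Modules.Free.gen Y) le_rfl d)) = _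
      rw [Basis.app_comb, Basis.app_comb]
      simp only [Basis.comb, rs_self, ← ha, Finset.smul_sum, smul_smul, Finset.sum_apply,
        Pi.smul_apply, smul_eq_mul, Finset.sum_smul]
      exact Finset.sum_comm
    rw [h]
    exact Submodule.sum_mem _ fun k _ => Submodule.smul_mem _ _ (Submodule.subset_span ⟨k, rfl⟩)

/-- Transporting a finite presentation along an isomorphism. -/
lemma isFinite_ofIsIso {Z : Scheme.{u}} {M N : Z.Modules} (e : M ≅ N)
    (P : SheafOfModules.Presentation (R := Z.ringCatSheaf) M) [P.IsFinite] :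
    (@SheafOfModules.Presentation.ofIsIso.{u, u, u} _ _ _ _ _ _ _ _ e.hom e.isIso_hom P).IsFinite where
  isFiniteType_generators := ⟨(SheafOfModules.Presentation.IsFinite.isFiniteType_generators
    (p := P)).finite⟩
  isFiniteType_relations := ⟨(SheafOfModules.Presentation.IsFinite.isFiniteType_relations
    (p := P)).finite⟩

/-- A finitely presented module has finitely presented sections on small affine opens. -/
theorem exists_affine_finitePresentation {X : Scheme.{u}} (M : X.Modules)
    [SheafOfModules.IsFinitePresentation (R := X.ringCatSheaf) M] (x : X) :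
    ∃ U : X.Opens, IsAffineOpen U ∧ x ∈ U ∧
      Module.FinitePresentation Γ((U : Scheme.{u}), ⊤) Γ(M.restrict U.ι, ⊤) := by
  obtain ⟨σ, hσ⟩ := SheafOfModules.IsFinitePresentation.exists_quasicoherentData
    (show SheafOfModules X.ringCatSheaf from M)
  have hMq : M.IsQuasicoherent :=
    SheafOfModules.IsQuasicoherent.mk (C := X.Opens) (R := X.ringCatSheaf) (M := M) ⟨σ⟩
  obtain ⟨i, hi⟩ : ∃ i, x ∈ σ.X i := by
    obtain ⟨W, f, ⟨i, ⟨g⟩⟩, hW⟩ := σ.coversTop ⊤ x trivial
    exact ⟨i, leOfHom g hW⟩
  obtain ⟨U, hU, hxU, hUW⟩ := exists_isAffineOpen_mem_and_subset hi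
  refine ⟨U, hU, hxU, ?_⟩
  let v := X.homOfLE (show U ≤ σ.X i from hUW)
  have : IsOpenImmersion v := inferInstanceAs (IsOpenImmersion (X.homOfLE (show U ≤ σ.X i from hUW)))
  let F : SheafOfModules.{u} (X.ringCatSheaf.over (σ.X i)) ⥤
      SheafOfModules.{u} (U : Scheme.{u}).ringCatSheaf := (Scheme.Modules.overEquiv (σ.X i)).functor ⋙ Scheme.Modules.restrictFunctor v
  let iso : SheafOfModules.overFunctor X.ringCatSheaf _ ⋙ F ≅
      Scheme.Modules.restrictFunctor U.ι :=
    (Functor.associator _ _ _).symm ≪≫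
      Functor.isoWhiskerRight (Scheme.Modules.overFunctorEquiv _) _ ≪≫
      (Scheme.Modules.restrictFunctorComp _ _).symm ≪≫
      (Scheme.Modules.restrictFunctorCongr (by simp [v]))
  have := hσ.isFinite_presentation i
  have : Finite (σ.presentation i).generators.I :=
    SheafOfModules.GeneratingSections.IsFiniteType.finite
  have : Finite (σ.presentation i).relations.I :=
    SheafOfModules.GeneratingSections.IsFiniteType.finite
  have h1 : PreservesColimitsOfSize.{u, u} (Scheme.Modules.overEquiv (σ.X i)).functor :=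
    (Scheme.Modules.overEquiv (σ.X i)).toAdjunction.leftAdjoint_preservesColimits
  have h2 : PreservesColimitsOfSize.{u, u} (Scheme.Modules.restrictFunctor v) :=
    (Scheme.Modules.restrictAdjunction v).leftAdjoint_preservesColimits
  have hF : PreservesColimitsOfSize.{u, u} F :=
    @comp_preservesColimits _ _ _ _ _ _ (Scheme.Modules.overEquiv (σ.X i)).functor
      (Scheme.Modules.restrictFunctor v) h1 h2
  let P' := (σ.presentation i).map F (Scheme.Modules.restrictUnitIso _).symm
  have : P'.IsFinite :=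
    { isFiniteType_generators := ⟨inferInstanceAs (Finite (σ.presentation i).generators.I)⟩
      isFiniteType_relations := ⟨inferInstanceAs (Finite (σ.presentation i).relations.I)⟩ }
  obtain ⟨e⟩ : Nonempty (F.obj ((SheafOfModules.overFunctor X.ringCatSheaf (σ.X i)).obj M) ≅
      M.restrict U.ι) := ⟨iso.app M⟩
  let P : SheafOfModules.Presentation (R := (U : Scheme.{u}).ringCatSheaf) (M.restrict U.ι) :=
    @SheafOfModules.Presentation.ofIsIso.{u, u, u} _ _ _ _ _ _ _ _ e.hom e.isIso_hom P'
  have : P.IsFinite := isFinite_ofIsIso e P'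
  have : IsAffine (U : Scheme.{u}) := hU
  have : (M.restrict U.ι).IsQuasicoherent :=
    have := QCoh.Pullback.isQCoh_pullback U.ι M
    (SheafOfModules.isQuasicoherent (R := (U : Scheme.{u}).ringCatSheaf)).prop_of_iso
      ((Scheme.Modules.restrictFunctorIsoPullback U.ι).app M).symm ‹_›
  exact finitePresentation_top _ P

variable {X : Scheme.{u}} {M : X.Modules}

/-- A finitely presented module is free near a point where the stalk is finite free. -/
theorem exists_free_nhd [M.IsQuasicoherent] {U : X.Opens} (hU : IsAffineOpen U) {x : X} (hx : x ∈ U)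
    [Module.FinitePresentation Γ(X, U) Γ(M, U)]
    [Module.Free (X.presheaf.stalk x) (M.presheaf.stalk x)]
    [Module.Finite (X.presheaf.stalk x) (M.presheaf.stalk x)] :
    ∃ (W : X.Opens) (n : ℕ), x ∈ W ∧ Nonempty (M.restrict W.ι ≅ FlatMod.freeMod (↑W) n) := by
  classical
  let b := Module.finBasis (X.presheaf.stalk x) (M.presheaf.stalk x)
  let n := Module.finrank (X.presheaf.stalk x) (M.presheaf.stalk x)
  obtain ⟨s, hli, hsp⟩ := CurveBundle.LocFree.exists_basis_germ hU hx (n := n) b
  let φ : (Fin n → Γ(X, U)) →ₗ[Γ(X, U)] Γ(M, U) := Fintype.linearCombination Γ(X, U) s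
  let p := (hU.primeIdealOf ⟨x, hx⟩).asIdeal
  have hmem : ∀ f : Γ(X, U), x ∈ X.basicOpen f ↔ f ∉ p := FinsetTriv.mem_basicOpen_iff hU hx
  let fM := LocalizedModule.mkLinearMap p.primeCompl (Fin n → Γ(X, U))
  let fN := LocalizedModule.mkLinearMap p.primeCompl Γ(M, U)
  have hgerm : ∀ c : Fin n → Γ(X, U), M.presheaf.germ U x hx (φ c) =
      ∑ k, X.presheaf.germ U x hx (c k) • M.presheaf.germ U x hx (s k) := fun c => by
    simp only [φ, Fintype.linearCombination_apply]
    rw [map_sum]
    exact Finset.sum_congr rfl fun k _ => Modules.StalkModule.germ_smul hx _ _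
  have hker : ∀ c, φ c = 0 → ∃ f : Γ(X, U), f ∉ p ∧ f • c = 0 := by
    intro c hc
    have h0 := hgerm c
    rw [hc, map_zero] at h0
    have hz := Fintype.linearIndependent_iff.mp hli _ h0.symm
    have hW : ∀ k, ∃ f : Γ(X, U), f ∉ p ∧ f * c k = 0 := fun k => by
      let _ := TopCat.Presheaf.algebra_section_stalk X.presheaf (⟨x, hx⟩ : U)
      have := hU.isLocalization_stalk ⟨x, hx⟩
      obtain ⟨⟨f, hf⟩, hfc⟩ := (IsLocalization.map_eq_zero_iff p.primeCompl
        (X.presheaf.stalk x) (c k)).1 (hz k)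
      exact ⟨f, hf, hfc⟩
    choose f hf hfc using hW
    refine ⟨∏ k, f k, fun hmem' => ?_, funext fun k => ?_⟩
    · obtain ⟨k, -, hk⟩ := (hU.primeIdealOf ⟨x, hx⟩).isPrime.prod_mem_iff.1 hmem'
      exact hf k hk
    · change (∏ j, f j) * c k = 0
      rw [← Finset.prod_erase_mul _ _ (Finset.mem_univ k), mul_assoc, hfc, mul_zero]
  have hran : ∀ v, ∃ f : Γ(X, U), f ∉ p ∧ ∃ c, φ c = f • v := by
    intro v
    obtain ⟨a, ha⟩ := (Submodule.mem_span_range_iff_exists_fun _).1
      (hsp.ge (Submodule.mem_top : M.presheaf.germ U x hx v ∈ ⊤))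
    let _ := TopCat.Presheaf.algebra_section_stalk X.presheaf (⟨x, hx⟩ : U)
    have := hU.isLocalization_stalk ⟨x, hx⟩
    obtain ⟨⟨d, hd⟩, hd'⟩ := IsLocalization.exist_integer_multiples p.primeCompl Finset.univ a
    choose c hc using fun k => hd' k (Finset.mem_univ k)
    have h0 : M.presheaf.germ U x hx (φ c - d • v) = 0 := by
      rw [map_sub, hgerm, Modules.StalkModule.germ_smul hx d v, ← ha, Finset.smul_sum, sub_eq_zero]
      refine Finset.sum_congr rfl fun k _ => ?_
      rw [smul_smul]
      exact congrArg (· • M.presheaf.germ U x hx (s k)) ((hc k).trans (Algebra.smul_def _ _))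
    obtain ⟨f, hf, hf0⟩ := (StalkLoc.Basic.germ_eq_zero_iff hU hx _).1 h0
    rw [smul_sub, sub_eq_zero, smul_smul] at hf0
    exact ⟨f * d, fun h => ((hU.primeIdealOf ⟨x, hx⟩).isPrime.mem_or_mem h).elim
      ((hmem f).1 hf) hd, f • c, by rw [map_smul, hf0]⟩
  have hbij : Function.Bijective (IsLocalizedModule.map p.primeCompl fM fN φ) := by
    constructor
    · refine (injective_iff_map_eq_zero _).2 fun z hz => ?_
      obtain ⟨⟨c, d⟩, rfl⟩ := IsLocalizedModule.mk'_surjective p.primeCompl fM z
      rw [Function.uncurry_apply_pair, IsLocalizedModule.map_mk'] at hz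
      obtain ⟨e, he⟩ := (IsLocalizedModule.mk'_eq_zero' fN d).1 hz
      rw [Submonoid.smul_def, ← map_smul] at he
      obtain ⟨f, hf, hf0⟩ := hker _ he
      refine (IsLocalizedModule.mk'_eq_zero' fM d).2 ⟨⟨f, hf⟩ * e, ?_⟩
      rw [Submonoid.smul_def, Submonoid.coe_mul, ← smul_smul]
      exact hf0
    · intro z
      obtain ⟨⟨v, d⟩, rfl⟩ := IsLocalizedModule.mk'_surjective p.primeCompl fN z
      obtain ⟨f, hf, c, hc⟩ := hran v
      refine ⟨IsLocalizedModule.mk' fM c (⟨f, hf⟩ * d), ?_⟩
      rw [IsLocalizedModule.map_mk', hc, Function.uncurry_apply_pair]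
      exact IsLocalizedModule.mk'_cancel_left (f := fN) v ⟨f, hf⟩ d
  obtain ⟨g, hg, hgb⟩ := Module.FinitePresentation.exists_notMem_bijective φ p fM fN hbij
  refine ⟨X.basicOpen g, n, (hmem g).2 hg, CurveBundle.LocFree.nonempty_iso_free
    (fun k => rs M (X.basicOpen_le g) (s k)) (fun y hy => ?_) fun y hy => ?_⟩
  all_goals
    have hyU : y ∈ U := X.basicOpen_le g hy
    have hgu : IsUnit (X.presheaf.germ U y hyU g) := (Scheme.mem_basicOpen X g y hyU).1 hy
    have hgs : (fun k => M.presheaf.germ (X.basicOpen g) y hy (rs M (X.basicOpen_le g) (s k))) =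
        fun k => M.presheaf.germ U y hyU (s k) :=
      funext fun k => TopCat.Presheaf.germ_res_apply M.presheaf _ y hy (s k)
    rw [hgs]
    let _ := TopCat.Presheaf.algebra_section_stalk X.presheaf (⟨y, hyU⟩ : U)
    have := hU.isLocalization_stalk ⟨y, hyU⟩
    have hgerm' : ∀ c : Fin n → Γ(X, U), M.presheaf.germ U y hyU (φ c) =
        ∑ k, X.presheaf.germ U y hyU (c k) • M.presheaf.germ U y hyU (s k) := fun c => by
      simp only [φ, Fintype.linearCombination_apply]
      rw [map_sum]
      exact Finset.sum_congr rfl fun k _ => Modules.StalkModule.germ_smul hyU _ _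
  · refine Fintype.linearIndependent_iff.2 fun a ha k => ?_
    obtain ⟨⟨d, hd⟩, hd'⟩ := IsLocalization.exist_integer_multiples
      (hU.primeIdealOf ⟨y, hyU⟩).asIdeal.primeCompl Finset.univ a
    choose c hc using fun k => hd' k (Finset.mem_univ k)
    have hdu : IsUnit (X.presheaf.germ U y hyU d) :=
      IsLocalization.map_units (X.presheaf.stalk y)
        (⟨d, hd⟩ : (hU.primeIdealOf ⟨y, hyU⟩).asIdeal.primeCompl)
    have h0 : M.presheaf.germ U y hyU (φ c) = 0 := by
      rw [hgerm']
      refine Eq.trans ?_ (smul_zero (X.presheaf.germ U y hyU d))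
      rw [← ha, Finset.smul_sum]
      refine Finset.sum_congr rfl fun k _ => ?_
      rw [smul_smul]
      exact congrArg (· • M.presheaf.germ U y hyU (s k)) ((hc k).trans (Algebra.smul_def _ _))
    obtain ⟨f, hf, hf0⟩ := (StalkLoc.Basic.germ_eq_zero_iff hU hyU _).1 h0
    rw [← map_smul] at hf0
    have h1 : LocalizedModule.map (Submonoid.powers g) φ (LocalizedModule.mk (f • c) 1) = 0 := by
      rw [LocalizedModule.map_mk, hf0]
      exact LocalizedModule.zero_mk _
    have h2 := hgb.1 (h1.trans (map_zero _).symm)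
    rw [← LocalizedModule.zero_mk (1 : Submonoid.powers g), LocalizedModule.mk_eq] at h2
    obtain ⟨⟨_, j, rfl⟩, hj⟩ := h2
    simp only [Submonoid.smul_def, one_smul, smul_zero] at hj
    have hk : g ^ j * (f * c k) = 0 := congrFun hj k
    have hk' := congrArg (X.presheaf.germ U y hyU) hk
    rw [map_mul, map_mul, map_pow, map_zero] at hk'
    have hfu : IsUnit (X.presheaf.germ U y hyU f) := (Scheme.mem_basicOpen X f y hyU).1 hf
    have hck := hfu.mul_right_eq_zero.1 ((hgu.pow j).mul_right_eq_zero.1 hk')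
    exact hdu.mul_right_eq_zero.1 ((((hc k).trans (Algebra.smul_def _ _))).symm.trans hck)
  · rw [eq_top_iff, ← CohBasics.Affine.germ_span_eq_top hU ⊤ Submodule.span_univ hyU]
    rw [Submodule.span_le]
    rintro _ ⟨v, -, rfl⟩
    obtain ⟨z, hz⟩ := hgb.2 (LocalizedModule.mk v 1)
    induction z using LocalizedModule.induction_on with
    | _ c t =>
      obtain ⟨i, hi⟩ := t.2
      rw [LocalizedModule.map_mk, LocalizedModule.mk_eq] at hz
      obtain ⟨⟨_, j, rfl⟩, hj⟩ := hz
      simp only [Submonoid.smul_def, one_smul] at hj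
      rw [← hi, smul_smul, ← map_smul] at hj
      have h' := congrArg (M.presheaf.germ U y hyU) hj
      rw [hgerm', Modules.StalkModule.germ_smul hyU] at h'
      have hu : IsUnit (X.presheaf.germ U y hyU (g ^ j * g ^ i)) := by
        rw [map_mul, map_pow, map_pow]; exact (hgu.pow j).mul (hgu.pow i)
      refine (Submodule.smul_mem_iff_of_isUnit _ hu).1 ?_
      rw [← h']
      exact Submodule.sum_mem _ fun k _ => Submodule.smul_mem _ _ (Submodule.subset_span ⟨k, rfl⟩)

/-- Freeness of stalks passes to restrictions. -/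
theorem free_stalk_restrict {Y : Scheme.{u}} (f : Y ⟶ X) [IsOpenImmersion f] (M : X.Modules) (y : Y)
    [Module.Free (X.presheaf.stalk (f y)) (M.presheaf.stalk (f y))] :
    Module.Free (Y.presheaf.stalk y) ((M.restrict f).presheaf.stalk y) := by
  let e := Modules.StalkRestrict.restrictStalkAddEquiv f M y
  let b := Module.Free.chooseBasis (X.presheaf.stalk (f y)) (M.presheaf.stalk (f y))
  let v := fun i => e.symm (b i)
  have hσ := ConcreteCategory.bijective_of_isIso (f.stalkMap y)
  have hsm : ∀ a w, e.symm (a • w) = f.stalkMap y a • e.symm w := fun a w => by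
    rw [AddEquiv.symm_apply_eq, Modules.StalkRestrict.restrictStalkAddEquiv_smul,
      AddEquiv.apply_symm_apply]
  refine Module.Free.of_basis (Module.Basis.mk (v := v) ?_ ?_)
  · rw [linearIndependent_iff']
    intro t a ha i hi
    choose a' ha' using fun i => hσ.2 (a i)
    have h : ∑ j ∈ t, a' j • b j = 0 := by
      apply e.symm.injective
      rw [map_zero, map_sum, ← ha]
      exact Finset.sum_congr rfl fun j _ => by rw [hsm, ha']
    rw [← ha' i, linearIndependent_iff'.1 b.linearIndependent t a' h i hi, map_zero]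
  · intro w _
    have hw : e w ∈ Submodule.span (X.presheaf.stalk (f y)) (Set.range b) :=
      b.span_eq.ge Submodule.mem_top
    rw [← e.symm_apply_apply w]
    generalize e w = u at hw
    induction hw using Submodule.span_induction with
    | mem _ h => obtain ⟨i, rfl⟩ := h; exact Submodule.subset_span ⟨i, rfl⟩
    | zero => rw [map_zero]; exact zero_mem _
    | add _ _ _ _ h1 h2 => rw [map_add]; exact add_mem h1 h2
    | smul a _ _ h => rw [hsm]; exact Submodule.smul_mem _ _ h

/-- Finitely presented with free stalks implies finite locally free. -/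
theorem isFinLocFree_of_free_stalks (M : X.Modules)
    [SheafOfModules.IsFinitePresentation (R := X.ringCatSheaf) M]
    (h : ∀ x : X, Module.Free (X.presheaf.stalk x) (M.presheaf.stalk x)) :
    FlatMod.IsFinLocFree M := by
  refine TensorInv.isFinLocFree_of_locally fun x => ?_
  obtain ⟨U, hU, hxU, hFP⟩ := exists_affine_finitePresentation M x
  refine ⟨U, hxU, fun y => ?_⟩
  have : IsAffine (U : Scheme.{u}) := hU
  have := hFP
  obtain ⟨σ, -⟩ := SheafOfModules.IsFinitePresentation.exists_quasicoherentData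
    (show SheafOfModules X.ringCatSheaf from M)
  have hMq : M.IsQuasicoherent :=
    SheafOfModules.IsQuasicoherent.mk (C := X.Opens) (R := X.ringCatSheaf) (M := M) ⟨σ⟩
  have : (M.restrict U.ι).IsQuasicoherent :=
    have := QCoh.Pullback.isQCoh_pullback U.ι M
    (SheafOfModules.isQuasicoherent (R := (U : Scheme.{u}).ringCatSheaf)).prop_of_iso
      ((Scheme.Modules.restrictFunctorIsoPullback U.ι).app M).symm ‹_›
  have := h (U.ι y)
  have := free_stalk_restrict U.ι M y
  have : SheafOfModules.IsFiniteType (R := (U : Scheme.{u}).ringCatSheaf) (M.restrict U.ι) :=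
    CohBasics.Affine.isFiniteType_of_finite_sections fun z =>
      ⟨⊤, isAffineOpen_top _, trivial, inferInstance⟩
  have := Modules.GenStalk.finite_stalk (M.restrict U.ι) y
  obtain ⟨W, n, hy, i⟩ := exists_free_nhd (M := M.restrict U.ι) (isAffineOpen_top _) (x := y) trivial
  exact ⟨W, n, hy, i⟩

end Groth.Agent.Lib.TensorMod.FPCrit
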