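import Groth.Prelude.Def_Coh
import Mathlib.Topology.Sheaves.SheafCondition.UniqueGluing

/-!
The dual `Hom(L, O_X)` of a module over a scheme.
-/

universe u

open CategoryTheory CategoryTheory.Limits AlgebraicGeometry Opposite TopologicalSpace

namespace Groth.Agent.Lib.TensorMod.Dual

variable {X : Scheme.{u}}

/-- Restriction of sections of a module along an inclusion. -/
noncomputable abbrev rs (M : X.Modules) {U V : X.Opens} (h : V ≤ U) (x : Γ(M, U)) : Γ(M, V) :=
  M.presheaf.map (homOfLE h).op x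

/-- Restriction of functions along an inclusion. -/
noncomputable abbrev rf {U V : X.Opens} (h : V ≤ U) (a : Γ(X, U)) : Γ(X, V) :=
  X.presheaf.map (homOfLE h).op a

lemma rs_rs (M : X.Modules) {U V W : X.Opens} (h : V ≤ U) (h' : W ≤ V) (x : Γ(M, U)) :
    rs M h' (rs M h x) = rs M (h'.trans h) x := by
  rw [rs, rs, ← ConcreteCategory.comp_apply, ← Functor.map_comp]
  rfl

lemma rf_rf {U V W : X.Opens} (h : V ≤ U) (h' : W ≤ V) (a : Γ(X, U)) :
    rf h' (rf h a) = rf (h'.trans h) a := by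
  rw [rf, rf, ← ConcreteCategory.comp_apply, ← Functor.map_comp]
  rfl

lemma rs_smul (M : X.Modules) {U V : X.Opens} (h : V ≤ U) (a : Γ(X, U)) (x : Γ(M, U)) :
    rs M h (a • x) = rf h a • rs M h x :=
  M.map_smul (homOfLE h) a x

lemma rs_self (M : X.Modules) {U : X.Opens} (h : U ≤ U) (x : Γ(M, U)) : rs M h x = x := by
  rw [rs, show (homOfLE h).op = 𝟙 (op U) from rfl, CategoryTheory.Functor.map_id]
  rfl

lemma rf_self {U : X.Opens} (h : U ≤ U) (x : Γ(X, U)) : rf h x = x := by
  rw [rf, show (homOfLE h).op = 𝟙 (op U) from rfl, CategoryTheory.Functor.map_id]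
  rfl

variable (L : X.Modules)

/-- Compatible families of linear forms on the opens inside `U`. -/
def dualSub (U : X.Opens) :
    AddSubgroup (∀ V : {V : X.Opens // V ≤ U}, Γ(L, V.1) →ₗ[Γ(X, V.1)] Γ(X, V.1)) where
  carrier := {φ | ∀ (V W : {V : X.Opens // V ≤ U}) (h : W.1 ≤ V.1) (x : Γ(L, V.1)),
    rf h (φ V x) = φ W (rs L h x)}
  zero_mem' V W h x := map_zero (X.presheaf.map _).hom
  add_mem' {φ ψ} hφ hψ V W h x := by
    rw [Pi.add_apply, Pi.add_apply, LinearMap.add_apply, LinearMap.add_apply, ← hφ V W h x,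
      ← hψ V W h x]
    exact map_add (X.presheaf.map _).hom _ _
  neg_mem' {φ} hφ V W h x := by
    rw [Pi.neg_apply, Pi.neg_apply, LinearMap.neg_apply, LinearMap.neg_apply, ← hφ V W h x]
    exact map_neg (X.presheaf.map _).hom _

/-- Sections of the dual. -/
abbrev DualSec (U : X.Opens) : Type u := dualSub L U

variable {L}

/-- The value of a section of the dual. -/
def DualSec.app {U : X.Opens} (φ : DualSec L U) {V : X.Opens} (h : V ≤ U) :
    Γ(L, V) →ₗ[Γ(X, V)] Γ(X, V) :=
  φ.1 ⟨V, h⟩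

lemma DualSec.compat {U : X.Opens} (φ : DualSec L U) {V W : X.Opens} (hV : V ≤ U) (h : W ≤ V)
    (x : Γ(L, V)) : rf h (φ.app hV x) = φ.app (h.trans hV) (rs L h x) :=
  φ.2 ⟨V, hV⟩ ⟨W, h.trans hV⟩ h x

@[ext]
lemma DualSec.ext {U : X.Opens} {φ ψ : DualSec L U}
    (h : ∀ (V : X.Opens) (hV : V ≤ U) (x : Γ(L, V)), φ.app hV x = ψ.app hV x) : φ = ψ :=
  Subtype.ext (funext fun V => LinearMap.ext fun x => h V.1 V.2 x)

variable (L)

noncomputable instance smulDualSec (U : X.Opens) : SMul Γ(X, U) (DualSec L U) where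
  smul r φ := ⟨fun V => rf V.2 r • φ.1 V, fun V W h x => by
    rw [LinearMap.smul_apply, LinearMap.smul_apply, ← φ.2 V W h x, smul_eq_mul, smul_eq_mul,
      rf, map_mul]
    congr 1
    exact rf_rf V.2 h r⟩

lemma smul_app {U : X.Opens} (r : Γ(X, U)) (φ : DualSec L U) {V : X.Opens} (h : V ≤ U)
    (x : Γ(L, V)) : (r • φ : DualSec L U).app h x = rf h r * φ.app h x := rfl

lemma add_app {U : X.Opens} (φ ψ : DualSec L U) {V : X.Opens} (h : V ≤ U)
    (x : Γ(L, V)) : (φ + ψ).app h x = φ.app h x + ψ.app h x := rfl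

lemma zero_app {U : X.Opens} {V : X.Opens} (h : V ≤ U)
    (x : Γ(L, V)) : (0 : DualSec L U).app h x = 0 := rfl

noncomputable instance moduleDualSec (U : X.Opens) : Module Γ(X, U) (DualSec L U) where
  one_smul φ := by ext V h x; simp [smul_app, rf]
  mul_smul r s φ := by ext V h x; simp [smul_app, rf, mul_assoc]
  smul_zero r := by ext V h x; simp [smul_app, zero_app]
  smul_add r φ ψ := by ext V h x; simp [smul_app, add_app, mul_add]
  add_smul r s φ := by ext V h x; simp [smul_app, add_app, rf, add_mul]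
  zero_smul φ := by ext V h x; simp [smul_app, zero_app, rf]

/-- Restriction of sections of the dual. -/
noncomputable def dualRes {U V : X.Opens} (h : V ≤ U) : DualSec L U →+ DualSec L V where
  toFun φ := ⟨fun W => φ.1 ⟨W.1, W.2.trans h⟩, fun W W' h' x => φ.2 ⟨W.1, W.2.trans h⟩ ⟨W'.1, W'.2.trans h⟩ h' x⟩
  map_zero' := rfl
  map_add' _ _ := rfl

lemma dualRes_app {U V W : X.Opens} (h : V ≤ U) (φ : DualSec L U) (hW : W ≤ V) (x : Γ(L, W)) :
    (dualRes L h φ).app hW x = φ.app (hW.trans h) x := rfl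

lemma dualRes_smul {U V : X.Opens} (h : V ≤ U) (r : Γ(X, U)) (φ : DualSec L U) :
    dualRes L h (r • φ) = rf h r • dualRes L h φ := by
  refine DualSec.ext fun W hW x => ?_
  rw [dualRes_app, smul_app, smul_app, dualRes_app, rf_rf]

/-- The underlying presheaf of abelian groups of the dual. -/
noncomputable def dualAb : (TopologicalSpace.Opens X)ᵒᵖ ⥤ Ab.{u} where
  obj U := AddCommGrpCat.of (DualSec L U.unop)
  map i := AddCommGrpCat.ofHom (dualRes L i.unop.le)
  map_id _ := rfl
  map_comp _ _ := rfl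

noncomputable instance moduleDualAb (U : (TopologicalSpace.Opens X)ᵒᵖ) :
    Module (X.ringCatSheaf.obj.obj U) ((dualAb L).obj U) :=
  inferInstanceAs (Module Γ(X, U.unop) (DualSec L U.unop))

/-- The dual presheaf of modules. -/
noncomputable def dualPre : X.PresheafOfModules :=
  PresheafOfModules.ofPresheaf (dualAb L) fun {_U _V} i r φ =>
    dualRes_smul L i.unop.le r φ

lemma exists_glue {ι : Type u} (U : ι → X.Opens) (sf : ∀ i, DualSec L (U i))
    (hsf : ∀ (i j : ι) (W : X.Opens) (hi : W ≤ U i) (hj : W ≤ U j) (x : Γ(L, W)),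
      (sf i).app hi x = (sf j).app hj x) :
    ∃! s : DualSec L (iSup U), ∀ i, dualRes L (le_iSup U i) s = sf i := by
  have hval : ∀ (V : X.Opens) (hV : V ≤ iSup U) (x : Γ(L, V)), ∃! a : Γ(X, V),
      ∀ i, rf (inf_le_left : V ⊓ U i ≤ V) a =
        DualSec.app (sf i) (inf_le_right : V ⊓ U i ≤ U i) (rs L inf_le_left x) := by
    intro V hV x
    refine X.sheaf.existsUnique_gluing' (fun i => V ⊓ U i) V (fun i => homOfLE inf_le_left)
      (by rw [← inf_iSup_eq]; exact le_inf le_rfl hV) _ fun i j => ?_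
    let W := (V ⊓ U i) ⊓ (V ⊓ U j)
    change rf (inf_le_left : W ≤ V ⊓ U i) _ = rf (inf_le_right : W ≤ V ⊓ U j) _
    rw [DualSec.compat, DualSec.compat, rs_rs, rs_rs]
    exact hsf i j W _ _ _
  choose val hspec huniq using hval
  have hlin_add : ∀ V (hV : V ≤ iSup U) (x y : Γ(L, V)),
      val V hV (x + y) = val V hV x + val V hV y := by
    intro V hV x y
    refine (huniq V hV _ _ fun i => ?_).symm
    rw [rf, map_add, rs, map_add, map_add]
    exact congrArg₂ (· + ·) (hspec V hV x i) (hspec V hV y i)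
  have hlin_smul : ∀ V (hV : V ≤ iSup U) (r : Γ(X, V)) (x : Γ(L, V)),
      val V hV (r • x) = r • val V hV x := by
    intro V hV r x
    refine (huniq V hV _ _ fun i => ?_).symm
    rw [smul_eq_mul, rf, map_mul, rs_smul, map_smul, smul_eq_mul]
    exact congrArg (rf inf_le_left r * ·) (hspec V hV x i)
  let s : DualSec L (iSup U) :=
    ⟨fun V => { toFun := val V.1 V.2, map_add' := hlin_add V.1 V.2,
                map_smul' := hlin_smul V.1 V.2 }, by
      intro V W h x
      refine huniq W.1 W.2 (rs L h x) (rf h (val V.1 V.2 x)) fun i => ?_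
      rw [rf_rf, ← rf_rf (inf_le_left : V.1 ⊓ U i ≤ V.1) (inf_le_inf_right (U i) h),
        hspec V.1 V.2 x i, DualSec.compat, rs_rs, rs_rs]⟩
  refine ⟨s, fun i => ?_, fun t ht => ?_⟩
  · refine DualSec.ext fun V hV x => ?_
    have h := hspec V (hV.trans (le_iSup U i)) x i
    have e : rf (le_inf le_rfl hV : V ≤ V ⊓ U i) (rf (inf_le_left : V ⊓ U i ≤ V)
        (val V (hV.trans (le_iSup U i)) x)) = val V (hV.trans (le_iSup U i)) x := by
      rw [rf_rf, rf_self]
    change val V _ x = _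
    rw [← e, h, DualSec.compat, rs_rs, rs_self]
  · refine DualSec.ext fun V hV x => ?_
    refine huniq V hV x _ fun i => ?_
    rw [DualSec.compat]
    exact congrArg (fun φ : DualSec L (U i) => φ.app inf_le_right (rs L _ x)) (ht i)

lemma isSheaf_dualAb : TopCat.Presheaf.IsSheaf (dualAb L : TopCat.Presheaf Ab.{u} X) := by
  rw [TopCat.Presheaf.isSheaf_iff_isSheafUniqueGluing]
  intro ι U sf hsf
  exact exists_glue L U sf fun i j W hi hj x =>
    congrArg (fun φ : DualSec L (U i ⊓ U j) => φ.app (le_inf hi hj) x) (hsf i j)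

/-- The dual `Hom(L, O_X)`. -/
noncomputable def dual : X.Modules := ⟨dualPre L, isSheaf_dualAb L⟩

end Groth.Agent.Lib.TensorMod.Dual
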