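import Groth.Agent.Lib.TensorMod.Basic
import Mathlib.CategoryTheory.Limits.Preserves.Basic
import Mathlib.CategoryTheory.Adjunction.Limits
import Mathlib.CategoryTheory.Monoidal.Limits.Preserves
import Mathlib.Algebra.Category.ModuleCat.Presheaf.Generator

/-!
The tensor product of modules preserves colimits in each variable; isomorphisms between
colimit preserving functors can be checked on free generators.
-/

universe u

open CategoryTheory CategoryTheory.Limits AlgebraicGeometry MonoidalCategory Opposite

namespace Groth.Agent.Lib.TensorMod.Colimit

section General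

variable {C D E : Type*} [Category* C] [Category* D] [Category* E] {J : Type*} [Category* J]

/-- A functor out of a reflective subcategory preserves colimits when its composition with the
reflector does. -/
lemma preservesColimitsOfShape_of_reflector {L : C ⥤ D} {U : D ⥤ C} (adj : L ⊣ U)
    [IsIso adj.counit] [HasColimitsOfShape J C] (T : D ⥤ E)
    [PreservesColimitsOfShape J (L ⋙ T)] : PreservesColimitsOfShape J T where
  preservesColimit {K} := by
    have e : (K ⋙ U) ⋙ L ≅ K :=
      Functor.associator K U L ≪≫ Functor.isoWhiskerLeft K (asIso adj.counit) ≪≫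
        Functor.rightUnitor K
    have hL : IsColimit (L.mapCocone (colimit.cocone (K ⋙ U))) :=
      have := adj.leftAdjoint_preservesColimits
      isColimitOfPreserves L (colimit.isColimit (K ⋙ U))
    have hT : IsColimit (T.mapCocone (L.mapCocone (colimit.cocone (K ⋙ U)))) :=
      IsColimit.ofIsoColimit (isColimitOfPreserves (L ⋙ T) (colimit.isColimit (K ⋙ U)))
        (Cocone.ext (Iso.refl _))
    have : PreservesColimit ((K ⋙ U) ⋙ L) T :=
      preservesColimit_of_preserves_colimit_cocone hL hT
    exact preservesColimit_of_iso_diagram T e

/-- A natural transformation between functors preserving a colimit is an isomorphism at the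
point if it is one on the diagram. -/
lemma isIso_app_of_isColimit {F G : C ⥤ D} (α : F ⟶ G) {K : J ⥤ C} {c : Cocone K}
    (hc : IsColimit c) [PreservesColimit K F] [PreservesColimit K G]
    (h : ∀ j, IsIso (α.app (K.obj j))) : IsIso (α.app c.pt) := by
  let e : K ⋙ F ≅ K ⋙ G :=
    NatIso.ofComponents (fun j => @asIso _ _ _ _ (α.app (K.obj j)) (h j))
      (fun f => α.naturality (K.map f))
  have : α.app c.pt = ((isColimitOfPreserves F hc).coconePointsIsoOfNatIso
      (isColimitOfPreserves G hc) e).hom := by
    refine (isColimitOfPreserves F hc).hom_ext fun j => ?_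
    rw [IsColimit.comp_coconePointsIsoOfNatIso_hom]
    exact α.naturality (c.ι.app j)
  rw [this]
  infer_instance

end General

open Basic

variable {X : Scheme.{u}}

instance preservesColimits_sh_tensor (N : X.Modules) :
    PreservesColimitsOfSize.{u, u} (tensorLeft ((fgt X).obj N) ⋙ sh X) :=
  have : PreservesColimitsOfSize.{u, u} (sh X) := (adj X).leftAdjoint_preservesColimits
  inferInstance

/-- Tensoring with `N` on the left, after sheafifying, is the presheaf tensor product sheafified. -/
noncomputable def shTensorLeftIso (N : X.Modules) :
    tensorLeft ((fgt X).obj N) ⋙ sh X ≅ sh X ⋙ (tensorFunctor X).obj N :=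
  NatIso.ofComponents (fun P => Reflective.leftIso (adj X) ((fgt X).obj N) P) (fun {P Q} f => by
    change (sh X).map ((fgt X).obj N ◁ f) ≫ (sh X).map ((fgt X).obj N ◁ (adj X).unit.app Q) =
      (sh X).map ((fgt X).obj N ◁ (adj X).unit.app P) ≫
        Reflective.tm (sh X) (fgt X) (𝟙 N) ((sh X).map f)
    rw [Reflective.tm, ← Functor.map_comp, ← Functor.map_comp, (fgt X).map_id, id_tensorHom,
      ← whiskerLeft_comp, ← whiskerLeft_comp]
    exact congrArg (fun t => (sh X).map ((fgt X).obj N ◁ t)) ((adj X).unit.naturality f))

instance preservesColimits_tensor_left (N : X.Modules) :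
    PreservesColimitsOfSize.{u, u} ((tensorFunctor X).obj N) where
  preservesColimitsOfShape {J} :=
    have : PreservesColimitsOfShape J (sh X ⋙ (tensorFunctor X).obj N) :=
      preservesColimitsOfShape_of_natIso (shTensorLeftIso N)
    preservesColimitsOfShape_of_reflector (adj X) _

/-- Symmetry as a natural isomorphism. -/
noncomputable def tensorByIso (N : X.Modules) : (tensorFunctor X).obj N ≅ tensorBy N :=
  NatIso.ofComponents (fun M => comm N M) (fun g => comm_natural (𝟙 N) g)

instance preservesColimits_tensor_right (N : X.Modules) :
    PreservesColimitsOfSize.{u, u} (tensorBy N) :=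
  preservesColimits_of_natIso (tensorByIso N)

/-- The free presheaf of modules on a representable. -/
noncomputable def freeGen (U : X.Opens) : CohB1.PMod X :=
  (PresheafOfModules.free (X.sheaf.obj ⋙ forget₂ CommRingCat RingCat)).obj (yoneda.obj U)

/-- To see that a natural transformation between colimit preserving functors on modules is an
isomorphism, it suffices to check it on the free generators. -/
lemma isIso_of_generators {D : Type*} [Category* D] {F G : X.Modules ⥤ D} (α : F ⟶ G)
    [PreservesColimitsOfSize.{u, u} F] [PreservesColimitsOfSize.{u, u} G]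
    (h : ∀ U : X.Opens, IsIso (α.app ((sh X).obj (freeGen U)))) : IsIso α := by
  have hsh : PreservesColimitsOfSize.{u, u} (sh X) := (adj X).leftAdjoint_preservesColimits
  let β := Functor.whiskerLeft (sh X) α
  have key : ∀ P : CohB1.PMod X, IsIso (β.app P) := by
    have hcop : ∀ Q : CohB1.PMod X, IsIso (β.app Q.freeYonedaCoproduct) := fun Q =>
      isIso_app_of_isColimit β (coproductIsCoproduct (PresheafOfModules.Elements.freeYoneda
        (M := Q))) fun j => h j.as.1.unop
    intro P
    have : PreservesColimitsOfSize.{0, 0} (sh X ⋙ F) :=
      preservesSmallestColimits_of_preservesColimits _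
    have : PreservesColimitsOfSize.{0, 0} (sh X ⋙ G) :=
      preservesSmallestColimits_of_preservesColimits _
    refine isIso_app_of_isColimit β P.isColimitFreeYonedaCoproductsCokernelCofork ?_
    rintro (_ | _)
    · exact hcop _
    · exact hcop _
  have : ∀ M : X.Modules, IsIso (α.app M) := fun M => by
    have h1 : IsIso (α.app ((sh X).obj ((fgt X).obj M))) := key _
    let e : (sh X).obj ((fgt X).obj M) ≅ M := (asIso (adj X).counit).app M
    have h2 : α.app M = F.map e.inv ≫ α.app _ ≫ G.map e.hom := by
      rw [← Category.assoc, α.naturality, Category.assoc, ← Functor.map_comp, e.inv_hom_id,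
        CategoryTheory.Functor.map_id, Category.comp_id]
    rw [h2]
    infer_instance
  exact NatIso.isIso_of_isIso_app α

end Groth.Agent.Lib.TensorMod.Colimit
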