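import Mathlib.Algebra.Category.ModuleCat.Presheaf.Monoidal
import Mathlib.Algebra.Category.ModuleCat.Presheaf.Sheafification
import Mathlib.Algebra.Category.ModuleCat.Sheaf.Localization
import Mathlib.CategoryTheory.Sites.LocallyBijective

/-!
Locally bijective morphisms of presheaves of modules over a presheaf of commutative rings are
stable under tensor product with a fixed presheaf of modules: precomposition with `M ◁ f` is
bijective on morphisms into sheaves.
-/

universe u

open CategoryTheory MonoidalCategory Opposite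

namespace Groth.Agent.Lib.TensorMod.Whisker

variable {C : Type u} [SmallCategory C] {J : GrothendieckTopology C}
  {R : Cᵒᵖ ⥤ CommRingCat.{u}}

/-- Presheaves of modules over a presheaf of commutative rings. -/
abbrev PM (R : Cᵒᵖ ⥤ CommRingCat.{u}) :=
  PresheafOfModules.{u} (R ⋙ forget₂ CommRingCat RingCat.{u})

variable {M P Q H : PM R}

/-- Restriction of a section, typed in the target module. -/
noncomputable def res (N : PM R) {X Y : Cᵒᵖ} (i : X ⟶ Y) (x : N.obj X) : N.obj Y := N.map i x

lemma res_res (N : PM R) {X Y Z : Cᵒᵖ} (i : X ⟶ Y) (j : Y ⟶ Z) (x : N.obj X) :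
    res N j (res N i x) = res N (i ≫ j) x :=
  (PresheafOfModules.map_comp_apply N i j x).symm

lemma res_add (N : PM R) {X Y : Cᵒᵖ} (i : X ⟶ Y) (x y : N.obj X) :
    res N i (x + y) = res N i x + res N i y :=
  map_add (N.map i).hom x y

lemma res_zero (N : PM R) {X Y : Cᵒᵖ} (i : X ⟶ Y) : res N i (0 : N.obj X) = 0 :=
  map_zero (N.map i).hom

lemma res_smul (N : PM R) {X Y : Cᵒᵖ} (i : X ⟶ Y) (r : R.obj X) (x : N.obj X) :
    res N i (r • x : N.obj X) = (R.map i r • res N i x : N.obj Y) :=
  N.map_smul i r x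

lemma res_id (N : PM R) {X : Cᵒᵖ} (x : N.obj X) : res N (𝟙 X) x = x :=
  by simp [res]

lemma res_app (f : P ⟶ Q) {X Y : Cᵒᵖ} (i : X ⟶ Y) (p : P.obj X) :
    (f.app Y).hom (res P i p) = res Q i ((f.app X).hom p) :=
  PresheafOfModules.naturality_apply f i p

/-- The value of a morphism out of a tensor product on a pure tensor. -/
noncomputable def pair (g : M ⊗ P ⟶ H) {X : Cᵒᵖ} (m : M.obj X) (p : P.obj X) : H.obj X :=
  (g.app X).hom (m ⊗ₜ[R.obj X] p)

lemma res_pair (g : M ⊗ P ⟶ H) {X Y : Cᵒᵖ} (i : X ⟶ Y) (m : M.obj X) (p : P.obj X) :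
    res H i (pair g m p) = pair g (res M i m) (res P i p) :=
  (PresheafOfModules.naturality_apply g i (m ⊗ₜ[R.obj X] p)).symm

lemma pair_add_left (g : M ⊗ P ⟶ H) {X : Cᵒᵖ} (m m' : M.obj X) (p : P.obj X) :
    pair g (m + m') p = pair g m p + pair g m' p :=
  (congrArg (g.app X).hom (TensorProduct.add_tmul m m' p)).trans (map_add (g.app X).hom _ _)

lemma pair_add_right (g : M ⊗ P ⟶ H) {X : Cᵒᵖ} (m : M.obj X) (p p' : P.obj X) :
    pair g m (p + p') = pair g m p + pair g m p' :=
  (congrArg (g.app X).hom (TensorProduct.tmul_add m p p')).trans (map_add (g.app X).hom _ _)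

lemma pair_smul_left (g : M ⊗ P ⟶ H) {X : Cᵒᵖ} (r : R.obj X) (m : M.obj X) (p : P.obj X) :
    pair g (r • m : M.obj X) p = (r • pair g m p : H.obj X) := by
  refine (congrArg (g.app X).hom ?_).trans ((g.app X).hom.map_smul r _)
  rfl

lemma pair_smul_right (g : M ⊗ P ⟶ H) {X : Cᵒᵖ} (r : R.obj X) (m : M.obj X) (p : P.obj X) :
    pair g m (r • p : P.obj X) = (r • pair g m p : H.obj X) := by
  refine (congrArg (g.app X).hom ?_).trans ((g.app X).hom.map_smul r _)
  exact TensorProduct.tmul_smul r m p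

lemma pair_ext {g g' : M ⊗ Q ⟶ H}
    (h : ∀ (X : Cᵒᵖ) (m : M.obj X) (q : Q.obj X), pair g m q = pair g' m q) : g = g' := by
  ext1 X
  exact ModuleCat.MonoidalCategory.tensor_ext (h X)

lemma pair_whiskerLeft (f : P ⟶ Q) (g : M ⊗ Q ⟶ H) {X : Cᵒᵖ} (m : M.obj X) (p : P.obj X) :
    pair (M ◁ f ≫ g) m p = pair g m ((f.app X).hom p) := rfl

lemma isSheaf_types (hH : Presheaf.IsSheaf J H.presheaf) :
    Presieve.IsSheaf J (H.presheaf ⋙ forget AddCommGrpCat.{u}) :=
  (isSheaf_iff_isSheaf_of_type J _).1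
    ((Presheaf.isSheaf_iff_isSheaf_forget J H.presheaf (forget AddCommGrpCat.{u})).1 hH)

lemma sections_ext (hH : Presheaf.IsSheaf J H.presheaf) {X : Cᵒᵖ} {S : Sieve X.unop}
    (hS : S ∈ J X.unop) (a b : H.obj X)
    (h : ∀ ⦃Y : C⦄ (i : Y ⟶ X.unop), S i → res H i.op a = res H i.op b) : a = b :=
  (isSheaf_types hH S hS).isSeparatedFor.ext h

/-- The sieve of morphisms along which a section is in the image of `f`. -/
noncomputable def imgSieve (f : P ⟶ Q) {X : Cᵒᵖ} (q : Q.obj X) : Sieve X.unop :=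
  Presheaf.imageSieve ((PresheafOfModules.toPresheaf _).map f) q

lemma imgSieve_mem (f : P ⟶ Q)
    [Presheaf.IsLocallySurjective J ((PresheafOfModules.toPresheaf _).map f)]
    {X : Cᵒᵖ} (q : Q.obj X) : imgSieve f q ∈ J X.unop :=
  Presheaf.imageSieve_mem J ((PresheafOfModules.toPresheaf _).map f) q

lemma imgSieve_spec {f : P ⟶ Q} {X : Cᵒᵖ} {q : Q.obj X} {Y : C} {i : Y ⟶ X.unop}
    (h : imgSieve f q i) : ∃ p : P.obj (op Y), (f.app (op Y)).hom p = res Q i.op q := h

variable (f : P ⟶ Q) (hH : Presheaf.IsSheaf J H.presheaf)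

include hH in
lemma comp_whiskerLeft_injective
    [Presheaf.IsLocallySurjective J ((PresheafOfModules.toPresheaf _).map f)] :
    Function.Injective fun g : M ⊗ Q ⟶ H => (M ◁ f) ≫ g := by
  intro g g' h
  refine pair_ext fun X m q => ?_
  refine sections_ext hH (imgSieve_mem f q) _ _ fun Y i hi => ?_
  obtain ⟨p, hp'⟩ := imgSieve_spec hi
  rw [res_pair, res_pair, ← hp', ← pair_whiskerLeft, ← pair_whiskerLeft]
  exact congrArg (fun k : M ⊗ P ⟶ H => pair k (res M i.op m) p) h

variable [Presheaf.IsLocallyInjective J ((PresheafOfModules.toPresheaf _).map f)]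
  [Presheaf.IsLocallySurjective J ((PresheafOfModules.toPresheaf _).map f)]
variable (g : M ⊗ P ⟶ H)

omit [Presheaf.IsLocallySurjective J ((PresheafOfModules.toPresheaf _).map f)] in
include hH in
lemma eq_of_eq_image {X : Cᵒᵖ} (m : M.obj X) (p p' : P.obj X)
    (h : (f.app X).hom p = (f.app X).hom p') : pair g m p = pair g m p' := by
  refine sections_ext hH
    (Presheaf.equalizerSieve_mem J ((PresheafOfModules.toPresheaf _).map f) p p' h) _ _ ?_
  intro Y i hi
  have hi' : res P i.op p = res P i.op p' := hi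
  rw [res_pair, res_pair, hi']

/-- The defining property of the value at `(m, q)` of the extension of `g` along `f`. -/
def IsExt {X : Cᵒᵖ} (m : M.obj X) (q : Q.obj X) (h : H.obj X) : Prop :=
  ∀ ⦃Y : C⦄ (i : Y ⟶ X.unop) (p : P.obj (op Y)), (f.app (op Y)).hom p = res Q i.op q →
    res H i.op h = pair g (res M i.op m) p

include hH in
lemma isExt_exists {X : Cᵒᵖ} (m : M.obj X) (q : Q.obj X) : ∃ h, IsExt f g m q h := by
  let S := imgSieve f q
  have hS : S ∈ J X.unop := imgSieve_mem f q
  have hT := isSheaf_types hH S hS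
  have spec : ∀ {Y : C} (i : Y ⟶ X.unop) (hi : S i),
      (f.app (op Y)).hom (imgSieve_spec hi).choose = res Q i.op q :=
    fun i hi => (imgSieve_spec hi).choose_spec
  let x : Presieve.FamilyOfElements (H.presheaf ⋙ forget AddCommGrpCat.{u}) S.arrows :=
    fun Y i hi => pair g (res M i.op m) (imgSieve_spec hi).choose
  have hx : x.Compatible := by
    intro Y₁ Y₂ Z k₁ k₂ i₁ i₂ h₁ h₂ e
    change res H k₁.op (pair g (res M i₁.op m) (imgSieve_spec h₁).choose) =
      res H k₂.op (pair g (res M i₂.op m) (imgSieve_spec h₂).choose)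
    have e' : i₁.op ≫ k₁.op = i₂.op ≫ k₂.op := congrArg Quiver.Hom.op e
    rw [res_pair, res_pair, res_res, res_res, e']
    apply eq_of_eq_image f hH
    rw [res_app, res_app, spec i₁ h₁, spec i₂ h₂, res_res, res_res, e']
  refine ⟨hT.amalgamate x hx, fun Y i p hp => ?_⟩
  have hi : S i := ⟨p, hp⟩
  refine (hT.valid_glue hx i hi).trans ?_
  exact eq_of_eq_image f hH g _ _ _ ((spec i hi).trans hp.symm)

omit [Presheaf.IsLocallyInjective J ((PresheafOfModules.toPresheaf _).map f)] in
include hH in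
lemma isExt_unique {X : Cᵒᵖ} {m : M.obj X} {q : Q.obj X} {h h' : H.obj X}
    (e : IsExt f g m q h) (e' : IsExt f g m q h') : h = h' := by
  refine sections_ext hH (imgSieve_mem f q) _ _ fun Y i hi => ?_
  obtain ⟨p, hp⟩ := imgSieve_spec hi
  rw [e i p hp, e' i p hp]

/-- The extension, on pairs. -/
noncomputable def extVal {X : Cᵒᵖ} (m : M.obj X) (q : Q.obj X) : H.obj X :=
  (isExt_exists f hH g m q).choose

lemma extVal_spec {X : Cᵒᵖ} (m : M.obj X) (q : Q.obj X) : IsExt f g m q (extVal f hH g m q) :=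
  (isExt_exists f hH g m q).choose_spec

lemma extVal_natural {X X' : Cᵒᵖ} (j : X ⟶ X') (m : M.obj X) (q : Q.obj X) :
    res H j (extVal f hH g m q) = extVal f hH g (res M j m) (res Q j q) := by
  refine isExt_unique f hH g (fun Y i p hp => ?_) (extVal_spec f hH g _ _)
  rw [res_res] at hp
  rw [res_res, res_res]
  exact extVal_spec f hH g m q (i ≫ j.unop) p hp

lemma extVal_app {X : Cᵒᵖ} (m : M.obj X) (p : P.obj X) :
    extVal f hH g m ((f.app X).hom p) = pair g m p := by
  refine isExt_unique f hH g (extVal_spec f hH g m _) fun Y i p' hp => ?_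
  rw [res_pair]
  exact eq_of_eq_image f hH g _ _ _ ((res_app f i.op p).trans hp.symm)

/-- To check an identity involving values of the extension, it suffices to treat the case
where the section of `Q` is in the image of `f`. -/
lemma extVal_add_left {X : Cᵒᵖ} (m m' : M.obj X) (q : Q.obj X) :
    extVal f hH g (m + m') q = extVal f hH g m q + extVal f hH g m' q := by
  refine isExt_unique f hH g (extVal_spec f hH g _ q) fun Y i p hp => ?_
  rw [res_add, res_add, extVal_spec f hH g m q i p hp, extVal_spec f hH g m' q i p hp,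
    pair_add_left]

lemma extVal_smul_left {X : Cᵒᵖ} (r : R.obj X) (m : M.obj X) (q : Q.obj X) :
    extVal f hH g (r • m : M.obj X) q = (r • extVal f hH g m q : H.obj X) := by
  refine isExt_unique f hH g (extVal_spec f hH g _ q) fun Y i p hp => ?_
  rw [res_smul, res_smul, extVal_spec f hH g m q i p hp, pair_smul_left]

lemma extVal_add_right {X : Cᵒᵖ} (m : M.obj X) (q q' : Q.obj X) :
    extVal f hH g m (q + q') = extVal f hH g m q + extVal f hH g m q' := by
  refine sections_ext hH (J.intersection_covering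
    (imgSieve_mem f q) (imgSieve_mem f q')) _ _ fun Z k hk => ?_
  obtain ⟨a, ha'⟩ := imgSieve_spec hk.1
  obtain ⟨b, hb'⟩ := imgSieve_spec hk.2
  rw [res_add, extVal_natural, extVal_natural, extVal_natural, res_add, ← ha', ← hb',
    ← map_add (f.app (op Z)).hom a b, extVal_app, extVal_app, extVal_app, pair_add_right]

lemma extVal_smul_right {X : Cᵒᵖ} (r : R.obj X) (m : M.obj X) (q : Q.obj X) :
    extVal f hH g m (r • q : Q.obj X) = (r • extVal f hH g m q : H.obj X) := by
  refine sections_ext hH (imgSieve_mem f q) _ _ fun Z k hk => ?_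
  obtain ⟨a, ha'⟩ := imgSieve_spec hk
  rw [res_smul, extVal_natural, extVal_natural, res_smul, ← ha', extVal_app]
  exact ((congrArg (extVal f hH g _) ((f.app (op Z)).hom.map_smul (R.map k.op r) a).symm).trans
    (extVal_app f hH g _ _)).trans (pair_smul_right g _ _ _)

/-- The extension of `g` along `M ◁ f`. -/
noncomputable def extHom : M ⊗ Q ⟶ H where
  app X := ModuleCat.MonoidalCategory.tensorLift (R := R.obj X)
    (M₁ := M.obj X) (M₂ := Q.obj X) (M₃ := H.obj X)
    (fun m q => extVal f hH g m q)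
    (extVal_add_left f hH g) (fun r m q => extVal_smul_left f hH g r m q)
    (extVal_add_right f hH g) (fun r m q => extVal_smul_right f hH g r m q)
  naturality {X X'} j := ModuleCat.MonoidalCategory.tensor_ext fun m q =>
    (extVal_natural f hH g j m q).symm

include hH in
lemma comp_whiskerLeft_bijective :
    Function.Bijective fun g : M ⊗ Q ⟶ H => (M ◁ f) ≫ g :=
  ⟨comp_whiskerLeft_injective f hH, fun g =>
    ⟨extHom f hH g, pair_ext fun _ m p => extVal_app f hH g m p⟩⟩

end Groth.Agent.Lib.TensorMod.Whisker
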