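import Mathlib.CategoryTheory.Monoidal.Braided.Basic
import Mathlib.CategoryTheory.Adjunction.Basic

/-!
The tensor product `L (U A ⊗ U B)` on a reflective subcategory of a symmetric monoidal category,
when the reflector inverts the whiskered units.
-/

universe v₁ v₂ u₁ u₂

open CategoryTheory MonoidalCategory

namespace Groth.Agent.Lib.TensorMod.Reflective

variable {C : Type u₁} [Category.{v₁} C] [MonoidalCategory C]
  {D : Type u₂} [Category.{v₂} D] {L : C ⥤ D} {U : D ⥤ C}

variable (L U) in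
/-- The reflected tensor product. -/
abbrev tobj (A B : D) : D := L.obj (U.obj A ⊗ U.obj B)

/-- The reflected tensor product of two morphisms. -/
abbrev tm (L : C ⥤ D) (U : D ⥤ C) {A A' B B' : D} (f : A ⟶ A') (g : B ⟶ B') :
    tobj L U A B ⟶ tobj L U A' B' :=
  L.map (U.map f ⊗ₘ U.map g)

lemma tm_id (A B : D) : tm L U (𝟙 A) (𝟙 B) = 𝟙 _ := by simp [tm]

lemma tm_comp {A A' A'' B B' B'' : D} (f : A ⟶ A') (f' : A' ⟶ A'') (g : B ⟶ B')
    (g' : B' ⟶ B'') : tm L U (f ≫ f') (g ≫ g') = tm L U f g ≫ tm L U f' g' := by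
  simp [tm, ← Functor.map_comp, tensorHom_comp_tensorHom]

variable (L U) in
/-- The reflected tensor product, as a bifunctor. -/
def bifunctor : D ⥤ D ⥤ D where
  obj A :=
    { obj := tobj L U A
      map g := tm L U (𝟙 A) g
      map_id _ := tm_id _ _
      map_comp g g' := by rw [← tm_comp, Category.id_comp] }
  map f := { app := fun B => tm L U f (𝟙 B)
             naturality := fun _ _ g => by simp [← tm_comp] }
  map_id A := by ext B : 2; exact tm_id A B
  map_comp f f' := by
    ext B : 2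
    change tm L U (f ≫ f') (𝟙 B) = tm L U f (𝟙 B) ≫ tm L U f' (𝟙 B)
    rw [← tm_comp, Category.id_comp]

/-- Symmetry. -/
def comm [BraidedCategory C] (A B : D) : tobj L U A B ≅ tobj L U B A :=
  L.mapIso (β_ (U.obj A) (U.obj B))

lemma comm_natural [BraidedCategory C] {A A' B B' : D} (f : A ⟶ A') (g : B ⟶ B') :
    tm L U f g ≫ (comm A' B').hom = (comm A B).hom ≫ tm L U g f := by
  simp [comm, tm, ← Functor.map_comp, BraidedCategory.braiding_naturality]

/-- The reflector inverts the whiskered units. -/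
class InvertsUnits (adj : L ⊣ U) : Prop where
  right : ∀ P Q : C, IsIso (L.map (adj.unit.app P ▷ Q))
  left : ∀ P Q : C, IsIso (L.map (P ◁ adj.unit.app Q))

variable (adj : L ⊣ U) [InvertsUnits adj]

/-- Reflecting the left factor first. -/
noncomputable def rightIso (P Q : C) : L.obj (P ⊗ Q) ≅ L.obj (U.obj (L.obj P) ⊗ Q) :=
  have := InvertsUnits.right (adj := adj) P Q
  asIso (L.map (adj.unit.app P ▷ Q))

/-- Reflecting the right factor first. -/
noncomputable def leftIso (P Q : C) : L.obj (P ⊗ Q) ≅ L.obj (P ⊗ U.obj (L.obj Q)) :=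
  have := InvertsUnits.left (adj := adj) P Q
  asIso (L.map (P ◁ adj.unit.app Q))

/-- The reflector is monoidal. -/
noncomputable def tensorIso (P Q : C) : L.obj (P ⊗ Q) ≅ tobj L U (L.obj P) (L.obj Q) :=
  rightIso adj P Q ≪≫ leftIso adj _ Q

lemma tensorIso_natural {P P' Q Q' : C} (f : P ⟶ P') (g : Q ⟶ Q') :
    L.map (f ⊗ₘ g) ≫ (tensorIso adj P' Q').hom =
      (tensorIso adj P Q).hom ≫ tm L U (L.map f) (L.map g) := by
  simp only [tensorIso, rightIso, leftIso, Iso.trans_hom, asIso_hom, tm, ← Functor.map_comp]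
  refine congrArg L.map ?_
  simp only [← tensorHom_id, ← id_tensorHom, tensorHom_comp_tensorHom, Category.id_comp,
    Category.comp_id]
  congr 1
  · simp
  · simp

/-- Associativity. -/
noncomputable def assoc (A B E : D) : tobj L U (tobj L U A B) E ≅ tobj L U A (tobj L U B E) :=
  (rightIso adj (U.obj A ⊗ U.obj B) (U.obj E)).symm ≪≫
    L.mapIso (α_ (U.obj A) (U.obj B) (U.obj E)) ≪≫ leftIso adj (U.obj A) (U.obj B ⊗ U.obj E)

lemma assoc_natural {A A' B B' E E' : D} (f : A ⟶ A') (g : B ⟶ B') (h : E ⟶ E') :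
    tm L U (tm L U f g) h ≫ (assoc adj A' B' E').hom =
      (assoc adj A B E).hom ≫ tm L U f (tm L U g h) := by
  rw [← cancel_epi (rightIso adj (U.obj A ⊗ U.obj B) (U.obj E)).hom]
  simp only [assoc, Iso.trans_hom, Iso.symm_hom, Iso.hom_inv_id_assoc, Category.assoc]
  have h1 : (rightIso adj (U.obj A ⊗ U.obj B) (U.obj E)).hom ≫ tm L U (tm L U f g) h =
      L.map ((U.map f ⊗ₘ U.map g) ⊗ₘ U.map h) ≫
        (rightIso adj (U.obj A' ⊗ U.obj B') (U.obj E')).hom := by
    simp only [rightIso, asIso_hom, tm, ← Functor.map_comp, ← tensorHom_id,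
      tensorHom_comp_tensorHom, Category.id_comp, Category.comp_id]
    congr 2
    exact (adj.unit.naturality (U.map f ⊗ₘ U.map g)).symm
  have h2 : L.map (U.map f ⊗ₘ (U.map g ⊗ₘ U.map h)) ≫
      (leftIso adj (U.obj A') (U.obj B' ⊗ U.obj E')).hom =
      (leftIso adj (U.obj A) (U.obj B ⊗ U.obj E)).hom ≫ tm L U f (tm L U g h) := by
    simp only [leftIso, asIso_hom, tm, ← Functor.map_comp, ← id_tensorHom,
      tensorHom_comp_tensorHom, Category.id_comp, Category.comp_id]
    congr 2
    exact adj.unit.naturality (U.map g ⊗ₘ U.map h)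
  rw [reassoc_of% h1, Iso.hom_inv_id_assoc, ← h2, Functor.mapIso_hom, Functor.mapIso_hom]
  rw [← Category.assoc, ← Functor.map_comp, associator_naturality, Functor.map_comp,
    Category.assoc]

variable [IsIso adj.counit] {I : D} (eI : U.obj I ≅ 𝟙_ C)

/-- Left unit. -/
noncomputable def leftUnit (A : D) : tobj L U I A ≅ A :=
  L.mapIso ((eI ⊗ᵢ Iso.refl (U.obj A)) ≪≫ λ_ (U.obj A)) ≪≫ (asIso adj.counit).app A

lemma leftUnit_natural {A B : D} (f : A ⟶ B) :
    tm L U (𝟙 I) f ≫ (leftUnit adj eI B).hom = (leftUnit adj eI A).hom ≫ f := by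
  have h : adj.counit.app A ≫ f = L.map (U.map f) ≫ adj.counit.app B :=
    (adj.counit.naturality f).symm
  simp only [leftUnit, Iso.trans_hom, Category.assoc, Iso.app_hom, asIso_hom, tm,
    Functor.mapIso_hom, h, ← Functor.map_comp_assoc]
  congr 2
  rw [tensorIso_hom, tensorIso_hom, Iso.refl_hom, Iso.refl_hom, U.map_id,
    tensorHom_comp_tensorHom_assoc, Category.id_comp, Category.comp_id,
    ← leftUnitor_naturality, ← id_tensorHom, tensorHom_comp_tensorHom_assoc, Category.comp_id,
    Category.id_comp]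

/-- Right unit. -/
noncomputable def rightUnit [BraidedCategory C] (A : D) : tobj L U A I ≅ A :=
  comm A I ≪≫ leftUnit adj eI A

lemma rightUnit_natural [BraidedCategory C] {A B : D} (f : A ⟶ B) :
    tm L U f (𝟙 I) ≫ (rightUnit adj eI B).hom = (rightUnit adj eI A).hom ≫ f := by
  simp only [rightUnit, Iso.trans_hom, Category.assoc]
  rw [reassoc_of% comm_natural f (𝟙 I), leftUnit_natural]

end Groth.Agent.Lib.TensorMod.Reflective
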