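import Groth.Prelude.Def_CohB1
import Groth.Agent.Lib.TensorMod.Whisker
import Groth.Agent.Lib.TensorMod.Reflective

/-!
The tensor product of modules over a scheme: functoriality, symmetry, associativity, unit.
-/

universe u

open CategoryTheory CategoryTheory.Limits AlgebraicGeometry MonoidalCategory Opposite

namespace Groth.Agent.Lib.TensorMod.Basic

variable {X : Scheme.{u}}

open Groth.Agent.Lib.TensorMod.Whisker (res pair)

/-- Sheafification, typed on presheaves of modules with their monoidal structure. -/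
noncomputable abbrev sh (X : Scheme.{u}) : CohB1.PMod X ⥤ X.Modules := CohB1.sheafifyMod X

/-- The forgetful functor, typed on presheaves of modules with their monoidal structure. -/
noncomputable abbrev fgt (X : Scheme.{u}) : X.Modules ⥤ CohB1.PMod X :=
  Scheme.Modules.toPresheafOfModules X

/-- Sheafification is left adjoint to the forgetful functor. -/
noncomputable def adj (X : Scheme.{u}) : sh X ⊣ fgt X :=
  PresheafOfModules.sheafificationAdjunction.{u} (R := X.ringCatSheaf) (𝟙 X.ringCatSheaf.obj)

lemma isSheaf_fgt (M : X.Modules) :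
    Presheaf.IsSheaf (Opens.grothendieckTopology X) ((fgt X).obj M).presheaf :=
  M.isSheaf

/-- A morphism of presheaves of modules is locally bijective. -/
def IsLocBij {P Q : CohB1.PMod X} (f : P ⟶ Q) : Prop :=
  Presheaf.IsLocallyInjective (Opens.grothendieckTopology X)
      ((PresheafOfModules.toPresheaf _).map f) ∧
    Presheaf.IsLocallySurjective (Opens.grothendieckTopology X)
      ((PresheafOfModules.toPresheaf _).map f)

lemma isLocBij_unit (P : CohB1.PMod X) : IsLocBij ((adj X).unit.app P) := by
  constructor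
  · exact inferInstanceAs (Presheaf.IsLocallyInjective _
      (CategoryTheory.toSheafify (Opens.grothendieckTopology X) P.presheaf))
  · exact inferInstanceAs (Presheaf.IsLocallySurjective _
      (CategoryTheory.toSheafify (Opens.grothendieckTopology X) P.presheaf))

lemma isIso_sh_map_of_bijective {P Q : CohB1.PMod X} (f : P ⟶ Q)
    (hf : ∀ H : X.Modules, Function.Bijective fun g : Q ⟶ (fgt X).obj H => f ≫ g) :
    IsIso ((sh X).map f) := by
  refine isIso_iff_coyoneda_map_bijective _ |>.2 fun H => ?_
  have h : (fun g : (sh X).obj Q ⟶ H => (sh X).map f ≫ g) =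
      ((adj X).homEquiv P H).symm ∘ (fun g => f ≫ g) ∘ ((adj X).homEquiv Q H) := by
    funext g
    simp only [Function.comp_apply]
    rw [Adjunction.homEquiv_naturality_left_symm, Equiv.symm_apply_apply]
  change Function.Bijective fun g : (sh X).obj Q ⟶ H => (sh X).map f ≫ g
  rw [h]
  exact ((adj X).homEquiv P H).symm.bijective.comp
    ((hf H).comp ((adj X).homEquiv Q H).bijective)

lemma isIso_sh_map {P Q : CohB1.PMod X} (f : P ⟶ Q) (hf : IsLocBij f) :
    IsIso ((sh X).map f) := by
  have := hf.1
  have := hf.2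
  have hW : (Opens.grothendieckTopology X).W ((PresheafOfModules.toPresheaf _).map f) :=
    GrothendieckTopology.W_of_isLocallyBijective _ _
  exact Localization.inverts
    (PresheafOfModules.sheafification.{u} (R := X.ringCatSheaf) (𝟙 X.ringCatSheaf.obj))
    ((Opens.grothendieckTopology X).W.inverseImage
      (PresheafOfModules.toPresheaf X.ringCatSheaf.obj)) f hW

lemma isIso_sh_map_whiskerLeft (M : CohB1.PMod X) {P Q : CohB1.PMod X} (f : P ⟶ Q)
    (hf : IsLocBij f) : IsIso ((sh X).map (M ◁ f)) := by
  have := hf.1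
  have := hf.2
  exact isIso_sh_map_of_bijective _ fun H =>
    Whisker.comp_whiskerLeft_bijective f (isSheaf_fgt H)

lemma isIso_sh_map_whiskerRight {P Q : CohB1.PMod X} (f : P ⟶ Q) (hf : IsLocBij f)
    (M : CohB1.PMod X) : IsIso ((sh X).map (f ▷ M)) := by
  have := isIso_sh_map_whiskerLeft M f hf
  have e : f ▷ M = (β_ P M).hom ≫ M ◁ f ≫ (β_ Q M).inv := by
    rw [← BraidedCategory.braiding_naturality_left_assoc]
    simp
  rw [e, Functor.map_comp, Functor.map_comp]
  infer_instance

instance invertsUnits_adj (X : Scheme.{u}) : Reflective.InvertsUnits (adj X) where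
  right P Q := isIso_sh_map_whiskerRight _ (isLocBij_unit P) Q
  left P Q := isIso_sh_map_whiskerLeft P _ (isLocBij_unit Q)

instance isIso_counit_adj (X : Scheme.{u}) : IsIso (adj X).counit :=
  inferInstanceAs (IsIso (PresheafOfModules.sheafificationAdjunction.{u}
    (R := X.ringCatSheaf) (𝟙 X.ringCatSheaf.obj)).counit)

/-- The tensor product of two morphisms of modules. -/
noncomputable def tmap {M M' N N' : X.Modules} (f : M ⟶ M') (g : N ⟶ N') :
    CohB1.tensorMod M N ⟶ CohB1.tensorMod M' N' :=
  Reflective.tm (sh X) (fgt X) f g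

@[simp]
lemma tmap_id (M N : X.Modules) : tmap (𝟙 M) (𝟙 N) = 𝟙 (CohB1.tensorMod M N) :=
  Reflective.tm_id (L := sh X) (U := fgt X) M N

@[reassoc]
lemma tmap_comp {M M' M'' N N' N'' : X.Modules} (f : M ⟶ M') (f' : M' ⟶ M'') (g : N ⟶ N')
    (g' : N' ⟶ N'') : tmap (f ≫ f') (g ≫ g') = tmap f g ≫ tmap f' g' :=
  Reflective.tm_comp (L := sh X) (U := fgt X) f f' g g'

/-- The tensor product of two isomorphisms of modules. -/
noncomputable def tensorIso {M M' N N' : X.Modules} (e : M ≅ M') (f : N ≅ N') :
    CohB1.tensorMod M N ≅ CohB1.tensorMod M' N' where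
  hom := tmap e.hom f.hom
  inv := tmap e.inv f.inv
  hom_inv_id := by rw [← tmap_comp, e.hom_inv_id, f.hom_inv_id, tmap_id]
  inv_hom_id := by rw [← tmap_comp, e.inv_hom_id, f.inv_hom_id, tmap_id]

variable (X) in
/-- The tensor product, as a bifunctor: `(M, N) ↦ CohB1.tensorMod M N`. -/
noncomputable def tensorFunctor : X.Modules ⥤ X.Modules ⥤ X.Modules :=
  Reflective.bifunctor (sh X) (fgt X)

/-- `M ↦ M ⊗ N` for a fixed `N`. -/
noncomputable abbrev tensorBy (N : X.Modules) : X.Modules ⥤ X.Modules :=
  (tensorFunctor X).flip.obj N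

/-- Symmetry of the tensor product. -/
noncomputable def comm (M N : X.Modules) : CohB1.tensorMod M N ≅ CohB1.tensorMod N M :=
  Reflective.comm (L := sh X) (U := fgt X) M N

@[reassoc]
lemma comm_natural {M M' N N' : X.Modules} (f : M ⟶ M') (g : N ⟶ N') :
    tmap f g ≫ (comm M' N').hom = (comm M N).hom ≫ tmap g f :=
  Reflective.comm_natural (L := sh X) (U := fgt X) f g

/-- Sheafification is monoidal: `a (P ⊗ Q) ≅ a P ⊗ a Q`. -/
noncomputable def shTensorIso (P Q : CohB1.PMod X) :
    (sh X).obj (P ⊗ Q) ≅ CohB1.tensorMod ((sh X).obj P) ((sh X).obj Q) :=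
  Reflective.tensorIso (adj X) P Q

lemma shTensorIso_natural {P P' Q Q' : CohB1.PMod X} (f : P ⟶ P') (g : Q ⟶ Q') :
    (sh X).map (f ⊗ₘ g) ≫ (shTensorIso P' Q').hom =
      (shTensorIso P Q).hom ≫ tmap ((sh X).map f) ((sh X).map g) :=
  Reflective.tensorIso_natural (adj X) f g

/-- Associativity of the tensor product. -/
noncomputable def assoc (L M N : X.Modules) :
    CohB1.tensorMod (CohB1.tensorMod L M) N ≅ CohB1.tensorMod L (CohB1.tensorMod M N) :=
  Reflective.assoc (adj X) L M N

@[reassoc]
lemma assoc_natural {L L' M M' N N' : X.Modules} (f : L ⟶ L') (g : M ⟶ M') (h : N ⟶ N') :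
    tmap (tmap f g) h ≫ (assoc L' M' N').hom = (assoc L M N).hom ≫ tmap f (tmap g h) :=
  Reflective.assoc_natural (adj X) f g h

/-- The underlying presheaf of modules of the structure sheaf is the monoidal unit. -/
noncomputable def fgtStructureIso (X : Scheme.{u}) :
    (fgt X).obj (Coh.structureModule X) ≅ 𝟙_ (CohB1.PMod X) :=
  Iso.refl _

/-- `O ⊗ M ≅ M`. -/
noncomputable def leftUnit (M : X.Modules) : CohB1.tensorMod (Coh.structureModule X) M ≅ M :=
  Reflective.leftUnit (adj X) (fgtStructureIso X) M

/-- `M ⊗ O ≅ M`. -/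
noncomputable def rightUnit (M : X.Modules) : CohB1.tensorMod M (Coh.structureModule X) ≅ M :=
  Reflective.rightUnit (adj X) (fgtStructureIso X) M

@[reassoc]
lemma leftUnit_natural {M N : X.Modules} (f : M ⟶ N) :
    tmap (𝟙 _) f ≫ (leftUnit N).hom = (leftUnit M).hom ≫ f :=
  Reflective.leftUnit_natural (adj X) (fgtStructureIso X) f

@[reassoc]
lemma rightUnit_natural {M N : X.Modules} (f : M ⟶ N) :
    tmap f (𝟙 _) ≫ (rightUnit N).hom = (rightUnit M).hom ≫ f :=
  Reflective.rightUnit_natural (adj X) (fgtStructureIso X) f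

end Groth.Agent.Lib.TensorMod.Basic
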