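import Groth.Agent.Lib.TensorMod.FPCrit
import Mathlib.Algebra.Category.ModuleCat.Biproducts
import Mathlib.RingTheory.LocalRing.Module

/-!
Finite locally free modules are finitely presented with free stalks.
-/

universe u

open CategoryTheory CategoryTheory.Limits AlgebraicGeometry Opposite TopologicalSpace

namespace Groth.Agent.Lib.TensorMod.FPConv

open Groth.Agent.Lib

variable {X : Scheme.{u}} {M : X.Modules}

/-- The free module of rank `n` on an affine spectrum is a tilde. -/
lemma exists_tilde_iso_freeMod (R : CommRingCat.{u}) (n : ℕ) :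
    ∃ N : ModuleCat.{u} R, Module.FinitePresentation R N ∧ Module.Projective R N ∧
      Nonempty (FlatMod.freeMod (Spec R) n ≅ tilde N) := by
  let f : Fin n → ModuleCat.{u} R := fun _ => ModuleCat.of R R
  let e : (∐ f) ≅ ModuleCat.of R (Fin n → R) :=
    (biproduct.isoCoproduct f).symm ≪≫ ModuleCat.biproductIsoPi f
  have : PreservesColimitsOfSize.{u, u} (tilde.functor R) :=
    (tilde.adjunction (R := R)).leftAdjoint_preservesColimits
  have : PreservesColimitsOfSize.{0, 0} (tilde.functor R) :=
    preservesSmallestColimits_of_preservesColimits _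
  let i : Coh.structureModule (Spec R) ≅ (tilde.functor R).obj (ModuleCat.of R R) :=
    (tildeSelf (R := R)).symm
  let j : FlatMod.freeMod (Spec R) n ≅ (tilde.functor R).obj (∐ f) :=
    Sigma.mapIso (fun _ => i) ≪≫ (PreservesCoproduct.iso (tilde.functor R) f).symm
  exact ⟨ModuleCat.of R (Fin n → R), inferInstanceAs (Module.FinitePresentation R (Fin n → R)),
    inferInstanceAs (Module.Projective R (Fin n → R)), ⟨j ≪≫ (tilde.functor R).mapIso e⟩⟩

/-- Finite locally free modules are finitely presented. -/
theorem isFP_of_isFinLocFree (hM : FlatMod.IsFinLocFree M) : CohB1.IsFP M := by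
  refine Kaehler.LocalPres.isFP_of_cover fun x => ?_
  obtain ⟨U, n, hxU, ⟨i⟩⟩ := hM x
  obtain ⟨V, hV, hxV, hVU⟩ := exists_isAffineOpen_mem_and_subset hxU
  obtain ⟨j⟩ := LocFree.exists_restrict_iso_freeMod (show V ≤ U from hVU) i
  obtain ⟨N, hN, -, ⟨k⟩⟩ := exists_tilde_iso_freeMod Γ(X, V) n
  exact ⟨V, hV, hxV, N, hN, ⟨(Scheme.Modules.restrictFunctorCongr
    (show hV.fromSpec = hV.isoSpec.inv ≫ V.ι from hV.isoSpec_inv_ι.symm)).app M ≪≫
    (Scheme.Modules.restrictFunctorComp hV.isoSpec.inv V.ι).app M ≪≫
    (Scheme.Modules.restrictFunctor hV.isoSpec.inv).mapIso j ≪≫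
    LocFree.restrictFreeModIso hV.isoSpec.inv n ≪≫ k⟩⟩

/-- Freeness of stalks descends from restrictions. -/
theorem free_stalk_of_restrict {Y : Scheme.{u}} (f : Y ⟶ X) [IsOpenImmersion f] (M : X.Modules)
    (y : Y) [Module.Free (Y.presheaf.stalk y) ((M.restrict f).presheaf.stalk y)] :
    Module.Free (X.presheaf.stalk (f y)) (M.presheaf.stalk (f y)) := by
  let e := Modules.StalkRestrict.restrictStalkAddEquiv f M y
  let b := Module.Free.chooseBasis (Y.presheaf.stalk y) ((M.restrict f).presheaf.stalk y)
  have hσ := ConcreteCategory.bijective_of_isIso (f.stalkMap y)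
  refine Module.Free.of_basis (Module.Basis.mk (v := fun i => e (b i)) ?_ ?_)
  · rw [linearIndependent_iff']
    intro t a ha i hi
    have h : ∑ j ∈ t, f.stalkMap y (a j) • b j = 0 := by
      apply e.injective
      rw [map_zero, map_sum, ← ha]
      exact Finset.sum_congr rfl fun j _ => Modules.StalkRestrict.restrictStalkAddEquiv_smul f M y _ _
    refine hσ.1 ?_
    rw [linearIndependent_iff'.1 b.linearIndependent t _ h i hi, map_zero]
  · intro w _
    rw [← e.apply_symm_apply w]
    have hw : e.symm w ∈ Submodule.span (Y.presheaf.stalk y) (Set.range b) :=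
      b.span_eq.ge Submodule.mem_top
    generalize e.symm w = u at hw
    induction hw using Submodule.span_induction with
    | mem _ h => obtain ⟨i, rfl⟩ := h; exact Submodule.subset_span ⟨i, rfl⟩
    | zero => rw [map_zero]; exact zero_mem _
    | add _ _ _ _ h1 h2 => rw [map_add]; exact add_mem h1 h2
    | smul a _ _ h =>
      obtain ⟨a, rfl⟩ := hσ.2 a
      rw [Modules.StalkRestrict.restrictStalkAddEquiv_smul]
      exact Submodule.smul_mem _ _ h

/-- Stalks of finite locally free modules are free. -/
theorem free_stalk_of_isFinLocFree (hM : FlatMod.IsFinLocFree M) (x : X) :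
    Module.Free (X.presheaf.stalk x) (M.presheaf.stalk x) := by
  obtain ⟨U, n, hxU, ⟨i⟩⟩ := hM x
  let y : (U : Scheme.{u}) := ⟨x, hxU⟩
  have : Module.Free ((U : Scheme.{u}).presheaf.stalk y)
      ((M.restrict U.ι).presheaf.stalk y) :=
    Module.Free.of_basis ((Modules.FreeStalk.stalkBasis (U : Scheme.{u}) n y).map
      (Modules.StalkModule.stalkLinearEquiv i.symm y))
  exact free_stalk_of_restrict U.ι M y

theorem isFlat_of_isFinLocFree (hM : FlatMod.IsFinLocFree M) : FlatMod.IsFlat M := fun x =>
  haveI := free_stalk_of_isFinLocFree hM x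
  inferInstanceAs (Module.Flat (X.presheaf.stalk x) (M.presheaf.stalk x))

/-- A flat finitely presented module has free stalks. -/
theorem free_stalk_of_flat [SheafOfModules.IsFinitePresentation (R := X.ringCatSheaf) M]
    [SheafOfModules.IsFiniteType (R := X.ringCatSheaf) M]
    (h : FlatMod.IsFlat M) (x : X) : Module.Free (X.presheaf.stalk x) (M.presheaf.stalk x) :=
  haveI := Modules.GenStalk.finite_stalk M x
  haveI : Module.Flat (X.presheaf.stalk x) (M.presheaf.stalk x) := h x
  Module.free_of_flat_of_isLocalRing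

end Groth.Agent.Lib.TensorMod.FPConv
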