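import Groth.Agent.Lib.TensorMod.FinsetTriv
import Mathlib.AlgebraicGeometry.Morphisms.Finite
import Mathlib.AlgebraicGeometry.Morphisms.Proper
import Mathlib.AlgebraicGeometry.Morphisms.QuasiFinite

/-!
Locally free modules are free near a fibre of a finite morphism.
-/

universe u

open CategoryTheory CategoryTheory.Limits AlgebraicGeometry Opposite TopologicalSpace

namespace Groth.Agent.Lib.TensorMod.FibreTriv

variable {X Y : Scheme.{u}}

/-- An open containing a fibre of a closed map contains the preimage of a neighbourhood. -/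
lemma exists_preimage_le (π : X ⟶ Y) (hπ : IsClosedMap π) {y : Y} {O : X.Opens}
    (h : ∀ x, π x = y → x ∈ O) : ∃ V : Y.Opens, y ∈ V ∧ π ⁻¹ᵁ V ≤ O := by
  refine ⟨⟨(π '' (O : Set X)ᶜ)ᶜ, (hπ _ O.2.isClosed_compl).isOpen_compl⟩, ?_, fun x hx => ?_⟩
  · rintro ⟨x, hx, rfl⟩
    exact hx (h x rfl)
  · by_contra hxO
    exact hx ⟨x, hxO, rfl⟩

/-- A module locally free of rank `n` is free over the preimage of a neighbourhood of any point
under a finite morphism. -/
theorem exists_free_preimage (π : X ⟶ Y) [IsFinite π] {n : ℕ} {M : X.Modules}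
    (hM : FlatMod.IsFinLocFreeOfRank n M) (y : Y) :
    ∃ V : Y.Opens, y ∈ V ∧ Nonempty (M.restrict (π ⁻¹ᵁ V).ι ≅ FlatMod.freeMod (↑(π ⁻¹ᵁ V)) n) := by
  obtain ⟨W, hW, hyW, -⟩ := exists_isAffineOpen_mem_and_subset (Opens.mem_top y)
  have hU : IsAffineOpen (π ⁻¹ᵁ W) := hW.preimage π
  have hfib : π ⁻¹' {y} ⊆ (↑(π ⁻¹ᵁ W) : Set X) := fun x (hx : π x = y) =>
    show π x ∈ W from hx ▸ hyW
  obtain ⟨g, e, hg, -, he⟩ := FinsetTriv.exists_basis_basicOpen hU hM
    (T := π ⁻¹' {y}) (π.finite_preimage_singleton y) hfib hfib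
  obtain ⟨V, hyV, hV⟩ := exists_preimage_le π π.isClosedMap (O := X.basicOpen g) fun x hx => hg hx
  exact ⟨V, hyV, Basis.exists_iso_of_basis (he.res hV)⟩

end Groth.Agent.Lib.TensorMod.FibreTriv
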