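import Groth.Agent.Lib.TensorMod.Colimit
import Mathlib.Algebra.Category.ModuleCat.Adjunctions

/-!
Modules freely generated by a section over an open, and their tensor products.
-/

universe u

open CategoryTheory CategoryTheory.Limits AlgebraicGeometry MonoidalCategory Opposite

namespace Groth.Agent.Lib.TensorMod.Free

open Basic Colimit
open Groth.Agent.Lib.TensorMod.Whisker (res pair res_res res_app res_pair pair_ext)

section Generic

variable {C : Type u} [SmallCategory C] {R : Cᵒᵖ ⥤ CommRingCat.{u}}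

/-- The free presheaf of modules on a representable. -/
noncomputable abbrev freeY (R : Cᵒᵖ ⥤ CommRingCat.{u}) (U : C) : Whisker.PM R :=
  (PresheafOfModules.free (R ⋙ forget₂ CommRingCat RingCat)).obj (yoneda.obj U)

set_option backward.isDefEq.respectTransparency false in
lemma symm_app_freeMk {P : Whisker.PM R} {U W : C} (i : W ⟶ U) (x : P.obj (op U)) :
    ((PresheafOfModules.freeYonedaEquiv (X := U)).symm x).app (op W) (ModuleCat.freeMk i) =
      res P i.op x := by
  simp [PresheafOfModules.freeYonedaEquiv, PresheafOfModules.freeHomEquiv, yonedaEquiv, res]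
  exact ModuleCat.freeDesc_apply _ i

lemma freeYonedaEquiv_id_eq (U : C) :
    PresheafOfModules.freeYonedaEquiv (𝟙 (freeY R U)) = ModuleCat.freeMk (𝟙 U) := rfl

set_option backward.isDefEq.respectTransparency false in
lemma res_freeMk {U W : C} (i : W ⟶ U) :
    res (freeY R U) i.op (ModuleCat.freeMk (𝟙 U)) = ModuleCat.freeMk i := by
  have h := symm_app_freeMk (P := freeY R U) i (ModuleCat.freeMk (𝟙 U))
  rw [← freeYonedaEquiv_id_eq, Equiv.symm_apply_apply] at h
  exact h.symm

lemma homEquiv_eq {D : Type*} [Category* D] {L : Whisker.PM R ⥤ D} {U' : D ⥤ Whisker.PM R}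
    (adj : L ⊣ U') {P : Whisker.PM R} {H : D} (φ : L.obj P ⟶ H) :
    adj.homEquiv P H φ = 𝟙 P ≫ adj.unit.app P ≫ U'.map φ := by
  rw [Category.id_comp, Adjunction.homEquiv_unit]

lemma homEquiv_comp_tensorIso {D : Type*} [Category* D] {L : Whisker.PM R ⥤ D}
    {U' : D ⥤ Whisker.PM R} (adj : L ⊣ U') [Reflective.InvertsUnits adj] {P Q : Whisker.PM R}
    {H : D} (ψ : Reflective.tobj L U' (L.obj P) (L.obj Q) ⟶ H) :
    adj.homEquiv _ H ((Reflective.tensorIso adj P Q).hom ≫ ψ) =
      (adj.unit.app P ⊗ₘ adj.unit.app Q) ≫ adj.homEquiv _ H ψ := by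
  rw [Reflective.tensorIso, Iso.trans_hom, Category.assoc, Reflective.rightIso,
    Reflective.leftIso, asIso_hom, asIso_hom, Adjunction.homEquiv_naturality_left,
    Adjunction.homEquiv_naturality_left, ← Category.assoc]
  exact congrArg (· ≫ _) (tensorHom_def _ _).symm

end Generic

variable {X : Scheme.{u}}

/-- The value of a morphism out of `M ⊗ N` on the pure tensor of two sections. -/
noncomputable def pairM {M N H : X.Modules} (g : CohB1.tensorMod M N ⟶ H) {U : X.Opens}
    (m : Γ(M, U)) (n : Γ(N, U)) : Γ(H, U) :=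
  pair (M := (fgt X).obj M) (P := (fgt X).obj N) (H := (fgt X).obj H) (X := op U)
    ((adj X).homEquiv _ H g) m n

/-- Morphisms out of a tensor product are determined on pure tensors. -/
lemma hom_ext_pairM {M N H : X.Modules} {g g' : CohB1.tensorMod M N ⟶ H}
    (h : ∀ (U : X.Opens) (m : Γ(M, U)) (n : Γ(N, U)), pairM g m n = pairM g' m n) : g = g' :=
  ((adj X).homEquiv _ H).injective (pair_ext fun W m n => h W.unop m n)

lemma pairM_comp {M N H H' : X.Modules} (g : CohB1.tensorMod M N ⟶ H) (k : H ⟶ H')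
    {U : X.Opens} (m : Γ(M, U)) (n : Γ(N, U)) :
    pairM (g ≫ k) m n = k.app U (pairM g m n) := by
  have h : (adj X).homEquiv (CohB1.tensorPre M N) H' (g ≫ k) =
      (adj X).homEquiv (CohB1.tensorPre M N) H g ≫ (fgt X).map k :=
    (adj X).homEquiv_naturality_right g k
  exact congrArg (fun t => pair (M := (fgt X).obj M) (P := (fgt X).obj N) (X := op U) t m n) h

lemma pairM_tmap_comp {M M' N N' H : X.Modules} (a : M ⟶ M') (b : N ⟶ N')
    (g : CohB1.tensorMod M' N' ⟶ H) {U : X.Opens} (m : Γ(M, U)) (n : Γ(N, U)) :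
    pairM (tmap a b ≫ g) m n = pairM g (a.app U m) (b.app U n) := by
  have h : (adj X).homEquiv (CohB1.tensorPre M N) H (tmap a b ≫ g) =
      ((fgt X).map a ⊗ₘ (fgt X).map b) ≫ (adj X).homEquiv (CohB1.tensorPre M' N') H g :=
    (adj X).homEquiv_naturality_left _ g
  exact congrArg (fun t => pair (M := (fgt X).obj M) (P := (fgt X).obj N) (X := op U) t m n) h

lemma pairM_tmap {M M' N N' : X.Modules} (a : M ⟶ M') (b : N ⟶ N')
    {U : X.Opens} (m : Γ(M, U)) (n : Γ(N, U)) :
    pairM (tmap a b) m n = pairM (𝟙 _) (a.app U m) (b.app U n) := by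
  rw [← pairM_tmap_comp a b (𝟙 _), Category.comp_id]

/-- A module with a section over `U` that freely generates it. -/
def IsFreeOn (M : X.Modules) (U : X.Opens) (e : Γ(M, U)) : Prop :=
  ∀ H : X.Modules, Function.Bijective fun φ : M ⟶ H => φ.app U e

/-- The tautological section of the free presheaf on `U`. -/
noncomputable def gen (U : X.Opens) : (freeGen U).obj (op U) :=
  PresheafOfModules.freeYonedaEquiv (𝟙 (freeGen U))

/-- The module freely generated by a section over `U`. -/
noncomputable def freeOn (U : X.Opens) : X.Modules := (sh X).obj (freeGen U)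

/-- The tautological section of the module freely generated over `U`. -/
noncomputable def genSec (U : X.Opens) : Γ(freeOn U, U) :=
  (((adj X).unit.app (freeGen U)).app (op U)).hom (gen U)

lemma isFreeOn_freeOn (U : X.Opens) : IsFreeOn (freeOn U) U (genSec U) := by
  intro H
  have h : (fun φ : freeOn U ⟶ H => φ.app U (genSec U)) =
      PresheafOfModules.freeYonedaEquiv ∘ ((adj X).homEquiv (freeGen U) H) := by
    funext φ
    exact ((congrArg PresheafOfModules.freeYonedaEquiv (homEquiv_eq (adj X) φ)).trans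
      (PresheafOfModules.freeYonedaEquiv_comp _ _)).symm
  rw [h]
  exact (Equiv.bijective PresheafOfModules.freeYonedaEquiv).comp ((adj X).homEquiv _ H).bijective

lemma IsFreeOn.exists_iso {M : X.Modules} {U : X.Opens} {e : Γ(M, U)} (h : IsFreeOn M U e) :
    ∃ i : freeOn U ≅ M, i.hom.app U (genSec U) = e := by
  obtain ⟨a, ha⟩ := (isFreeOn_freeOn U M).2 e
  obtain ⟨b, hb⟩ := (h (freeOn U)).2 (genSec U)
  refine ⟨⟨a, b, (isFreeOn_freeOn U _).1 ?_, (h _).1 ?_⟩, ha⟩
  · change b.app U (a.app U (genSec U)) = genSec U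
    exact (congrArg (b.app U) ha).trans hb
  · change a.app U (b.app U e) = e
    exact (congrArg (a.app U) hb).trans ha

variable (U V : X.Opens)

/-- The restrictions of the two tautological sections to the intersection, tensored. -/
noncomputable def genTensor : (freeGen U ⊗ freeGen V).obj (op (U ⊓ V)) :=
  res (freeGen U) (homOfLE inf_le_left).op (gen U) ⊗ₜ[X.sheaf.obj.obj (op (U ⊓ V))]
    res (freeGen V) (homOfLE inf_le_right).op (gen V)

/-- `free (U ⊓ V) ⟶ free U ⊗ free V`. -/
noncomputable def genTensorMap : freeGen (U ⊓ V) ⟶ freeGen U ⊗ freeGen V :=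
  PresheafOfModules.freeYonedaEquiv.symm (genTensor U V)

lemma res_gen {W : X.Opens} (i : W ⟶ U) :
    res (freeGen U) i.op (gen U) = ModuleCat.freeMk i :=
  res_freeMk (R := X.sheaf.obj) i

lemma freeYonedaEquiv_symm_app_freeMk {P : CohB1.PMod X} (x : P.obj (op U))
    {W : X.Opens} (i : W ⟶ U) :
    ((PresheafOfModules.freeYonedaEquiv (X := U)).symm x).app (op W) (ModuleCat.freeMk i) =
      res P i.op x :=
  symm_app_freeMk (R := X.sheaf.obj) i x

lemma isIso_genTensorMap : IsIso (genTensorMap U V) := by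
  have key : ∀ W : (TopologicalSpace.Opens X)ᵒᵖ, IsIso ((genTensorMap U V).app W) := by
    intro W
    let R := X.sheaf.obj.obj W
    let σ : (W.unop ⟶ U ⊓ V) ≃ (W.unop ⟶ U) × (W.unop ⟶ V) :=
      { toFun := fun i => (i ≫ homOfLE inf_le_left, i ≫ homOfLE inf_le_right)
        invFun := fun p => homOfLE (le_inf p.1.le p.2.le)
        left_inv := fun _ => Subsingleton.elim _ _
        right_inv := fun _ => Subsingleton.elim _ _ }
    let e := (ModuleCat.free R).mapIso σ.toIso ≪≫
      (ModuleCat.FreeMonoidal.μIso R (W.unop ⟶ U) (W.unop ⟶ V)).symm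
    have h : (genTensorMap U V).app W = e.hom := by
      refine ModuleCat.free_hom_ext fun i => ?_
      refine (freeYonedaEquiv_symm_app_freeMk (U ⊓ V) (genTensor U V) i).trans ?_
      refine Eq.trans ?_ (ModuleCat.FreeMonoidal.μIso_inv_freeMk (R := R) (σ i)).symm |>.trans
        (congrArg _ (ModuleCat.free_map_apply (↾(⇑σ)) i).symm)
      have h1 : res (freeGen U) (Quiver.Hom.op i) (res (freeGen U) (homOfLE inf_le_left).op (gen U)) =
          ModuleCat.freeMk (σ i).1 :=
        (res_res (freeGen U) _ _ _).trans (res_gen U (i ≫ homOfLE inf_le_left))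
      have h2 : res (freeGen V) (Quiver.Hom.op i) (res (freeGen V) (homOfLE inf_le_right).op (gen V)) =
          ModuleCat.freeMk (σ i).2 :=
        (res_res (freeGen V) _ _ _).trans (res_gen V (i ≫ homOfLE inf_le_right))
      exact congrArg₂ (fun a b => a ⊗ₜ[R] b) h1 h2
    rw [h]
    exact e.isIso_hom
  exact (PresheafOfModules.isoMk (fun W => @asIso _ _ _ _ _ (key W))
    (fun _ _ f => (genTensorMap U V).naturality f)).isIso_hom

lemma bijective_pair_genTensor (P : CohB1.PMod X) :
    Function.Bijective fun g : freeGen U ⊗ freeGen V ⟶ P =>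
      pair g (res (freeGen U) (homOfLE inf_le_left).op (gen U))
        (res (freeGen V) (homOfLE inf_le_right).op (gen V)) := by
  have := isIso_genTensorMap U V
  have h : (fun g : freeGen U ⊗ freeGen V ⟶ P =>
      pair g (res (freeGen U) (homOfLE inf_le_left).op (gen U))
        (res (freeGen V) (homOfLE inf_le_right).op (gen V))) =
      PresheafOfModules.freeYonedaEquiv ∘ (asIso (genTensorMap U V)).symm.homFromEquiv := by
    funext g
    change _ = PresheafOfModules.freeYonedaEquiv (genTensorMap U V ≫ g)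
    refine Eq.trans ?_ (PresheafOfModules.freeYonedaEquiv_comp (genTensorMap U V) g).symm
    exact congrArg (g.app (op (U ⊓ V))).hom
      (PresheafOfModules.freeYonedaEquiv.apply_symm_apply (genTensor U V)).symm
  rw [h]
  exact (Equiv.bijective _).comp (Equiv.bijective _)

variable {U V}

lemma app_map {M N : X.Modules} (φ : M ⟶ N) (i : U ⟶ V) (m : Γ(M, V)) :
    φ.app U (M.presheaf.map i.op m) = N.presheaf.map i.op (φ.app V m) :=
  PresheafOfModules.naturality_apply φ.val i.op m

/-- The tensor product of modules free on `U` and on `V` is free on `U ⊓ V`. -/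
lemma IsFreeOn.tensor {M N : X.Modules} {e : Γ(M, U)} {e' : Γ(N, V)} (hM : IsFreeOn M U e)
    (hN : IsFreeOn N V e') :
    IsFreeOn (CohB1.tensorMod M N) (U ⊓ V)
      (pairM (𝟙 _) (M.presheaf.map (homOfLE inf_le_left).op e)
        (N.presheaf.map (homOfLE inf_le_right).op e')) := by
  intro H
  obtain ⟨i, rfl⟩ := hM.exists_iso
  obtain ⟨j, rfl⟩ := hN.exists_iso
  let F : (freeGen U ⊗ freeGen V ⟶ (fgt X).obj H) → Γ(H, U ⊓ V) := fun g =>
    pair g (res (freeGen U) (homOfLE inf_le_left).op (gen U))
      (res (freeGen V) (homOfLE inf_le_right).op (gen V))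
  have h1 : Function.Bijective F := bijective_pair_genTensor U V ((fgt X).obj H)
  let E : (CohB1.tensorMod M N ⟶ H) ≃ (freeGen U ⊗ freeGen V ⟶ (fgt X).obj H) :=
    (tensorIso i j).symm.homFromEquiv.trans
      ((shTensorIso (freeGen U) (freeGen V)).symm.homFromEquiv.trans ((adj X).homEquiv _ H))
  suffices h : ∀ φ : CohB1.tensorMod M N ⟶ H, φ.app (U ⊓ V) (pairM (𝟙 _)
      (M.presheaf.map (homOfLE inf_le_left).op (i.hom.app U (genSec U)))
      (N.presheaf.map (homOfLE inf_le_right).op (j.hom.app V (genSec V)))) = F (E φ) by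
    exact (funext h).symm ▸ h1.comp E.bijective
  intro φ
  rw [← pairM_comp, Category.id_comp, ← app_map, ← app_map, ← pairM_tmap_comp]
  have h2 : E φ = ((adj X).unit.app (freeGen U) ⊗ₘ (adj X).unit.app (freeGen V)) ≫
      (adj X).homEquiv (CohB1.tensorPre (freeOn U) (freeOn V)) H ((tensorIso i j).hom ≫ φ) :=
    homEquiv_comp_tensorIso (adj X) ((tensorIso i j).hom ≫ φ)
  rw [h2]
  exact congrArg₂ (fun a b => pair ((adj X).homEquiv _ H ((tensorIso i j).hom ≫ φ)) a b)
    (res_app ((adj X).unit.app (freeGen U)) _ _).symm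
    (res_app ((adj X).unit.app (freeGen V)) _ _).symm

end Groth.Agent.Lib.TensorMod.Free
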