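import Groth.Agent.Lib.TensorMod.FPConv
import Mathlib.RingTheory.OrzechProperty
import Mathlib.LinearAlgebra.Dimension.OrzechProperty
import Mathlib.Topology.LocallyConstant.Basic
import Mathlib.AlgebraicGeometry.Properties

/-!
Finite type modules with locally constant fibre rank.
-/

universe u

open CategoryTheory CategoryTheory.Limits AlgebraicGeometry Opposite TopologicalSpace
open scoped TensorProduct

namespace Groth.Agent.Lib.TensorMod.FTCrit

open Groth.Agent.Lib
open Groth.Agent.Lib.TensorMod.Dual

variable {X : Scheme.{u}} {M : X.Modules}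

/-- The rank of the fibre of `M` at a point. -/
noncomputable abbrev fibreRank (M : X.Modules) (x : X) : ℕ :=
  Module.finrank (IsLocalRing.ResidueField (X.presheaf.stalk x))
    (TensorProduct (X.presheaf.stalk x) (IsLocalRing.ResidueField (X.presheaf.stalk x))
      (M.presheaf.stalk x))

lemma linearIndependent_of_span {R N : Type*} [CommRing R] [Nontrivial R] [AddCommGroup N]
    [Module R N] [Module.Free R N] [Module.Finite R N] {n : ℕ} (v : Fin n → N)
    (hsp : Submodule.span R (Set.range v) = ⊤) (hn : Module.finrank R N = n) :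
    LinearIndependent R v := by
  subst hn
  let e := (Module.finBasis R N).equivFun
  let p := Fintype.linearCombination R v
  have hp : Function.Surjective p := by
    intro y
    obtain ⟨c, hc⟩ := (Submodule.mem_span_range_iff_exists_fun R).1
      (hsp.ge (Submodule.mem_top : y ∈ ⊤))
    exact ⟨c, by simpa [p, Fintype.linearCombination_apply] using hc⟩
  have h := OrzechProperty.injective_of_surjective_endomorphism (e.toLinearMap.comp p)
    (e.surjective.comp hp)
  rw [Fintype.linearIndependent_iff]
  intro c hc k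
  have h0 : p c = 0 := by simpa [p, Fintype.linearCombination_apply] using hc
  have : c = 0 := h (by simp [h0])
  rw [this]
  rfl

/-- Near every point, as many sections as the fibre rank span the stalks. -/
theorem exists_span_nhd [M.IsQuasicoherent]
    [SheafOfModules.IsFiniteType (R := X.ringCatSheaf) M] (x : X) :
    ∃ (W : X.Opens) (s : Fin (fibreRank M x) → Γ(M, W)), x ∈ W ∧ ∀ (y : X) (hy : y ∈ W),
      Submodule.span (X.presheaf.stalk y)
        (Set.range fun i => M.presheaf.germ W y hy (s i)) = ⊤ := by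
  classical
  obtain ⟨U, hU, hx, -⟩ := exists_isAffineOpen_mem_and_subset (Opens.mem_top x)
  have := Modules.GenStalk.finite_stalk M x
  let K := IsLocalRing.ResidueField (X.presheaf.stalk x)
  let b := Module.finBasis K (K ⊗[X.presheaf.stalk x] M.presheaf.stalk x)
  have hsurj : Function.Surjective (TensorProduct.mk (X.presheaf.stalk x) K (M.presheaf.stalk x) 1) :=
    TensorProduct.mk_surjective _ _ _ IsLocalRing.residue_surjective
  choose v hv using fun i => hsurj (b i)
  have hsp : Submodule.span (X.presheaf.stalk x) (Set.range v) = ⊤ :=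
    IsLocalRing.span_eq_top_of_tmul_eq_basis (R := X.presheaf.stalk x) (f := v) b fun i => hv i
  choose f t hf ht using fun i => QCoh.Stalk.exists_smul_eq_germ M hU hx (v i)
  have hsp' : Submodule.span (X.presheaf.stalk x)
      (Set.range fun i => M.presheaf.germ U x hx (t i)) = ⊤ := by
    rw [eq_top_iff, ← hsp, Submodule.span_le]
    rintro _ ⟨i, rfl⟩
    refine (Submodule.smul_mem_iff_of_isUnit _ ((X.mem_basicOpen (f i) x hx).mp (hf i))).1 ?_
    rw [ht i]
    exact Submodule.subset_span ⟨i, rfl⟩
  obtain ⟨g, hg, hgs⟩ := CurveBundle.LocFree.exists_span_germ hU hx t hsp'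
  refine ⟨X.basicOpen g, fun i => rs M (X.basicOpen_le g) (t i), hg, fun y hy => ?_⟩
  have : (fun i => M.presheaf.germ (X.basicOpen g) y hy (rs M (X.basicOpen_le g) (t i))) =
      fun i => M.presheaf.germ U y (X.basicOpen_le g hy) (t i) :=
    funext fun i => TopCat.Presheaf.germ_res_apply M.presheaf _ y hy (t i)
  rw [this]
  exact hgs y _ hy

/-- Sufficient condition for local freeness: fibre-rank many spanning sections are independent. -/
theorem isFinLocFree_of_li [M.IsQuasicoherent]
    [SheafOfModules.IsFiniteType (R := X.ringCatSheaf) M] (hc : IsLocallyConstant (fibreRank M))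
    (h : ∀ (n : ℕ) (W : X.Opens) (s : Fin n → Γ(M, W)),
      (∀ y ∈ W, fibreRank M y = n) →
      (∀ (y : X) (hy : y ∈ W), Submodule.span (X.presheaf.stalk y)
        (Set.range fun i => M.presheaf.germ W y hy (s i)) = ⊤) →
      ∀ (y : X) (hy : y ∈ W), LinearIndependent (X.presheaf.stalk y)
        fun i => M.presheaf.germ W y hy (s i)) :
    FlatMod.IsFinLocFree M := by
  intro x
  obtain ⟨W, s, hxW, hs⟩ := exists_span_nhd (M := M) x
  obtain ⟨O, hO, hxO, hconst⟩ := hc.exists_open x
  let W' : X.Opens := W ⊓ ⟨O, hO⟩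
  have hle : W' ≤ W := inf_le_left
  let s' := fun i => rs M hle (s i)
  have hsp : ∀ (y : X) (hy : y ∈ W'), Submodule.span (X.presheaf.stalk y)
      (Set.range fun i => M.presheaf.germ W' y hy (s' i)) = ⊤ := fun y hy => by
    rw [show (fun i => M.presheaf.germ W' y hy (s' i)) = fun i => M.presheaf.germ W y hy.1 (s i) from
      funext fun i => TopCat.Presheaf.germ_res_apply M.presheaf _ y hy (s i)]
    exact hs y hy.1
  exact ⟨W', fibreRank M x, ⟨hxW, hxO⟩, CurveBundle.LocFree.nonempty_iso_free s'
    (h _ W' s' (fun y hy => hconst y hy.2) hsp) hsp⟩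

lemma fibreRank_eq_finrank (x : X) [Module.Free (X.presheaf.stalk x) (M.presheaf.stalk x)] :
    fibreRank M x = Module.finrank (X.presheaf.stalk x) (M.presheaf.stalk x) :=
  Module.finrank_baseChange

/-- On a reduced scheme, sections spanning all stalks in number the fibre rank are independent. -/
lemma linearIndependent_of_isReduced [IsReduced X] {n : ℕ} {W : X.Opens} (s : Fin n → Γ(M, W))
    (hn : ∀ y ∈ W, fibreRank M y = n)
    (hsp : ∀ (y : X) (hy : y ∈ W), Submodule.span (X.presheaf.stalk y)
      (Set.range fun i => M.presheaf.germ W y hy (s i)) = ⊤) (y : X) (hy : y ∈ W) :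
    LinearIndependent (X.presheaf.stalk y) fun i => M.presheaf.germ W y hy (s i) := by
  classical
  rw [Fintype.linearIndependent_iff]
  intro c hc k
  choose V hV' a ha using fun i => TopCat.Presheaf.exists_germ_eq X.presheaf (c i)
  let V₀ : X.Opens := W ⊓ Finset.univ.inf V
  have hV₀ : ∀ i, V₀ ≤ V i := fun i => inf_le_right.trans (Finset.inf_le (Finset.mem_univ i))
  have hyV₀ : y ∈ V₀ := ⟨hy, by
    rw [Opens.coe_finset_inf]
    simpa using hV'⟩
  let a' : Fin n → Γ(X, V₀) := fun i => rf (hV₀ i) (a i)
  have ha' : ∀ i, X.presheaf.germ V₀ y hyV₀ (a' i) = c i := fun i =>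
    (TopCat.Presheaf.germ_res_apply X.presheaf _ y hyV₀ (a i)).trans (ha i)
  have hz : M.presheaf.germ V₀ y hyV₀ (∑ i, a' i • rs M inf_le_left (s i)) =
      M.presheaf.germ V₀ y hyV₀ 0 := by
    rw [map_zero, map_sum, ← hc]
    refine Finset.sum_congr rfl fun i _ => ?_
    rw [Modules.StalkModule.germ_smul hyV₀, ha']
    exact congrArg _ (TopCat.Presheaf.germ_res_apply M.presheaf _ y hyV₀ (s i))
  obtain ⟨V₁, hyV₁, i₁, i₂, hV₁⟩ := TopCat.Presheaf.germ_eq M.presheaf y hyV₀ hyV₀ _ _ hz
  have hle : V₁ ≤ W := i₁.le.trans inf_le_left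
  have hsum : ∑ i, rf i₁.le (a' i) • rs M hle (s i) = 0 := by
    have h1 : rs M i₁.le (∑ i, a' i • rs M inf_le_left (s i)) = 0 := hV₁.trans (map_zero _)
    rw [Basis.rs_sum] at h1
    simpa only [rs_smul, rs_rs] using h1
  suffices h0 : rf i₁.le (a' k) = 0 by
    rw [← ha' k]
    have := congrArg (X.presheaf.germ V₁ y hyV₁) h0
    rw [map_zero] at this
    exact (TopCat.Presheaf.germ_res_apply X.presheaf _ y hyV₁ (a' k)).symm.trans this
  refine eq_zero_of_basicOpen_eq_bot _ (eq_bot_iff.2 fun z hz' => ?_)
  exfalso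
  have hzV : z ∈ V₁ := X.basicOpen_le _ hz'
  let K := IsLocalRing.ResidueField (X.presheaf.stalk z)
  let w : Fin n → K ⊗[X.presheaf.stalk z] M.presheaf.stalk z :=
    fun i => 1 ⊗ₜ M.presheaf.germ W z (hle hzV) (s i)
  have hw : Submodule.span K (Set.range w) = ⊤ := by
    rw [eq_top_iff]
    intro u hu
    clear hu
    induction u using TensorProduct.induction_on with
    | zero => exact zero_mem _
    | add p q hp hq => exact add_mem hp hq
    | tmul r m =>
      obtain ⟨d, hd⟩ := (Submodule.mem_span_range_iff_exists_fun _).1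
        ((hsp z (hle hzV)).ge (Submodule.mem_top : m ∈ ⊤))
      rw [← hd, TensorProduct.tmul_sum]
      refine Submodule.sum_mem _ fun i _ => ?_
      rw [← TensorProduct.smul_tmul, ← mul_one (d i • r), ← smul_eq_mul (a := d i • r),
        ← TensorProduct.smul_tmul']
      exact Submodule.smul_mem _ _ (Submodule.subset_span ⟨i, rfl⟩)
  have hli : LinearIndependent K w :=
    linearIndependent_of_top_le_span_of_card_eq_finrank hw.ge
      (by rw [Fintype.card_fin]; exact (hn z (hle hzV)).symm)
  have hrel : ∑ i, IsLocalRing.residue (X.presheaf.stalk z) (X.presheaf.germ V₁ z hzV (rf i₁.le (a' i))) • w i = 0 := by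
    have h1 := congrArg (fun u => (1 : K) ⊗ₜ[X.presheaf.stalk z] M.presheaf.germ V₁ z hzV u) hsum
    simp only [map_zero, TensorProduct.tmul_zero] at h1
    rw [← h1, map_sum, TensorProduct.tmul_sum]
    refine Finset.sum_congr rfl fun i _ => ?_
    rw [Modules.StalkModule.germ_smul hzV, ← TensorProduct.smul_tmul,
      TensorProduct.smul_tmul' (IsLocalRing.residue (X.presheaf.stalk z) _) (1 : K)]
    refine congrArg₂ (· ⊗ₜ[X.presheaf.stalk z] ·) ?_
      (TopCat.Presheaf.germ_res_apply M.presheaf (homOfLE hle) z hzV (s i)).symm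
    rw [smul_eq_mul, mul_one, Algebra.smul_def, mul_one]
    rfl
  have hk := Fintype.linearIndependent_iff.1 hli _ hrel k
  exact (IsLocalRing.residue_ne_zero_iff_isUnit _).2 ((Scheme.mem_basicOpen X _ z hzV).1 hz') hk

/-- The fibre rank of a finite locally free module is locally constant. -/
theorem isLocallyConstant_fibreRank [SheafOfModules.IsFiniteType (R := X.ringCatSheaf) M]
    (hM : FlatMod.IsFinLocFree M) :
    IsLocallyConstant (fibreRank M) := by
  have hfree := FPConv.free_stalk_of_isFinLocFree hM
  refine (IsLocallyConstant.iff_exists_open _).2 fun x => ?_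
  obtain ⟨U, n, hxU, ⟨i⟩⟩ := hM x
  refine ⟨U, U.2, hxU, fun y hy => ?_⟩
  suffices h : ∀ z : X, z ∈ U → fibreRank M z = n by rw [h y hy, h x hxU]
  intro z hz
  obtain ⟨e, he⟩ := Basis.exists_basis_of_iso i
  have hsp : ⊤ ≤ Submodule.span (X.presheaf.stalk z)
      (Set.range fun k => M.presheaf.germ U z hz (e k)) := fun w _ => by
    obtain ⟨V, hzV, t, rfl⟩ := TopCat.Presheaf.exists_germ_eq M.presheaf w
    let V' : X.Opens := V ⊓ U
    obtain ⟨a, ha⟩ := (he V' inf_le_right).2 (rs M (inf_le_left : V' ≤ V) t)
    have hz' : z ∈ V' := ⟨hzV, hz⟩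
    have h1 := congrArg (M.presheaf.germ V' z hz') ha
    rw [show M.presheaf.germ V' z hz' (rs M (inf_le_left : V' ≤ V) t) = M.presheaf.germ V z hzV t
      from TopCat.Presheaf.germ_res_apply M.presheaf _ z _ t] at h1
    rw [← h1, Basis.comb, map_sum]
    refine Submodule.sum_mem _ fun k _ => ?_
    rw [Modules.StalkModule.germ_smul]
    refine Submodule.smul_mem _ _ (Submodule.subset_span ⟨k, ?_⟩)
    exact (TopCat.Presheaf.germ_res_apply M.presheaf _ z _ (e k)).symm
  let u : (U : Scheme.{u}) := ⟨z, hz⟩
  have := hfree z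
  rw [fibreRank_eq_finrank]
  refine le_antisymm ?_ ?_
  · exact (finrank_le_of_span_eq_top (top_le_iff.1 hsp)).trans_eq (Fintype.card_fin n)
  · let q := Modules.StalkRestrict.restrictStalkAddEquiv U.ι M u
    let b := (Modules.FreeStalk.stalkBasis (U : Scheme.{u}) n u).map
      (Modules.StalkModule.stalkLinearEquiv i.symm u)
    have hσ := ConcreteCategory.bijective_of_isIso (U.ι.stalkMap u)
    have hli : LinearIndependent (X.presheaf.stalk (U.ι u)) fun k => q (b k) := by
      rw [Fintype.linearIndependent_iff]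
      intro a ha k
      have h0 : ∑ j, U.ι.stalkMap u (a j) • b j = 0 := by
        apply q.injective
        rw [map_zero, map_sum, ← ha]
        exact Finset.sum_congr rfl fun j _ =>
          Modules.StalkRestrict.restrictStalkAddEquiv_smul U.ι M u _ _
      exact hσ.1 (((Fintype.linearIndependent_iff.1 b.linearIndependent) _ h0 k).trans
        (map_zero _).symm)
    have := Modules.GenStalk.finite_stalk M (U.ι u)
    exact (Fintype.card_fin n).symm.trans_le hli.fintype_card_le_finrank

end Groth.Agent.Lib.TensorMod.FTCrit
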